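import Cfsg.Agent.Mrg.Omega.OM.Lev.Low.TorusK.Inst
import Cfsg.Agent.Mrg.Omega.OM.Lev.Low.TorusK.PBCj
import Cfsg.Agent.Mrg.Omega.OM.Lev.Low.TorusK.Pair
import Cfsg.Agent.Mrg.Omega.OM.Lev.Low.BlOf
import Cfsg.Agent.Mrg.Omega.OM.Lev.Low.FrFour
import Cfsg.Agent.Mrg.Omega.OM.SwapV.Lv.Frame
import Cfsg.Agent.Mrg.Omega.OM.SwapL.Main
import Cfsg.Agent.Mrg.Omega.EK3.Q.Loc
import Cfsg.Agent.Mrg.Omega.VP
import Cfsg.Agent.Mrg.Omega.OM.SwapV.LowZ
import Cfsg.Agent.Mrg.Omega.NOThreeL.RTree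
import Cfsg.Agent.Mrg.Omega.OM.LowV.Line
import Cfsg.Agent.Mrg.Omega.NOThreeL.RRed.BFr.VSup
import Cfsg.Agent.Mrg.Omega.OM.SwapV.Q.CorOf
import Cfsg.Agent.Mrg.Omega.NOThreeL.RRed.Base
import Cfsg.Agent.Mrg.Omega.NOThreeL.RLev.Chain
import Cfsg.Agent.Mrg.Omega.NO3S.Level.Fam
import Cfsg.Agent.Mrg.Omega.NO3S.OneLine.LevOf
import Cfsg.Agent.Mrg.Omega.OM.Lev.FixPt
import Cfsg.Agent.Mrg.Omega.OM.FrNat
import Cfsg.Agent.Mrg.Omega.OM.Lev.GSym

-- merged: Cfsg.Agent.Mrg.Omega.OM.SwapV.Torus.Frame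
section

/-!
# TORUS over an abstract module `V` (box R): the frame (helper607's `TorusK/Frame.lean`, the letter `S` = any group)

As `TorusK.TK`, `TorusK.BK`; the letter `S` is any group `M ≤ N(B)` which is transitive on the lines (in box R:
`M = MZ S ⊓ N(B)`); only `B` is a 2-group. The proofs of `TorusK/Frame.lean`.
-/

set_option autoImplicit false
set_option linter.unusedSectionVars false

namespace Cfsg.Agent.Omega.OM.Lev.Low.TorusV

open Subgroup Cfsg Cfsg.Agent.ZN Cfsg.Agent.ZN.ChoiceBase Cfsg.Agent.Omega.OM.Lev.Low.TorusK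
open Cfsg.Agent.Omega.SQ1.Bau (mem_sup_comm card_sup_comm elem_comm elem_sq)
open Cfsg.Agent.Omega.NO3S.Level.Claim (Fm Bl cB mem_cB cB_le)
open Cfsg.Agent.Omega.OM.Lev.Uni (FrL)
open Cfsg.Agent.Omega.OM.Lev.Low.TorusK.PBC

universe u

variable {G : Type u} [Group G]

/-- The family at the stage. -/
def Fml (B0 X M0 Y0 : Subgroup G) : Prop :=
  ∀ U H : Subgroup G, IsElementaryAbelian 2 U → U ≤ B0 → U ≤ Y0 → H ≤ normalizer (U : Set G) → H ≤ M0 →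
    ∃ (T : Subgroup G) (AA : Set (Subgroup G)), Fm T U H B0 (U ⊓ X) AA

/-- The frame of `S` (any group; transitive on the lines). -/
structure TK {ι : Type} (S B Q V Xn ZJ B0 X M0 Y0 : Subgroup G) (L W Z C A : ι → Subgroup G) (z : G) : Prop where
  fr : FrL B Q V Xn ZJ L W Z C A 2
  fml : Fml B0 X M0 Y0
  two : IsPGroup 2 B
  BS : B ≤ S
  B0B : B0 ≤ B
  SB : S ≤ normalizer (B : Set G)
  SB0 : S ≤ normalizer (B0 : Set G)
  SX : S ≤ normalizer (X : Set G)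
  zB : zc B0 = X
  VX : V ≤ X
  XY : X ≤ Y0
  mX : ∀ s ∈ B, (∀ x ∈ X, s * x = x * s) → s ∈ B0
  /-- `C_X(Q) = V` -/
  cQ : ∀ x ∈ X, (∀ y ∈ Q, y * x = x * y) → x ∈ V
  SM : S ≤ M0
  MY : M0 ≤ normalizer (Y0 : Set G)
  perm : ∀ s ∈ S, ∀ i, ∃ j, cj s (W i) = W j ∧ cj s (Z i) = Z j ∧ cj s (C i) = C j
  tr : ∀ i j, ∃ s ∈ S, cj s (W i) = W j
  /-- (W): fusion in `ZJ` preserves full support -/
  wt : ∀ g z, z ∈ ZJ → g * z * g⁻¹ ∈ ZJ → (∀ i, z ∉ C i) → ∀ i, g * z * g⁻¹ ∉ C i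
  /-- `B` is a Sylow 2-subgroup of `C_G(z_p : p ≠ l)` -/
  syl : ∀ l, ∀ T : Subgroup G, IsPGroup 2 T → B ≤ T → (∀ p, p ≠ l → T ≤ centralizer (Z p : Set G)) → T ≤ B
  /-- `Ω₁Z(O₂(C_G(z_p : p ≠ l)))` -/
  loc1 : ∀ l, ∃ E : Subgroup G, IsElementaryAbelian 2 E ∧ E ≤ B ∧ ZJ ≤ E ∧
    ∀ g, (∀ p, p ≠ l → ∀ x ∈ Z p, g * x = x * g) → g ∈ normalizer (E : Set G)
  /-- `Ω₁Z(O₂(C_G(z_p : p ≠ l, m)))` -/
  loc2 : ∀ l m, l ≠ m → ∃ E : Subgroup G, IsElementaryAbelian 2 E ∧ (∀ e ∈ E, (∀ x ∈ X, e * x = x * e) → e ∈ B0) ∧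
    (∀ x ∈ Z l, ∀ y ∈ Z m, x ≠ 1 → y ≠ 1 → x * y ∈ E) ∧
    ∀ g, (∀ p, p ≠ l → p ≠ m → ∀ x ∈ Z p, g * x = x * g) → g ∈ normalizer (E : Set G)
  /-- `z` has full support and is centralised by `S` -/
  zJ : z ∈ ZJ
  zS : ∀ s ∈ S, s * z = z * s
  zC : ∀ i, z ∉ C i

/-- A torus block `K` over `B₀` with line `W l`, module `[N, K]`. -/
structure BK {ι : Type} (B B0 X M0 Y0 : Subgroup G) (W : ι → Subgroup G) (l : ι) (K N N1 N0 : Subgroup G) : Prop where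
  pb : PB B0 K N N1 N0 4
  NY : N ≤ Y0
  KM : K ≤ M0
  WN : W l ≤ N1
  WN0 : W l ⊓ N0 = ⊥
  /-- `K` centralises the other `W p` -/
  cW : ∀ p, p ≠ l → ∀ w ∈ W p, ∀ k ∈ K, k * w = w * k
  BX : B ≤ normalizer ((X ⊓ centralizer (K : Set G) : Subgroup G) : Set G)
  /-- a torus element -/
  tor : ∃ h ∈ K, h ∈ normalizer (B0 : Set G) ∧ (∀ w ∈ W l, h * w * h⁻¹ ∈ W l) ∧ ∀ w ∈ W l, h * w * h⁻¹ = w → w = 1

namespace TK

variable {ι : Type} {S B Q V Xn ZJ B0 X M0 Y0 : Subgroup G} {L W Z C A : ι → Subgroup G} {z : G}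
  (h : TK S B Q V Xn ZJ B0 X M0 Y0 L W Z C A z)

include h

theorem elX [Finite G] : IsElementaryAbelian 2 X := by
  rw [← h.zB]
  exact NO3S.OneLine.zc_elem B0

theorem Xc [Finite G] {x y : G} (hx : x ∈ X) (hy : y ∈ X) : x * y = y * x := elem_comm h.elX x hx y hy

theorem XB0 : X ≤ B0 := by
  rw [← h.zB]
  exact fun x hx => (ChoiceBase.mem_zc.1 hx).1

theorem cX {b x : G} (hb : b ∈ B0) (hx : x ∈ X) : b * x = x * b := by
  rw [← h.zB] at hx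
  exact (ChoiceBase.mem_zc.1 hx).2.2 b hb

theorem WX (i : ι) : W i ≤ X := (h.fr.WV i).trans h.VX

theorem ZX (i : ι) : Z i ≤ X := (h.fr.ZV i).trans h.VX

theorem ZJX : ZJ ≤ X := h.fr.ZJV.trans h.VX

theorem ZW (i : ι) : Z i ≤ W i := (h.fr.blk i).ZV

theorem cardW (i : ι) : Nat.card (W i) = 4 := by
  rw [(h.fr.blk i).card, h.fr.cardZ i]

theorem ZW' (i : ι) {w : G} (hw : w ∈ W i) (hJ : w ∈ ZJ) : w ∈ Z i :=
  (h.fr.blk i).mem_Z_iff.2 ⟨hw, fun b hb => ((h.fr.mem_ZJ w).1 hJ).2 b hb⟩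

/-- `C_X(B) = ZJ` -/
theorem mem_ZJ_of {x : G} (hx : x ∈ X) (hc : ∀ b ∈ B, b * x = x * b) : x ∈ ZJ :=
  (h.fr.mem_ZJ x).2 ⟨h.cQ x hx fun y hy => hc y (h.fr.QB hy), hc⟩

theorem cZJ {b x : G} (hb : b ∈ B) (hx : x ∈ ZJ) : b * x = x * b := ((h.fr.mem_ZJ x).1 hx).2 b hb

/-- the element of order 2 in `Z i` -/
theorem Z_two (i : ι) {x y : G} (hx : x ∈ Z i) (hy : y ∈ Z i) (hx1 : x ≠ 1) (hy1 : y ≠ 1) : x = y := by
  classical
  by_contra hne
  have h2 := h.fr.cardZ i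
  have hfin : Finite (Z i) := Nat.finite_of_card_ne_zero (by rw [h2]; norm_num)
  have h3 : ({⟨1, one_mem _⟩, ⟨x, hx⟩, ⟨y, hy⟩} : Finset (Z i)).card = 3 := by
    rw [Finset.card_eq_three]
    exact ⟨_, _, _, fun e => hx1 (congrArg Subtype.val e).symm, fun e => hy1 (congrArg Subtype.val e).symm,
      fun e => hne (congrArg Subtype.val e), rfl⟩
  have : Fintype (Z i) := Fintype.ofFinite _
  have h4 := Finset.card_le_univ ({⟨1, one_mem _⟩, ⟨x, hx⟩, ⟨y, hy⟩} : Finset (Z i))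
  rw [h3, ← Nat.card_eq_fintype_card, h2] at h4
  omega

/-- **`z ↦ z c` is impossible for `1 ≠ c ∈ ZJ`.** -/
theorem no_shift {g z c : G} (hz : z ∈ ZJ) (hf : ∀ i, z ∉ C i) (hc : c ∈ ZJ) (he : g * z * g⁻¹ = z * c) : c = 1 := by
  by_contra hc1
  have h1 : ¬ ∀ i, c ∈ C i := fun hall => hc1 (h.fr.C0 c (h.fr.ZJV hc) hall)
  push Not at h1
  obtain ⟨p, hp⟩ := h1
  obtain ⟨w, hw, d, hd, -, ez⟩ := h.fr.split_ZJ p hz
  obtain ⟨w', hw', d', hd', -, ec⟩ := h.fr.split_ZJ p hc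
  have hw1 : w ≠ 1 := fun e => hf p (by rw [ez, e, one_mul]; exact hd)
  have hw1' : w' ≠ 1 := fun e => hp (by rw [ec, e, one_mul]; exact hd')
  have e1 : w = w' := h.Z_two p hw hw' hw1 hw1'
  have hgz : g * z * g⁻¹ ∈ ZJ := by rw [he]; exact mul_mem hz hc
  refine h.wt g z hz hgz hf p ?_
  have hww : w * w = 1 := by
    have := elem_sq h.fr.el w (h.fr.ZV p hw)
    rwa [pow_two] at this
  have e2 : g * z * g⁻¹ = d * d' := by
    rw [he, ez, ec, ← e1]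
    calc w * d * (w * d') = w * (d * w) * d' := by group
      _ = w * (w * d) * d' := by rw [h.fr.Vc (h.fr.CV p hd) (h.fr.ZV p hw)]
      _ = w * w * (d * d') := by group
      _ = d * d' := by rw [hww, one_mul]
  rw [e2]
  exact mul_mem hd hd'

/-- an element of `ZJ ∩ C l` is a product of elements of the `Z p`, `p ≠ l` -/
theorem mem_of_C [Finite ι] {l : ι} {H : Subgroup G} (hH : ∀ p, p ≠ l → Z p ≤ H) {c : G} (hc : c ∈ ZJ) (hl : c ∈ C l) :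
    c ∈ H := by
  have h1 : ZJ ≤ H ⊔ Z l := zj_le h.fr fun i => by
    by_cases hi : i = l
    · rw [hi]; exact le_sup_right
    · exact (hH i hi).trans le_sup_left
  -- use `H' = closure of the Z p`
  have h2 : ZJ ≤ (⨆ (p) (_ : p ≠ l), Z p) ⊔ Z l := zj_le h.fr fun i => by
    by_cases hi : i = l
    · rw [hi]; exact le_sup_right
    · exact (le_iSup₂_of_le (f := fun p (_ : p ≠ l) => Z p) i hi le_rfl).trans le_sup_left
  have h3 : (⨆ (p) (_ : p ≠ l), Z p) ≤ C l :=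
    iSup₂_le fun p hp => (h.ZW p).trans (h.fr.WjC l p (Ne.symm hp))
  obtain ⟨a, ha, b, hb, e⟩ := mem_sup_comm (fun a ha b hb =>
    h.fr.Vc ((h3.trans (h.fr.CV l)) ha) (h.fr.ZV l hb)) (h2 hc)
  have h4 : b = 1 := by
    have h5 : b ∈ W l ⊓ C l := by
      refine mem_inf.2 ⟨h.ZW l hb, ?_⟩
      have : b = a⁻¹ * c := by rw [e]; group
      rw [this]
      exact mul_mem (inv_mem (h3 ha)) hl
    rw [h.fr.dir l, mem_bot] at h5
    exact h5
  rw [e, h4, mul_one]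
  exact (iSup₂_le fun p hp => hH p hp) ha

/-- `t ∈ B` which centralises `C p` and moves `W p` -/
theorem exists_t (p : ι) : ∃ t ∈ B, (∀ c ∈ C p, t * c = c * t) ∧ ∃ w ∈ W p, t * w ≠ w * t := by
  have h1 := h.fr.Ane p
  push Not at h1
  obtain ⟨a, ha, w, hw, hne⟩ := h1
  exact ⟨a, h.fr.AB p ha, fun c hc => h.fr.AC p a ha c hc, w, hw, hne⟩

theorem SMY : S ≤ normalizer (Y0 : Set G) := h.SM.trans h.MY

end TK

namespace BK

variable {ι : Type} {S B Q V Xn ZJ B0 X M0 Y0 : Subgroup G} {L W Z C A : ι → Subgroup G} {z : G}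
  {l : ι} {K N N1 N0 : Subgroup G}

theorem N1_eq [Finite G] (k : BK B B0 X M0 Y0 W l K N N1 N0) (hc : Nat.card (W l) = 4) : N1 = W l ⊔ N0 := by
  have hcm : ∀ a ∈ W l, ∀ b ∈ N0, a * b = b * a := fun a ha b hb =>
    k.pb.comm (k.pb.N1N (k.WN ha)) (k.pb.N1N (k.pb.N01 hb))
  have h1 := card_sup_comm hcm
  rw [k.WN0, hc, Subgroup.card_bot, mul_one] at h1
  have h2 := k.pb.card1
  have hle : W l ⊔ N0 ≤ N1 := sup_le k.WN k.pb.N01
  exact (Subgroup.eq_of_le_of_card_ge hle (by rw [h2, h1, mul_comm])).symm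

/-- **conjugates** -/
theorem cj (h : TK S B Q V Xn ZJ B0 X M0 Y0 L W Z C A z) [Finite G] (k : BK B B0 X M0 Y0 W l K N N1 N0) {s : G}
    (hs : s ∈ S) {m : ι} (hm : ChoiceBase.cj s (W l) = W m) :
    BK B B0 X M0 Y0 W m (ChoiceBase.cj s K) (ChoiceBase.cj s N) (ChoiceBase.cj s N1) (ChoiceBase.cj s N0) where
  pb := by
    have h1 := pb_cj k.pb s
    rwa [cj_eq_of_mem_normalizer (h.SB0 hs)] at h1
  NY := by
    have h1 := cj_mono s k.NY
    rwa [cj_eq_of_mem_normalizer (h.SMY hs)] at h1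
  KM := by
    have h1 := cj_mono s k.KM
    rwa [cj_eq_of_mem_normalizer (le_normalizer (h.SM hs))] at h1
  WN := by rw [← hm]; exact cj_mono s k.WN
  WN0 := by
    rw [← hm, ← cj_inf, k.WN0]
    exact Subgroup.map_bot _
  cW := by
    intro p hp w hw x hx0
    obtain ⟨x, hx, rfl⟩ := ex_cj hx0
    obtain ⟨j, hj, -, -⟩ := h.perm s⁻¹ (inv_mem hs) p
    have hjl : j ≠ l := fun e => hp (by
      have h1 : ChoiceBase.cj s (W j) = W p := by rw [← hj, cj_cj, mul_inv_cancel, cj_one]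
      rw [e, hm] at h1
      by_contra hne
      have h2 := h.fr.WjC m p (Ne.symm hne)
      rw [← h1] at h2
      have h3 : W m ≤ W m ⊓ C m := le_inf le_rfl h2
      rw [h.fr.dir m] at h3
      have h4 := h.cardW m
      rw [eq_bot_iff.2 h3, Subgroup.card_bot] at h4
      omega)
    have hw' : s⁻¹ * w * s ∈ W j := by
      rw [← hj, mem_cj']
      simpa [mul_assoc] using hw
    have h1 := k.cW j hjl _ hw' x hx
    have h2 := (PBC.comm_cj (g := s)).2 h1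
    have e : s * (s⁻¹ * w * s) * s⁻¹ = w := by group
    rwa [e] at h2
  BX := by
    have h1 : ChoiceBase.cj s (X ⊓ centralizer (K : Set G)) = X ⊓ centralizer (ChoiceBase.cj s K : Set G) := by
      rw [cj_inf, cj_centralizer, cj_eq_of_mem_normalizer (h.SX hs)]
    rw [← h1]
    intro b hb
    rw [mem_normalizer_iff_cj]
    have hb' : s⁻¹ * b * s ∈ B := by
      have := (mem_normalizer_iff.1 (inv_mem (h.SB hs)) b).1 hb
      simpa using this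
    have h2 := cj_eq_of_mem_normalizer (k.BX hb')
    rw [cj_cj, show b * s = s * (s⁻¹ * b * s) by group, ← cj_cj, h2]
  tor := by
    obtain ⟨x, hx, hxB, hxW, hxf⟩ := k.tor
    refine ⟨_, cj_mem hx, ?_, ?_, ?_⟩
    · have h1 : s ∈ normalizer (B0 : Set G) := h.SB0 hs
      exact mul_mem (mul_mem h1 hxB) (inv_mem h1)
    · intro w hw0
      rw [← hm] at hw0 ⊢
      obtain ⟨w, hw, rfl⟩ := ex_cj hw0
      have e : s * x * s⁻¹ * (s * w * s⁻¹) * (s * x * s⁻¹)⁻¹ = s * (x * w * x⁻¹) * s⁻¹ := by group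
      rw [e]
      exact cj_mem (hxW w hw)
    · intro w hw0 he
      rw [← hm] at hw0
      obtain ⟨w, hw, rfl⟩ := ex_cj hw0
      have e : s * x * s⁻¹ * (s * w * s⁻¹) * (s * x * s⁻¹)⁻¹ = s * (x * w * x⁻¹) * s⁻¹ := by group
      rw [e] at he
      have h1 := hxf w hw (mul_left_cancel (mul_right_cancel he))
      rw [h1]; group

end BK

end Cfsg.Agent.Omega.OM.Lev.Low.TorusV

end

-- merged: Cfsg.Agent.Mrg.Omega.OM.SwapV.Torus.Uni
section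

section


/-!
# TORUS over an abstract module (box R): the common elementary abelian groups, (UNI) (the proofs of `TorusK/Uni.lean`)
-/

set_option autoImplicit false
set_option linter.unusedSectionVars false

namespace Cfsg.Agent.Omega.OM.Lev.Low.TorusV

open Subgroup Cfsg Cfsg.Agent.ZN Cfsg.Agent.ZN.ChoiceBase Cfsg.Agent.Omega.OM.Lev.Low.TorusK
open Cfsg.Agent.Omega.SQ1.Bau (mem_sup_comm card_sup_comm elem_comm elem_sq)
open Cfsg.Agent.Omega.NO3S.Level.Claim (Fm Bl cB mem_cB cB_le)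
open Cfsg.Agent.Omega.OM.Lev.Uni (FrL)
open Cfsg.Agent.Omega.OM.Lev.Low.TorusK.PBC
open scoped commutatorElement

universe u

variable {G : Type u} [Group G] {ι : Type} {S B Q V Xn ZJ B0 X M0 Y0 : Subgroup G} {L W Z C A : ι → Subgroup G} {z : G}
  {l : ι} {K N N1 N0 : Subgroup G}

namespace BK

/-- `[X, K] ≤ [N, K]` -/
theorem act [Finite G] (h : TK S B Q V Xn ZJ B0 X M0 Y0 L W Z C A z) (k : BK B B0 X M0 Y0 W l K N N1 N0) {g x : G}
    (hg : g ∈ K) (hx : x ∈ X) : g * x * g⁻¹ * x⁻¹ ∈ (⁅N, K⁆ : Subgroup G) := by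
  rw [← h.zB] at hx
  obtain ⟨c, hc, hcl, n, hn, rfl⟩ := k.pb.Z_split hx
  have h1 := k.pb.comm_mem hg (k.pb.N1N hn)
  have h2 : c * (g * n * g⁻¹ * n⁻¹) = (g * n * g⁻¹ * n⁻¹) * c :=
    ((ChoiceBase.mem_zc.1 hc).2.2 _ (k.pb.NB (k.pb.VN h1))).symm
  have e : g * (c * n) * g⁻¹ * (c * n)⁻¹ = g * n * g⁻¹ * n⁻¹ := by
    calc g * (c * n) * g⁻¹ * (c * n)⁻¹ = (g * c) * n * g⁻¹ * (n⁻¹ * c⁻¹) := by group
      _ = (c * g) * n * g⁻¹ * (n⁻¹ * c⁻¹) := by rw [hcl g hg]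
      _ = c * (g * n * g⁻¹ * n⁻¹) * c⁻¹ := by group
      _ = (g * n * g⁻¹ * n⁻¹) * c * c⁻¹ := by rw [h2]
      _ = _ := by group
  rw [e]
  exact h1

/-- a `K`-invariant `D ≤ N` containing an element `≠ 1` of `W l` contains `[N, K]` -/
theorem le_of [Finite G] (k : BK B B0 X M0 Y0 W l K N N1 N0) {D : Subgroup G} (hD : K ≤ normalizer (D : Set G)) {w : G}
    (hw : w ∈ W l) (hw1 : w ≠ 1) (hwD : w ∈ D) : ⁅N, K⁆ ≤ D := by
  have hU : K ≤ normalizer ((D ⊓ N : Subgroup G) : Set G) := fun g hg => by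
    rw [mem_normalizer_iff_cj, cj_inf, cj_eq_of_mem_normalizer (hD hg), cj_eq_of_mem_normalizer (k.pb.LN hg)]
  have hne : ¬ D ⊓ N ≤ N0 := fun hle => hw1 (by
    have h1 : w ∈ W l ⊓ N0 := ⟨hw, hle ⟨hwD, k.pb.N1N (k.WN hw)⟩⟩
    rwa [k.WN0, mem_bot] at h1)
  rw [Subgroup.commutator_le]
  intro v hv g hg
  obtain ⟨u, hu, n, hn, rfl⟩ := k.pb.cover inf_le_right hU hne hv
  have h1 : ⁅u * n, g⁆ = u * (g * u⁻¹ * g⁻¹) := by
    rw [commutatorElement_def]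
    have h2 := k.pb.N0c g hg n⁻¹ (inv_mem hn)
    calc u * n * g * (u * n)⁻¹ * g⁻¹ = u * n * (g * n⁻¹) * u⁻¹ * g⁻¹ := by group
      _ = u * n * (n⁻¹ * g) * u⁻¹ * g⁻¹ := by rw [h2]
      _ = _ := by group
  rw [h1]
  exact mul_mem hu.1 ((mem_normalizer_iff.1 (hD hg) _).1 (inv_mem hu.1))

/-- elements of `W l` centralised by `K` -/
theorem W_cen (k : BK B B0 X M0 Y0 W l K N N1 N0) {w : G} (hw : w ∈ W l) (hc : ∀ g ∈ K, g * w = w * g) : w = 1 := by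
  obtain ⟨t, ht, -, -, hf⟩ := k.tor
  exact hf w hw (by rw [hc t ht]; group)

/-- if `e = w c` with `1 ≠ w ∈ W l`, `c` centralised by `K`, is in the `K`-invariant group `D`, then `[N, K] ≤ D` -/
theorem le_of' [Finite G] (k : BK B B0 X M0 Y0 W l K N N1 N0) {D : Subgroup G} (hD : K ≤ normalizer (D : Set G))
    {w c : G} (hw : w ∈ W l) (hw1 : w ≠ 1) (hc : ∀ g ∈ K, g * c = c * g) (hwD : w * c ∈ D) : ⁅N, K⁆ ≤ D := by
  obtain ⟨t, ht, -, htW, hf⟩ := k.tor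
  refine k.le_of hD (w := t * w * t⁻¹ * w⁻¹) (mul_mem (htW w hw) (inv_mem hw)) (fun e => hw1 (hf w hw ?_)) ?_
  · exact mul_inv_eq_one.1 e
  · have h1 := mul_mem ((mem_normalizer_iff.1 (hD ht) _).1 hwD) (inv_mem hwD)
    have e : t * (w * c) * t⁻¹ * (w * c)⁻¹ = t * w * t⁻¹ * w⁻¹ := by
      have h2 := hc t ht
      calc t * (w * c) * t⁻¹ * (w * c)⁻¹ = t * w * (c * t⁻¹) * c⁻¹ * w⁻¹ := by group
        _ = t * w * (t⁻¹ * (t * c) * t⁻¹) * c⁻¹ * w⁻¹ := by group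
        _ = t * w * (t⁻¹ * (c * t) * t⁻¹) * c⁻¹ * w⁻¹ := by rw [h2]
        _ = _ := by group
    rw [e] at h1
    exact h1

theorem VB0 [Finite G] (k : BK B B0 X M0 Y0 W l K N N1 N0) : ⁅N, K⁆ ≤ B0 := k.pb.VN.trans k.pb.NB

theorem VY0 [Finite G] (k : BK B B0 X M0 Y0 W l K N N1 N0) : ⁅N, K⁆ ≤ Y0 := k.pb.VN.trans k.NY

end BK

/-- the group `E ∩ C(X) ∩ Y₀` -/
theorem exists_U_aux [Finite G] (h : TK S B Q V Xn ZJ B0 X M0 Y0 L W Z C A z) {E : Subgroup G}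
    (hE : IsElementaryAbelian 2 E) (hEB : ∀ e ∈ E, (∀ x ∈ X, e * x = x * e) → e ∈ B0) :
    ∃ U : Subgroup G, IsElementaryAbelian 2 U ∧ U ≤ B0 ∧ U ≤ Y0 ∧ U ≤ E ∧ ∀ l K N N1 N0, BK B B0 X M0 Y0 W l K N N1 N0 →
      K ≤ normalizer (E : Set G) → (∃ w ∈ W l, w ≠ 1 ∧ ∃ c, (∀ g ∈ K, g * c = c * g) ∧ w * c ∈ E) →
        ⁅N, K⁆ ≤ U ∧ K ≤ normalizer (U : Set G) := by
  refine ⟨E ⊓ centralizer (X : Set G) ⊓ Y0, Cfsg.Agent.PLocal.ThompsonJ.isElementaryAbelian_mono hE (inf_le_left.trans inf_le_left), ?_, inf_le_right,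
    inf_le_left.trans inf_le_left, ?_⟩
  · rintro e ⟨⟨h1, h2⟩, -⟩
    exact hEB e h1 fun x hx => (mem_centralizer_iff.1 h2 x hx).symm
  · rintro l K N N1 N0 k hKE ⟨w, hw, hw1, c, hc, hwc⟩
    have hVE : ⁅N, K⁆ ≤ E := k.le_of' hKE hw hw1 hc hwc
    refine ⟨le_inf (le_inf hVE fun v hv => mem_centralizer_iff.2 fun x hx => ?_) k.VY0, ?_⟩
    · exact (h.cX (k.VB0 hv) hx).symm
    · intro g hg
      have key : ∀ g ∈ K, cj g (E ⊓ centralizer (X : Set G) ⊓ Y0) ≤ E ⊓ centralizer (X : Set G) ⊓ Y0 := by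
        intro g hg y hy0
        obtain ⟨y, ⟨⟨hyE, hyX⟩, hyY⟩, rfl⟩ := ex_cj hy0
        refine ⟨⟨(mem_normalizer_iff.1 (hKE hg) _).1 hyE, mem_centralizer_iff.2 fun x hx => ?_⟩,
          (mem_normalizer_iff.1 (h.MY (k.KM hg)) _).1 hyY⟩
        have h1 := k.act h (inv_mem hg) hx
        have h2 : y * (g⁻¹ * x * g⁻¹⁻¹ * x⁻¹) = (g⁻¹ * x * g⁻¹⁻¹ * x⁻¹) * y := elem_comm hE y hyE _ (hVE h1)
        have h3 : x * y = y * x := mem_centralizer_iff.1 hyX x hx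
        have h4 : y * (g⁻¹ * x * g) = (g⁻¹ * x * g) * y := by
          calc y * (g⁻¹ * x * g) = y * (g⁻¹ * x * g⁻¹⁻¹ * x⁻¹) * x := by group
            _ = (g⁻¹ * x * g⁻¹⁻¹ * x⁻¹) * (y * x) := by rw [h2]; group
            _ = (g⁻¹ * x * g⁻¹⁻¹ * x⁻¹) * (x * y) := by rw [h3]
            _ = _ := by group
        calc x * (g * y * g⁻¹) = g * ((g⁻¹ * x * g) * y) * g⁻¹ := by group
          _ = g * (y * (g⁻¹ * x * g)) * g⁻¹ := by rw [h4]
          _ = _ := by group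
      exact mem_normalizer_of_cj_le (key g hg)

namespace TK

variable (h : TK S B Q V Xn ZJ B0 X M0 Y0 L W Z C A z)
include h

theorem exists_Z (i : ι) : ∃ x ∈ Z i, x ≠ 1 := by
  by_contra hc
  push Not at hc
  have h1 : Z i = ⊥ := eq_bot_iff.2 fun x hx => mem_bot.2 (hc x hx)
  have h2 := h.fr.cardZ i
  rw [h1, Subgroup.card_bot] at h2
  omega

/-- **the common group for the blocks over one line** -/
theorem exists_U1 [Finite G] (l : ι) : ∃ U : Subgroup G, IsElementaryAbelian 2 U ∧ U ≤ B0 ∧ U ≤ Y0 ∧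
    ∀ K N N1 N0, BK B B0 X M0 Y0 W l K N N1 N0 → ⁅N, K⁆ ≤ U ∧ K ≤ normalizer (U : Set G) := by
  obtain ⟨E, hE, hEB, hZE, hn⟩ := h.loc1 l
  obtain ⟨U, h1, h2, h3, -, h4⟩ := exists_U_aux h hE fun e he hc => h.mX e (hEB he) hc
  refine ⟨U, h1, h2, h3, fun K N N1 N0 k => ?_⟩
  obtain ⟨x, hx, hx1⟩ := h.exists_Z l
  refine h4 l K N N1 N0 k (fun g hg => hn g fun p hp y hy => k.cW p hp y (h.ZW p hy) g hg) ⟨x, h.ZW l hx, hx1, 1, by simp, ?_⟩
  rw [mul_one]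
  exact hZE (h.fr.Z_le l hx)

/-- **the common group for the blocks over two lines** -/
theorem exists_U2 [Finite G] {l m : ι} (hlm : l ≠ m) : ∃ U : Subgroup G, IsElementaryAbelian 2 U ∧ U ≤ B0 ∧ U ≤ Y0 ∧
    (∀ K N N1 N0, BK B B0 X M0 Y0 W l K N N1 N0 → ⁅N, K⁆ ≤ U ∧ K ≤ normalizer (U : Set G)) ∧
    ∀ K N N1 N0, BK B B0 X M0 Y0 W m K N N1 N0 → ⁅N, K⁆ ≤ U ∧ K ≤ normalizer (U : Set G) := by
  obtain ⟨E, hE, hEB, hZE, hn⟩ := h.loc2 l m hlm
  obtain ⟨U, h1, h2, h3, -, h4⟩ := exists_U_aux h hE hEB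
  obtain ⟨x, hx, hx1⟩ := h.exists_Z l
  obtain ⟨y, hy, hy1⟩ := h.exists_Z m
  have hxy := hZE x hx y hy hx1 hy1
  have hcm : x * y = y * x := h.fr.Vc (h.fr.ZV l hx) (h.fr.ZV m hy)
  refine ⟨U, h1, h2, h3, fun K N N1 N0 k => ?_, fun K N N1 N0 k => ?_⟩
  · exact h4 l K N N1 N0 k (fun g hg => hn g fun p hp _ y hy => k.cW p hp y (h.ZW p hy) g hg)
      ⟨x, h.ZW l hx, hx1, y, fun g hg => k.cW m (Ne.symm hlm) y (h.ZW m hy) g hg, hxy⟩
  · exact h4 m K N N1 N0 k (fun g hg => hn g fun p _ hp y hy => k.cW p hp y (h.ZW p hy) g hg)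
      ⟨y, h.ZW m hy, hy1, x, fun g hg => k.cW l hlm x (h.ZW l hx) g hg, by rw [← hcm]; exact hxy⟩

end TK

namespace BK

/-- `Claim.Bl` on `U` -/
theorem bl [Finite G] (h : TK S B Q V Xn ZJ B0 X M0 Y0 L W Z C A z) (k : BK B B0 X M0 Y0 W l K N N1 N0)
    {T U H : Subgroup G} {AA : Set (Subgroup G)} (f : Fm T U H B0 (U ⊓ X) AA) (hV : ⁅N, K⁆ ≤ U)
    (hK : K ≤ normalizer (U : Set G)) (hH : K ≤ H) : Bl T U H B0 (U ⊓ X) AA K ⁅N, K⁆ :=
  BlOf.bl_V k.pb f (by rw [h.zB]) hV hH hK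

/-- an element of `[[N, K], B₀]` not centralised by any block over the same line -/
theorem exists_nc [Finite G] (k : BK B B0 X M0 Y0 W l K N N1 N0) {K' : Subgroup G}
    (hK' : ∀ w ∈ W l, (∀ g ∈ K', g * w = w * g) → w = 1) (hc : Nat.card (W l) = 4) :
    ∃ b ∈ B0, ∃ v ∈ (⁅N, K⁆ : Subgroup G), b * v * b⁻¹ * v⁻¹ ∉ centralizer (K' : Set G) := by
  by_contra hcon
  push Not at hcon
  -- an element of `[N, K] - N₁`
  obtain ⟨v, hv, hv1⟩ := k.pb.exists_v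
  obtain ⟨u, hu, n, hn, rfl⟩ := k.pb.exists_V hv
  have hu1 : u ∉ N1 := fun h1 => hv1 (mul_mem h1 (k.pb.N01 hn))
  have huN := k.pb.VN hu
  -- an element of `W l`
  obtain ⟨w, hw, hw1⟩ : ∃ w ∈ W l, w ≠ 1 := by
    by_contra h0
    push Not at h0
    have h1 : W l = ⊥ := eq_bot_iff.2 fun x hx => mem_bot.2 (h0 x hx)
    rw [h1, Subgroup.card_bot] at hc
    omega
  obtain ⟨b, hb, n0, hn0, e⟩ := k.pb.line huN hu1 (k.WN hw)
  obtain ⟨t, ht, htB, htW, hf⟩ := k.tor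
  have h1 := hcon b hb u hu
  have htb : t * b * t⁻¹ ∈ B0 := (mem_normalizer_iff.1 htB b).1 hb
  have htu : t * u * t⁻¹ ∈ (⁅N, K⁆ : Subgroup G) := (mem_normalizer_iff.1 (k.pb.LV ht) u).1 hu
  have h2 := hcon _ htb _ htu
  have e1 : b * u * b⁻¹ * u⁻¹ = w * n0⁻¹ := by rw [e]; group
  have e2 : t * b * t⁻¹ * (t * u * t⁻¹) * (t * b * t⁻¹)⁻¹ * (t * u * t⁻¹)⁻¹ = t * (b * u * b⁻¹ * u⁻¹) * t⁻¹ := by group
  have e3 : t * (w * n0⁻¹) * t⁻¹ * (w * n0⁻¹)⁻¹ = t * w * t⁻¹ * w⁻¹ := by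
    have h3 := k.pb.N0c t ht n0 hn0
    calc t * (w * n0⁻¹) * t⁻¹ * (w * n0⁻¹)⁻¹ = t * w * (n0⁻¹ * t⁻¹) * n0 * w⁻¹ := by group
      _ = t * w * ((t * n0)⁻¹) * n0 * w⁻¹ := by group
      _ = t * w * ((n0 * t)⁻¹) * n0 * w⁻¹ := by rw [h3]
      _ = _ := by group
  have h4 : t * w * t⁻¹ * w⁻¹ ∈ centralizer (K' : Set G) := by
    rw [← e3, ← e1, ← e2]
    exact mul_mem h2 (inv_mem h1)
  have h5 := hK' _ (mul_mem (htW w hw) (inv_mem hw)) fun g hg => mem_centralizer_iff.1 h4 g hg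
  exact hw1 (hf w hw (mul_inv_eq_one.1 h5))

end BK

variable {K' N' N1' N0' : Subgroup G}

/-- **(UNI)** -/
theorem uni' [Finite G] (h : TK S B Q V Xn ZJ B0 X M0 Y0 L W Z C A z) (k : BK B B0 X M0 Y0 W l K N N1 N0)
    (k' : BK B B0 X M0 Y0 W l K' N' N1' N0') :
    ⁅N', K'⁆ ≤ ⁅N, K⁆ ⊔ X ∧ cB B0 ⁅N, K⁆ = cB B0 ⁅N', K'⁆ := by
  obtain ⟨U, hU, hUB, hUY, hall⟩ := h.exists_U1 l
  obtain ⟨h1, h2⟩ := hall K N N1 N0 k
  obtain ⟨h1', h2'⟩ := hall K' N' N1' N0' k'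
  obtain ⟨T, AA, f⟩ := h.fml U (normalizer (U : Set G) ⊓ M0) hU hUB hUY inf_le_left inf_le_right
  have b1 := k.bl h f h1 h2 (le_inf h2 k.KM)
  have b2 := k'.bl h f h1' h2' (le_inf h2' k'.KM)
  have hm := k'.exists_nc (K' := K) (fun w hw hc => k.W_cen hw hc) (h.cardW l)
  exact ⟨(uni f b1 b2 hm).trans (sup_le_sup_left inf_le_right _), cB_eq f b1 b2 hm⟩

/-- `[V X, B₀] = [V, B₀]` -/
theorem comm_supX [Finite G] (h : TK S B Q V Xn ZJ B0 X M0 Y0 L W Z C A z) {D D' : Subgroup G} (hD' : D' ≤ D ⊔ X)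
    (hD : D ≤ B0) : ⁅D', B0⁆ ≤ ⁅D, B0⁆ := by
  rw [Subgroup.commutator_le]
  intro v hv b hb
  obtain ⟨d, hd, x, hx, rfl⟩ := mem_sup_comm (fun a ha b hb => h.cX (hD ha) hb) (hD' hv)
  have h1 : ⁅d * x, b⁆ = ⁅d, b⁆ := by
    rw [commutatorElement_def, commutatorElement_def]
    have h2 := h.cX hb hx
    calc d * x * b * (d * x)⁻¹ * b⁻¹ = d * (x * b) * x⁻¹ * d⁻¹ * b⁻¹ := by group
      _ = d * (b * x) * x⁻¹ * d⁻¹ * b⁻¹ := by rw [h2]
      _ = _ := by group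
  rw [h1]
  exact commutator_mem_commutator hd hb

/-- `[[N, K], B₀]` depends only on the line -/
theorem ch_eq [Finite G] (h : TK S B Q V Xn ZJ B0 X M0 Y0 L W Z C A z) (k : BK B B0 X M0 Y0 W l K N N1 N0)
    (k' : BK B B0 X M0 Y0 W l K' N' N1' N0') : ⁅⁅N, K⁆, B0⁆ = ⁅⁅N', K'⁆, B0⁆ :=
  le_antisymm (comm_supX h (uni' h k' k).1 k'.VB0) (comm_supX h (uni' h k k').1 k.VB0)

end Cfsg.Agent.Omega.OM.Lev.Low.TorusV

end

section


/-!
# TORUS over an abstract module (box R): the splitting of `X`, one block (the proofs of `TorusK/SplitOne.lean`)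
-/

set_option autoImplicit false
set_option linter.unusedSectionVars false

namespace Cfsg.Agent.Omega.OM.Lev.Low.TorusV

open Subgroup Cfsg Cfsg.Agent.ZN Cfsg.Agent.ZN.ChoiceBase Cfsg.Agent.Omega.OM.Lev.Low.TorusK
open Cfsg.Agent.Omega.SQ1.Bau (mem_sup_comm card_sup_comm elem_comm elem_sq)
open Cfsg.Agent.Omega.NO3S.Level.Claim (Fm Bl cB mem_cB cB_le)
open Cfsg.Agent.Omega.OM.Lev.Uni (FrL)
open Cfsg.Agent.Omega.OM.Lev.Low.TorusK.PBC
open scoped commutatorElement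

universe u

variable {G : Type u} [Group G]

/-- fixed points of a 2-group on a quotient `M / X` -/
theorem exists_fix_mod [Finite G] {X M P : Subgroup G} (hP : IsPGroup 2 P) (hPX : P ≤ normalizer (X : Set G))
    (hPM : P ≤ normalizer (M : Set G)) (hM : IsPGroup 2 M) (hMX : M ≤ normalizer (X : Set G)) (hne : ¬ M ≤ X) :
    ∃ y ∈ M, y ∉ X ∧ ∀ b ∈ P, b * y * b⁻¹ * y⁻¹ ∈ X := by
  classical
  let N : Subgroup G := normalizer (X : Set G)
  let X' : Subgroup N := X.subgroupOf N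
  haveI : X'.Normal := Subgroup.normal_in_normalizer
  let q : N →* N ⧸ X' := QuotientGroup.mk' X'
  have hq : ∀ x : N, q x = 1 ↔ (x : G) ∈ X := fun x => by
    rw [show q x = (x : N ⧸ X') from rfl, QuotientGroup.eq_one_iff]
    exact mem_subgroupOf
  let Mq := (M.subgroupOf N).map q
  let Pq := (P.subgroupOf N).map q
  have h1 : IsPGroup 2 Mq := IsPGroup.map (hM.comap_subtype) q
  have h2 : IsPGroup 2 Pq := IsPGroup.map (hP.comap_subtype) q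
  have h3 : Pq ≤ normalizer (Mq : Set (N ⧸ X')) := by
    rintro _ ⟨b, hb, rfl⟩
    rw [mem_normalizer_iff_cj]
    apply le_antisymm
    · rintro _ ⟨_, ⟨m, hm, rfl⟩, rfl⟩
      refine ⟨b * m * b⁻¹, ?_, by simp⟩
      exact (mem_normalizer_iff.1 (hPM (mem_subgroupOf.1 hb)) _).1 (mem_subgroupOf.1 hm)
    · rintro _ ⟨m, hm, rfl⟩
      refine mem_cj.2 ⟨b⁻¹ * m * b, ?_, by simp⟩
      have h4 := (mem_normalizer_iff.1 (inv_mem (hPM (mem_subgroupOf.1 hb))) _).1 (mem_subgroupOf.1 hm)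
      show (b : G)⁻¹ * m * b ∈ M
      simpa using h4
  have h4 : Mq ≠ ⊥ := fun e => hne fun m hm => by
    have h5 : q ⟨m, hMX hm⟩ ∈ Mq := ⟨⟨m, hMX hm⟩, hm, rfl⟩
    rw [e, mem_bot, hq] at h5
    exact h5
  have h5 := PLocal.OffenderStep.inf_centralizer_ne_bot Mq Pq h1 h2 h3 h4
  obtain ⟨⟨x, hx⟩, hx1⟩ := (Subgroup.ne_bot_iff_exists_ne_one).1 h5
  obtain ⟨⟨m, hm, rfl⟩, hxP⟩ := mem_inf.1 hx
  refine ⟨m, mem_subgroupOf.1 hm, fun h6 => hx1 (Subtype.ext ((hq m).2 h6)), fun b hb => ?_⟩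
  have hb' : q ⟨b, hPX hb⟩ ∈ Pq := ⟨⟨b, hPX hb⟩, hb, rfl⟩
  have h6 := mem_centralizer_iff.1 hxP _ hb'
  have h7 : q (⟨b, hPX hb⟩ * m * ⟨b, hPX hb⟩⁻¹ * m⁻¹) = 1 := by
    rw [map_mul, map_mul, map_mul, map_inv, map_inv, h6]
    group
  exact (hq _).1 h7

variable {ι : Type} {S B Q V Xn ZJ B0 X M0 Y0 : Subgroup G} {L W Z C A : ι → Subgroup G} {z : G}
  {l : ι} {K N N1 N0 : Subgroup G}

namespace TK

variable (h : TK S B Q V Xn ZJ B0 X M0 Y0 L W Z C A z)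
include h

theorem BW [Finite G] {b : G} (hb : b ∈ B) (l : ι) : cj b (W l) = W l :=
  cj_eq_of_mem_normalizer (mem_normalizer_of_cj_le (by
    rintro _ ⟨w, hw, rfl⟩
    exact (h.fr.blk l).BV hb hw))

theorem BX' [Finite G] : B ≤ normalizer (X : Set G) := h.BS.trans h.SX

theorem BB0 [Finite G] : B ≤ normalizer (B0 : Set G) := h.BS.trans h.SB0

theorem twoB : IsPGroup 2 B := h.two

end TK

namespace BK

theorem N0X [Finite G] (h : TK S B Q V Xn ZJ B0 X M0 Y0 L W Z C A z) (k : BK B B0 X M0 Y0 W l K N N1 N0) {n : G}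
    (hn : n ∈ N0) : n ∈ X ⊓ centralizer (K : Set G) := by
  refine mem_inf.2 ⟨?_, mem_centralizer_iff.2 fun g hg => k.pb.N0c g hg n hn⟩
  rw [← h.zB]
  exact (BlOf.line_iff k.pb (k.pb.N1N (k.pb.N01 hn))).1 (k.pb.N01 hn)

theorem N1X [Finite G] (h : TK S B Q V Xn ZJ B0 X M0 Y0 L W Z C A z) (k : BK B B0 X M0 Y0 W l K N N1 N0) {n : G}
    (hn : n ∈ N) : n ∈ N1 ↔ n ∈ X := by
  rw [← h.zB]
  exact BlOf.line_iff k.pb hn

theorem split1 [Finite G] (h : TK S B Q V Xn ZJ B0 X M0 Y0 L W Z C A z) (k : BK B B0 X M0 Y0 W l K N N1 N0) {n : G}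
    (hn : n ∈ N1) : ∃ w ∈ W l, ∃ n0 ∈ N0, n = w * n0 := by
  rw [k.N1_eq (h.cardW l)] at hn
  exact mem_sup_comm (fun a ha b hb => k.pb.comm (k.pb.N1N (k.WN ha)) (k.pb.N1N (k.pb.N01 hb))) hn

/-- `N₁ ∩ C(K) = N₀` -/
theorem mem_N0 [Finite G] (h : TK S B Q V Xn ZJ B0 X M0 Y0 L W Z C A z) (k : BK B B0 X M0 Y0 W l K N N1 N0) {n : G}
    (hn : n ∈ N1) (hc : ∀ g ∈ K, g * n = n * g) : n ∈ N0 := by
  obtain ⟨w, hw, n0, hn0, rfl⟩ := k.split1 h hn
  have h1 : w = 1 := k.W_cen hw fun g hg => by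
    have h2 := hc g hg
    have h3 := k.pb.N0c g hg n0 hn0
    have h4 : g * w * n0 = w * g * n0 := by
      calc g * w * n0 = g * (w * n0) := by group
        _ = (w * n0) * g := h2
        _ = w * (n0 * g) := by group
        _ = w * (g * n0) := by rw [h3]
        _ = _ := by group
    exact mul_right_cancel h4
  rw [h1, one_mul]
  exact hn0

/-- an element of `B` centralising the line `W l` centralises `[[N, K], B₀]` -/
theorem cen_ch [Finite G] (h : TK S B Q V Xn ZJ B0 X M0 Y0 L W Z C A z) (k : BK B B0 X M0 Y0 W l K N N1 N0) {b : G}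
    (hb : b ∈ B) (hbW : ∀ w ∈ W l, b * w = w * b) : ∀ x ∈ (⁅⁅N, K⁆, B0⁆ : Subgroup G), b * x = x * b := by
  set V' : Subgroup G := ⁅N, K⁆ with hV'
  have hVB : V' ≤ B0 := k.VB0
  have hVN : V' ≤ N := k.pb.VN
  have k' := k.cj h (h.BS hb) (h.BW hb l)
  obtain ⟨hu, hc⟩ := uni' h k k'
  have ecj : ⁅ChoiceBase.cj b N, ChoiceBase.cj b K⁆ = ChoiceBase.cj b V' := by
    rw [hV']; exact (Subgroup.map_commutator _ _ _).symm
  rw [ecj] at hu hc
  have hbB0 := h.BB0 hb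
  have hbX := h.BX' hb
  have hcX : ∀ a ∈ V', ∀ x ∈ X, a * x = x * a := fun a ha x hx => h.cX (hVB ha) hx
  -- `b` acts on `V' X`
  have hM : ∀ v ∈ V', ∃ u ∈ V', ∃ x ∈ X, b * v * b⁻¹ = u * x := fun v hv =>
    mem_sup_comm hcX (hu (cj_mem hv))
  have hXK : ∀ x ∈ X ⊓ centralizer (K : Set G), b * x * b⁻¹ ∈ X ⊓ centralizer (K : Set G) := fun x hx =>
    (mem_normalizer_iff.1 (k.BX hb) x).1 hx
  -- (F3)
  have F3 : ∀ y ∈ N1, b * y * b⁻¹ * y⁻¹ ∈ X ⊓ centralizer (K : Set G) := by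
    intro y hy
    obtain ⟨w, hw, n, hn, rfl⟩ := k.split1 h hy
    have hnX := k.N0X h hn
    have h1 := mul_mem (hXK n hnX) (inv_mem hnX)
    have e : b * (w * n) * b⁻¹ * (w * n)⁻¹ = b * n * b⁻¹ * n⁻¹ := by
      have h2 : w * (b * n * b⁻¹ * n⁻¹) = (b * n * b⁻¹ * n⁻¹) * w := h.Xc (h.WX l hw) h1.1
      calc b * (w * n) * b⁻¹ * (w * n)⁻¹ = (b * w) * n * b⁻¹ * n⁻¹ * w⁻¹ := by group
        _ = (w * b) * n * b⁻¹ * n⁻¹ * w⁻¹ := by rw [hbW w hw]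
        _ = w * (b * n * b⁻¹ * n⁻¹) * w⁻¹ := by group
        _ = (b * n * b⁻¹ * n⁻¹) * w * w⁻¹ := by rw [h2]
        _ = _ := by group
    rw [e]
    exact h1
  -- `[a, u x] = [a, u]`
  have F5 : ∀ a ∈ B0, ∀ u, ∀ x ∈ X, a * (u * x) * a⁻¹ * (u * x)⁻¹ = a * u * a⁻¹ * u⁻¹ := by
    intro a ha u x hx
    have h1 := h.cX ha hx
    calc a * (u * x) * a⁻¹ * (u * x)⁻¹ = a * u * (x * a⁻¹) * x⁻¹ * u⁻¹ := by group
      _ = a * u * (a⁻¹ * (a * x) * a⁻¹) * x⁻¹ * u⁻¹ := by group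
      _ = a * u * (a⁻¹ * (x * a) * a⁻¹) * x⁻¹ * u⁻¹ := by rw [h1]
      _ = _ := by group
  -- the element `y`
  have hXV : ¬ V' ⊔ X ≤ X := by
    intro hle
    obtain ⟨v, hv, hv1⟩ := k.pb.exists_v
    obtain ⟨u, hu', n, hn, rfl⟩ := k.pb.exists_V hv
    exact hv1 (mul_mem ((k.N1X h (hVN hu')).2 (hle (mem_sup_left hu'))) (k.pb.N01 hn))
  have hX2 : IsPGroup 2 B0 := k.pb.Bp
  have hle0 : V' ⊔ X ≤ B0 := sup_le hVB h.XB0
  have hPX : zpowers b ≤ normalizer (X : Set G) := by rw [zpowers_le]; exact hbX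
  have hPM : zpowers b ≤ normalizer ((V' ⊔ X : Subgroup G) : Set G) := by
    rw [zpowers_le]
    refine mem_normalizer_of_cj_le ?_
    rw [show ChoiceBase.cj b (V' ⊔ X) = ChoiceBase.cj b V' ⊔ ChoiceBase.cj b X from Subgroup.map_sup _ _ _,
      cj_eq_of_mem_normalizer hbX]
    exact sup_le hu le_sup_right
  have hMX : V' ⊔ X ≤ normalizer (X : Set G) := sup_le (fun v hv => mem_normalizer_of_cj_le (by
    rintro _ ⟨x, hx, rfl⟩
    show v * x * v⁻¹ ∈ X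
    rw [hcX v hv x hx, mul_inv_cancel_right]
    exact hx)) le_normalizer
  obtain ⟨y0, hy0, hy0X, hfix⟩ := exists_fix_mod (h.twoB.to_le (by rw [zpowers_le]; exact hb)) hPX hPM
    (hX2.to_le hle0) hMX hXV
  obtain ⟨y, hy, x0, hx0, rfl⟩ := mem_sup_comm hcX hy0
  have hyX : y ∉ X := fun h1 => hy0X (mul_mem h1 hx0)
  have hyN1 : y ∉ N1 := fun h1 => hyX ((k.N1X h (hVN hy)).1 h1)
  -- `b y b⁻¹ = y x₁`
  obtain ⟨x1, hx1, hyb⟩ : ∃ x1 ∈ X, b * y * b⁻¹ = y * x1 := by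
    have h1 := hfix b (mem_zpowers b)
    have hx0' : b * x0 * b⁻¹ ∈ X := (mem_normalizer_iff.1 hbX x0).1 hx0
    refine ⟨y⁻¹ * (b * (y * x0) * b⁻¹ * (y * x0)⁻¹) * y * (x0 * (b * x0 * b⁻¹)⁻¹), ?_, ?_⟩
    · refine mul_mem ?_ (mul_mem hx0 (inv_mem hx0'))
      have h2 := hcX y⁻¹ (inv_mem hy) _ h1
      have e : y⁻¹ * (b * (y * x0) * b⁻¹ * (y * x0)⁻¹) * y = b * (y * x0) * b⁻¹ * (y * x0)⁻¹ := by
        rw [h2]; group
      rw [e]; exact h1
    · have h2 := hcX y hy x0 hx0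
      calc b * y * b⁻¹ = b * (y * x0) * b⁻¹ * (y * x0)⁻¹ * (y * x0) * (b * x0 * b⁻¹)⁻¹ := by group
        _ = _ := by group
  -- (i) `b a b⁻¹ ∈ a C(V')`
  have hpi : ∀ a ∈ B0, ∀ v ∈ V', (b * a * b⁻¹ * a⁻¹) * v = v * (b * a * b⁻¹ * a⁻¹) := by
    intro a ha
    have ha' : b * a * b⁻¹ ∈ B0 := (mem_normalizer_iff.1 hbB0 a).1 ha
    have e1 : b * (a * y * a⁻¹ * y⁻¹) * b⁻¹ = (b * a * b⁻¹) * y * (b * a * b⁻¹)⁻¹ * y⁻¹ := by
      rw [← F5 _ ha' y x1 hx1, ← hyb]; group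
    have h1 := F3 _ (k.pb.quad a ha y (hVN hy))
    rw [e1] at h1
    -- `[a' a⁻¹, y] ∈ X_K`
    have ha'' : b * a * b⁻¹ * a⁻¹ ∈ B0 := mul_mem ha' (inv_mem ha)
    have e2 : (b * a * b⁻¹ * a⁻¹) * y * (b * a * b⁻¹ * a⁻¹)⁻¹ * y⁻¹ =
        (b * a * b⁻¹) * y * (b * a * b⁻¹)⁻¹ * y⁻¹ * (a * y * a⁻¹ * y⁻¹)⁻¹ := by
      have hq : a⁻¹ * y * a⁻¹⁻¹ * y⁻¹ ∈ N1 := k.pb.quad a⁻¹ (inv_mem ha) y (hVN hy)
      have h3 : a * (a⁻¹ * y * a⁻¹⁻¹ * y⁻¹) = (a⁻¹ * y * a⁻¹⁻¹ * y⁻¹) * a := k.pb.N1c a ha _ hq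
      have h4 : (b * a * b⁻¹) * (a⁻¹ * y * a⁻¹⁻¹ * y⁻¹) = (a⁻¹ * y * a⁻¹⁻¹ * y⁻¹) * (b * a * b⁻¹) :=
        k.pb.N1c _ ha' _ hq
      have h5 : a⁻¹ * y * a⁻¹⁻¹ * y⁻¹ = (a * y * a⁻¹ * y⁻¹)⁻¹ := by
        have h6 : a * (a⁻¹ * y * a⁻¹⁻¹ * y⁻¹) * a⁻¹ = a⁻¹ * y * a⁻¹⁻¹ * y⁻¹ := by rw [h3]; group
        rw [← h6]; group
      rw [← h5]
      have hcm : (a⁻¹ * y * a⁻¹⁻¹ * y⁻¹) * ((b * a * b⁻¹) * y * (b * a * b⁻¹)⁻¹ * y⁻¹) =
          ((b * a * b⁻¹) * y * (b * a * b⁻¹)⁻¹ * y⁻¹) * (a⁻¹ * y * a⁻¹⁻¹ * y⁻¹) :=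
        k.pb.comm (k.pb.N1N hq) (k.pb.N1N (k.pb.quad _ ha' y (hVN hy)))
      rw [← hcm]
      calc (b * a * b⁻¹ * a⁻¹) * y * (b * a * b⁻¹ * a⁻¹)⁻¹ * y⁻¹ =
          ((b * a * b⁻¹) * (a⁻¹ * y * a⁻¹⁻¹ * y⁻¹)) * y * (b * a * b⁻¹)⁻¹ * y⁻¹ := by group
        _ = _ := by rw [h4]; group
    have h2 : (b * a * b⁻¹ * a⁻¹) * y * (b * a * b⁻¹ * a⁻¹)⁻¹ * y⁻¹ ∈ N0 := by
      refine k.mem_N0 h (k.pb.quad _ ha'' y (hVN hy)) fun g hg => ?_
      rw [e2]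
      exact mem_centralizer_iff.1 h1.2 g hg
    by_contra hcon
    push Not at hcon
    obtain ⟨v, hv, hne⟩ := hcon
    exact hyN1 (k.pb.cent _ ha'' ⟨v, hVN hv, hne⟩ y (hVN hy) h2)
  -- (ii) `b v b⁻¹ ∈ v X`
  have hvX : ∀ v ∈ V', ∃ x ∈ X, b * v * b⁻¹ = v * x := by
    intro v hv
    obtain ⟨u, hu1, x, hx, e⟩ := hM v hv
    obtain ⟨a, ha, w, hw, hne⟩ := k.pb.exists_b
    have hne' : ∃ v ∈ N, (a : G) * v ≠ v * a := ⟨w, hw, hne⟩
    have ha' : b * a * b⁻¹ ∈ B0 := (mem_normalizer_iff.1 hbB0 a).1 ha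
    have hcon := k.pb.cent a ha hne' (u * v⁻¹) (mul_mem (hVN hu1) (inv_mem (hVN hv))) ?_
    · refine ⟨u * v⁻¹ * x, mul_mem ((k.N1X h (mul_mem (hVN hu1) (inv_mem (hVN hv)))).1 hcon) hx, ?_⟩
      rw [e]
      have h1 : u * v⁻¹ * x = x * (u * v⁻¹) := hcX _ (mul_mem hu1 (inv_mem hv)) x hx
      have h2 : v * (u * v⁻¹) = u := by
        rw [← mul_assoc, k.pb.comm (hVN hv) (hVN hu1), mul_inv_cancel_right]
      calc u * x = (v * (u * v⁻¹)) * x := by rw [h2]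
        _ = _ := by group
    · -- `[a, u v⁻¹] ∈ N₀`
      have h1 := F3 _ (k.pb.quad a ha v (hVN hv))
      have e1 : b * (a * v * a⁻¹ * v⁻¹) * b⁻¹ = a * u * a⁻¹ * u⁻¹ := by
        have h3 : b * (a * v * a⁻¹ * v⁻¹) * b⁻¹ = (b * a * b⁻¹) * (u * x) * (b * a * b⁻¹)⁻¹ * (u * x)⁻¹ := by
          rw [← e]; group
        rw [h3, F5 _ ha' u x hx]
        have h4 := hpi a ha (a * u * a⁻¹) (by
          have := (mem_normalizer_iff.1 (k.pb.LV (k.pb.BL ha)) u).1 hu1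
          exact this)
        have h5 : b * a * b⁻¹ * u * (b * a * b⁻¹)⁻¹ = a * u * a⁻¹ := by
          calc b * a * b⁻¹ * u * (b * a * b⁻¹)⁻¹ = (b * a * b⁻¹ * a⁻¹) * (a * u * a⁻¹) * (b * a * b⁻¹ * a⁻¹)⁻¹ := by group
            _ = (a * u * a⁻¹) * (b * a * b⁻¹ * a⁻¹) * (b * a * b⁻¹ * a⁻¹)⁻¹ := by rw [h4]
            _ = _ := by group
        rw [h5]
      rw [e1] at h1
      have e2 : a * (u * v⁻¹) * a⁻¹ * (u * v⁻¹)⁻¹ = a * u * a⁻¹ * u⁻¹ * (a * v * a⁻¹ * v⁻¹)⁻¹ := by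
        have hav : a * v⁻¹ * a⁻¹ ∈ N := k.pb.Nn a (k.pb.BL ha) _ (inv_mem (hVN hv))
        have h3 : (a * v⁻¹ * a⁻¹) * (v * u⁻¹) = (v * u⁻¹) * (a * v⁻¹ * a⁻¹) :=
          k.pb.comm hav (mul_mem (hVN hv) (inv_mem (hVN hu1)))
        have h4 : v * u⁻¹ = u⁻¹ * v := k.pb.comm (hVN hv) (inv_mem (hVN hu1))
        calc a * (u * v⁻¹) * a⁻¹ * (u * v⁻¹)⁻¹ = (a * u * a⁻¹) * ((a * v⁻¹ * a⁻¹) * (v * u⁻¹)) := by group
          _ = (a * u * a⁻¹) * ((v * u⁻¹) * (a * v⁻¹ * a⁻¹)) := by rw [h3]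
          _ = (a * u * a⁻¹) * ((u⁻¹ * v) * (a * v⁻¹ * a⁻¹)) := by rw [h4]
          _ = _ := by group
      refine k.mem_N0 h (k.pb.quad a ha _ (mul_mem (hVN hu1) (inv_mem (hVN hv)))) fun g hg => ?_
      rw [e2]
      exact mem_centralizer_iff.1 h1.2 g hg
  -- (iii)
  have hle : (⁅V', B0⁆ : Subgroup G) ≤ centralizer {b} := by
    rw [Subgroup.commutator_le]
    intro v hv a ha
    obtain ⟨x, hx, e⟩ := hvX v hv
    have ha' : b * a * b⁻¹ ∈ B0 := (mem_normalizer_iff.1 hbB0 a).1 ha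
    have h1 : b * (a * v * a⁻¹ * v⁻¹) * b⁻¹ = a * v * a⁻¹ * v⁻¹ := by
      have h3 : b * (a * v * a⁻¹ * v⁻¹) * b⁻¹ = (b * a * b⁻¹) * (v * x) * (b * a * b⁻¹)⁻¹ * (v * x)⁻¹ := by
        rw [← e]; group
      rw [h3, F5 _ ha' v x hx]
      have h4 := hpi a ha (a * v * a⁻¹) ((mem_normalizer_iff.1 (k.pb.LV (k.pb.BL ha)) v).1 hv)
      have h5 : b * a * b⁻¹ * v * (b * a * b⁻¹)⁻¹ = a * v * a⁻¹ := by
        calc b * a * b⁻¹ * v * (b * a * b⁻¹)⁻¹ = (b * a * b⁻¹ * a⁻¹) * (a * v * a⁻¹) * (b * a * b⁻¹ * a⁻¹)⁻¹ := by group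
          _ = (a * v * a⁻¹) * (b * a * b⁻¹ * a⁻¹) * (b * a * b⁻¹ * a⁻¹)⁻¹ := by rw [h4]
          _ = _ := by group
      rw [h5]
    have h2 : a * v * a⁻¹ * v⁻¹ ∈ centralizer ({b} : Set G) := by
      rw [mem_centralizer_singleton_iff]
      have h3 := congrArg (fun y => y * b) h1
      simpa [mul_assoc] using h3.symm
    have e2 : ⁅v, a⁆ = (a * v * a⁻¹ * v⁻¹)⁻¹ := by rw [commutatorElement_def]; group
    rw [e2]
    exact inv_mem h2
  intro x hx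
  exact (mem_centralizer_singleton_iff.1 (hle hx)).symm

end BK

end Cfsg.Agent.Omega.OM.Lev.Low.TorusV

end

section


/-!
# TORUS over an abstract module (box R): the splitting of `X` (the proofs of `TorusK/SplitTwo.lean`)
-/

set_option autoImplicit false
set_option linter.unusedSectionVars false

namespace Cfsg.Agent.Omega.OM.Lev.Low.TorusV

open Subgroup Cfsg Cfsg.Agent.ZN Cfsg.Agent.ZN.ChoiceBase Cfsg.Agent.Omega.OM.Lev.Low.TorusK
open Cfsg.Agent.Omega.SQ1.Bau (mem_sup_comm card_sup_comm elem_comm elem_sq)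
open Cfsg.Agent.Omega.NO3S.Level.Claim (Fm Bl cB mem_cB cB_le)
open Cfsg.Agent.Omega.OM.Lev.Uni (FrL)
open Cfsg.Agent.Omega.OM.Lev.Low.TorusK.PBC
open scoped commutatorElement

universe u

variable {G : Type u} [Group G] {ι : Type} {S B Q V Xn ZJ B0 X M0 Y0 : Subgroup G} {L W Z C A : ι → Subgroup G} {z : G}
  {l : ι} {K N N1 N0 : Subgroup G}

theorem comm_cjj (g : G) (N K : Subgroup G) : ⁅ChoiceBase.cj g N, ChoiceBase.cj g K⁆ = ChoiceBase.cj g ⁅N, K⁆ :=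
  (Subgroup.map_commutator _ _ _).symm

/-- `X = W l C_X(K)` -/
theorem BK.splitX [Finite G] (h : TK S B Q V Xn ZJ B0 X M0 Y0 L W Z C A z) (k : BK B B0 X M0 Y0 W l K N N1 N0) {x : G}
    (hx : x ∈ X) : ∃ w ∈ W l, ∃ c ∈ X, (∀ g ∈ K, g * c = c * g) ∧ x = w * c := by
  have hx' := hx
  rw [← h.zB] at hx'
  obtain ⟨c, hc, hcK, n, hn, rfl⟩ := k.pb.Z_split hx'
  rw [h.zB] at hc
  obtain ⟨w, hw, n0, hn0, rfl⟩ := k.split1 h hn
  have hn0X := k.N0X h hn0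
  refine ⟨w, hw, c * n0, mul_mem hc hn0X.1, fun g hg => ?_, ?_⟩
  · have c1 : Commute g c := hcK g hg
    have c2 : Commute g n0 := k.pb.N0c g hg n0 hn0
    exact (c1.mul_right c2).eq
  · have h1 : c * w = w * c := h.Xc hc (h.WX l hw)
    calc c * (w * n0) = (c * w) * n0 := by group
      _ = (w * c) * n0 := by rw [h1]
      _ = _ := by group

theorem BK.W_inf [Finite G] (h : TK S B Q V Xn ZJ B0 X M0 Y0 L W Z C A z) (k : BK B B0 X M0 Y0 W l K N N1 N0) {p : ι}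
    (hp : p ≠ l) : W p ≤ X ⊓ centralizer (K : Set G) := fun w hw =>
  mem_inf.2 ⟨h.WX p hw, mem_centralizer_iff.2 fun g hg => k.cW p hp w hw g hg⟩

/-- conjugates with a torus element of another block -/
theorem BK.cjt [Finite G] (h : TK S B Q V Xn ZJ B0 X M0 Y0 L W Z C A z) (k : BK B B0 X M0 Y0 W l K N N1 N0) {p : ι}
    (hp : p ≠ l) {K' N' N1' N0' : Subgroup G} (k' : BK B B0 X M0 Y0 W p K' N' N1' N0') {t : G} (ht : t ∈ K')
    (htB : t ∈ normalizer (B0 : Set G)) (htW : ∀ w ∈ W p, t * w * t⁻¹ ∈ W p) :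
    BK B B0 X M0 Y0 W l (ChoiceBase.cj t K) (ChoiceBase.cj t N) (ChoiceBase.cj t N1) (ChoiceBase.cj t N0) ∧
      ChoiceBase.cj t (X ⊓ centralizer (K : Set G)) = X ⊓ centralizer (K : Set G) := by
  have htl : ∀ w ∈ W l, t * w = w * t := fun w hw => k'.cW l (Ne.symm hp) w hw t ht
  have hWl : ChoiceBase.cj t (W l) = W l := cj_eq_of_mem_normalizer (mem_normalizer_of_cj_le (by
    rintro _ ⟨w, hw, rfl⟩
    show t * w * t⁻¹ ∈ W l
    rw [htl w hw, mul_inv_cancel_right]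
    exact hw))
  have hXt : ChoiceBase.cj t X = X := by
    rw [← h.zB, ← zc_cj', cj_eq_of_mem_normalizer htB]
  have hXK : t ∈ normalizer ((X ⊓ centralizer (K : Set G) : Subgroup G) : Set G) := by
    refine mem_normalizer_of_cj_le ?_
    rintro _ ⟨x, hx, rfl⟩
    show t * x * t⁻¹ ∈ X ⊓ centralizer (K : Set G)
    obtain ⟨w, hw, c, hc, hcK, rfl⟩ := k'.splitX h hx.1
    have h1 := k.W_inf h hp
    have h2 : t * (w * c) * t⁻¹ = (t * w * t⁻¹) * w⁻¹ * (w * c) := by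
      have h3 := hcK t ht
      calc t * (w * c) * t⁻¹ = t * w * (c * t⁻¹) := by group
        _ = t * w * (t⁻¹ * (t * c) * t⁻¹) := by group
        _ = t * w * (t⁻¹ * (c * t) * t⁻¹) := by rw [h3]
        _ = _ := by group
    rw [h2]
    exact mul_mem (mul_mem (h1 (htW w hw)) (inv_mem (h1 hw))) hx
  have hXK' := cj_eq_of_mem_normalizer hXK
  have hXKt : X ⊓ centralizer (ChoiceBase.cj t K : Set G) = X ⊓ centralizer (K : Set G) := by
    rw [← hXK', cj_inf, cj_centralizer, hXt]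
  refine ⟨?_, hXK'⟩
  constructor
  · have h1 := pb_cj k.pb t
    rwa [cj_eq_of_mem_normalizer htB] at h1
  · have h1 := cj_mono t k.NY
    rwa [cj_eq_of_mem_normalizer (h.MY (k'.KM ht))] at h1
  · have h1 := cj_mono t k.KM
    rwa [cj_eq_of_mem_normalizer (le_normalizer (k'.KM ht))] at h1
  · rw [← hWl]; exact cj_mono t k.WN
  · rw [← hWl, ← cj_inf, k.WN0]
    exact Subgroup.map_bot _
  · intro q hq w hw x hx
    have h1 : w ∈ X ⊓ centralizer (ChoiceBase.cj t K : Set G) := by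
      rw [hXKt]
      exact k.W_inf h hq hw
    exact mem_centralizer_iff.1 h1.2 x hx
  · rw [hXKt]; exact k.BX
  · obtain ⟨x, hx, hxB, hxW, hxf⟩ := k.tor
    refine ⟨_, cj_mem hx, mul_mem (mul_mem htB hxB) (inv_mem htB), ?_, ?_⟩
    · intro w hw0
      rw [← hWl] at hw0 ⊢
      obtain ⟨w, hw, rfl⟩ := ex_cj hw0
      have e : t * x * t⁻¹ * (t * w * t⁻¹) * (t * x * t⁻¹)⁻¹ = t * (x * w * x⁻¹) * t⁻¹ := by group
      rw [e]
      exact cj_mem (hxW w hw)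
    · intro w hw0 he
      rw [← hWl] at hw0
      obtain ⟨w, hw, rfl⟩ := ex_cj hw0
      have e : t * x * t⁻¹ * (t * w * t⁻¹) * (t * x * t⁻¹)⁻¹ = t * (x * w * x⁻¹) * t⁻¹ := by group
      rw [e] at he
      have h1 := hxf w hw (mul_left_cancel (mul_right_cancel he))
      rw [h1]; group

theorem BK.ch_le [Finite G] (k : BK B B0 X M0 Y0 W l K N N1 N0) : ⁅⁅N, K⁆, B0⁆ ≤ N1 := by
  rw [Subgroup.commutator_le]
  intro v hv b hb
  have h1 := k.pb.quad b hb v (k.pb.VN hv)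
  have e : ⁅v, b⁆ = (b * v * b⁻¹ * v⁻¹)⁻¹ := by rw [commutatorElement_def]; group
  rw [e]
  exact inv_mem h1

theorem BK.ch_B [Finite G] (h : TK S B Q V Xn ZJ B0 X M0 Y0 L W Z C A z) (k : BK B B0 X M0 Y0 W l K N N1 N0) :
    B ≤ normalizer ((⁅⁅N, K⁆, B0⁆ : Subgroup G) : Set G) := by
  intro b hb
  have k' := k.cj h (h.BS hb) (h.BW hb l)
  have h1 := ch_eq h k k'
  rw [comm_cjj] at h1
  have e : ⁅ChoiceBase.cj b ⁅N, K⁆, B0⁆ = ChoiceBase.cj b ⁅⁅N, K⁆, B0⁆ := by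
    rw [← comm_cjj b ⁅N, K⁆ B0, cj_eq_of_mem_normalizer (h.BB0 hb)]
  rw [e] at h1
  rw [mem_normalizer_iff_cj]
  exact h1.symm

/-- **(SPLIT)** -/
theorem BK.ch_cen [Finite G] [Finite ι] (h : TK S B Q V Xn ZJ B0 X M0 Y0 L W Z C A z)
    (k : BK B B0 X M0 Y0 W l K N N1 N0) : ⁅⁅N, K⁆, B0⁆ ⊓ centralizer (K : Set G) = ⊥ := by
  by_contra hne
  set D : Subgroup G := ⁅⁅N, K⁆, B0⁆ ⊓ (X ⊓ centralizer (K : Set G)) with hD
  have hDX : (⁅⁅N, K⁆, B0⁆ : Subgroup G) ≤ X := fun x hx => (k.N1X h (k.pb.N1N (k.ch_le hx))).1 (k.ch_le hx)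
  have hDne : D ≠ ⊥ := fun e => hne (by
    rw [eq_bot_iff, ← e]
    exact le_inf inf_le_left (le_inf (inf_le_left.trans hDX) inf_le_right))
  have hDB : B ≤ normalizer (D : Set G) := fun b hb => by
    rw [mem_normalizer_iff_cj, hD, cj_inf, cj_eq_of_mem_normalizer (k.ch_B h hb), cj_eq_of_mem_normalizer (k.BX hb)]
  have hD2 : IsPGroup 2 D := h.twoB.to_le ((inf_le_left.trans hDX).trans (h.XB0.trans h.B0B))
  have h5 := PLocal.OffenderStep.inf_centralizer_ne_bot D B hD2 h.twoB hDB hDne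
  obtain ⟨⟨c, hc⟩, hc1⟩ := (Subgroup.ne_bot_iff_exists_ne_one).1 h5
  obtain ⟨⟨hcc, hcX, hcK⟩, hcB⟩ := mem_inf.1 hc
  replace hc1 : c ≠ 1 := fun e => hc1 (Subtype.ext e)
  have hcJ : c ∈ ZJ := h.mem_ZJ_of hcX fun b hb => mem_centralizer_iff.1 hcB b hb
  have h1 : ¬ ∀ i, c ∈ C i := fun hall => hc1 (h.fr.C0 c (h.fr.ZJV hcJ) hall)
  push Not at h1
  obtain ⟨p, hp⟩ := h1
  obtain ⟨w, hw, d, hd, hdJ, ec⟩ := h.fr.split_ZJ p hcJ
  have hw1 : w ≠ 1 := fun e => hp (by rw [ec, e, one_mul]; exact hd)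
  have hpl : p ≠ l := by
    rintro rfl
    refine hw1 (k.W_cen (h.ZW p hw) fun g hg => ?_)
    have h2 : d ∈ centralizer (K : Set G) := h.mem_of_C (H := centralizer (K : Set G)) (fun q hq => fun x hx =>
      mem_centralizer_iff.2 fun g hg => k.cW q hq x (h.ZW q hx) g hg) hdJ hd
    have h3 : w = c * d⁻¹ := by rw [ec]; group
    have h4 : w ∈ centralizer (K : Set G) := by rw [h3]; exact mul_mem hcK (inv_mem h2)
    exact mem_centralizer_iff.1 h4 g hg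
  -- the block over `W p`
  obtain ⟨s, hs, hsW⟩ := h.tr l p
  have kp := k.cj h hs hsW
  obtain ⟨t, ht, htB, htW, htf⟩ := kp.tor
  obtain ⟨kt, -⟩ := k.cjt h hpl kp ht htB htW
  -- `t` normalises `[[N, K], B₀]`
  have htn : ChoiceBase.cj t ⁅⁅N, K⁆, B0⁆ = ⁅⁅N, K⁆, B0⁆ := by
    have h2 := ch_eq h k kt
    rw [comm_cjj] at h2
    have e : ⁅ChoiceBase.cj t ⁅N, K⁆, B0⁆ = ChoiceBase.cj t ⁅⁅N, K⁆, B0⁆ := by
      rw [← comm_cjj t ⁅N, K⁆ B0, cj_eq_of_mem_normalizer htB]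
    rw [e] at h2
    exact h2.symm
  have hdK : ∀ g ∈ ChoiceBase.cj s K, g * d = d * g := by
    have h2 : d ∈ centralizer (ChoiceBase.cj s K : Set G) :=
      h.mem_of_C (H := centralizer (ChoiceBase.cj s K : Set G)) (fun q hq => fun x hx =>
        mem_centralizer_iff.2 fun g hg => kp.cW q hq x (h.ZW q hx) g hg) hdJ hd
    exact fun g hg => mem_centralizer_iff.1 h2 g hg
  -- `w₁ = [t, w]`
  have hwW := h.ZW p hw
  have hmem : ∀ {x : G}, x ∈ (⁅⁅N, K⁆, B0⁆ : Subgroup G) → t * x * t⁻¹ ∈ (⁅⁅N, K⁆, B0⁆ : Subgroup G) := fun {x} hx => by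
    have h3 := cj_mem (g := t) hx
    rwa [htn] at h3
  have hw1c : t * w * t⁻¹ * w⁻¹ ∈ (⁅⁅N, K⁆, B0⁆ : Subgroup G) := by
    have h2 := mul_mem (hmem hcc) (inv_mem hcc)
    have h3 := hdK t ht
    have e : t * c * t⁻¹ * c⁻¹ = t * w * t⁻¹ * w⁻¹ := by
      rw [ec]
      calc t * (w * d) * t⁻¹ * (w * d)⁻¹ = t * w * (t⁻¹ * (t * d) * t⁻¹) * d⁻¹ * w⁻¹ := by group
        _ = t * w * (t⁻¹ * (d * t) * t⁻¹) * d⁻¹ * w⁻¹ := by rw [h3]
        _ = _ := by group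
    rwa [e] at h2
  set w1 := t * w * t⁻¹ * w⁻¹ with hw1d
  have hw1W : w1 ∈ W p := mul_mem (htW w hwW) (inv_mem hwW)
  have hw11 : w1 ≠ 1 := fun e => hw1 (htf w hwW (mul_inv_eq_one.1 e))
  -- the transvection
  obtain ⟨b, hb, hbC, u, hu, hbu⟩ := h.exists_t p
  have hbl : ∀ x ∈ W l, b * x = x * b := fun x hx => hbC x (h.fr.WjC p l hpl hx)
  have hcen := k.cen_ch h hb hbl
  have hne' : ¬ ∀ u ∈ W p, b * u = u * b := fun h2 => hbu (h2 u hu)
  have hZ1 : w1 ∈ Z p := (h.fr.blk p).mem_Z hb hne' hw1W (hcen w1 hw1c)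
  have hZ2 : t * w1 * t⁻¹ ∈ Z p := (h.fr.blk p).mem_Z hb hne' (htW w1 hw1W) (hcen _ (hmem hw1c))
  have hne2 : t * w1 * t⁻¹ ≠ 1 := fun e => hw11 (by
    have h3 : w1 = t⁻¹ * (t * w1 * t⁻¹) * t := by group
    rw [h3, e]; group)
  exact hw11 (htf w1 hw1W (h.Z_two p hZ2 hZ1 hne2 hw11))

end Cfsg.Agent.Omega.OM.Lev.Low.TorusV

end

section


/-!
# TORUS in box R, light pairs with a common letter (helper400)

`BZ` : a torus block `K` over `B₀` with line `W l` which centralises the `Z p`, `p ≠ l` (not the `W p`).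

* `Gd g l` : `g` normalises `B₀`, `g ∈ M₀`, `g` centralises all `Z p`, `p ≠ m`, for one `m ≠ l`;
* `uniG` : for such `g`, `[N, K]^g X = [N, K] X`; `chG` : `g` normalises `[[N, K], B₀]`;
* `cen_ch` : an element of `B` which centralises `W l` centralises `[[N, K], B₀]`;
* `ch_cen` : `[[N, K], B₀] ∩ C(K) = 1` (all lines conjugate); `ch_W` : `[[N, K], B₀] = W l`;
* **`cjW`** : `g` normalises `W l`.
-/

set_option autoImplicit false
set_option linter.unusedSectionVars false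

namespace Cfsg.Agent.Omega.OM.LowV.Cross

open Subgroup Cfsg Cfsg.Agent.ZN Cfsg.Agent.ZN.ChoiceBase
open Cfsg.Agent.Omega.OM.Lev.Low.TorusK (uni cB_eq)
open Cfsg.Agent.Omega.OM.Lev.Low.TorusV (TK exists_fix_mod comm_cjj comm_supX)
open Cfsg.Agent.Omega.OM.Lev.Low
open Cfsg.Agent.Omega.SQ1.Bau (mem_sup_comm card_sup_comm elem_comm elem_sq)
open Cfsg.Agent.Omega.NO3S.Level.Claim (Fm Bl cB mem_cB cB_le)
open Cfsg.Agent.Omega.OM.Lev.Uni (FrL)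
open Cfsg.Agent.Omega.OM.Lev.Low.TorusK.PBC
open scoped commutatorElement

universe u

variable {G : Type u} [Group G] {ι : Type} {S B Q V Xn ZJ B0 X M0 Y0 : Subgroup G} {L W Z C A : ι → Subgroup G} {z : G}
  {l : ι} {K N N1 N0 : Subgroup G}

/-- A torus block `K` over `B₀` with line `W l`, module `[N, K]`, which centralises the `Z p`, `p ≠ l`. -/
structure BZ {ι : Type} (B B0 X M0 Y0 : Subgroup G) (W Z : ι → Subgroup G) (l : ι) (K N N1 N0 : Subgroup G) :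
    Prop where
  pb : PB B0 K N N1 N0 4
  NY : N ≤ Y0
  KM : K ≤ M0
  WN : W l ≤ N1
  WN0 : W l ⊓ N0 = ⊥
  cZ : ∀ p, p ≠ l → ∀ w ∈ Z p, ∀ k ∈ K, k * w = w * k
  BX : B ≤ normalizer ((X ⊓ centralizer (K : Set G) : Subgroup G) : Set G)
  /-- a torus element -/
  tor : ∃ h ∈ K, h ∈ normalizer (B0 : Set G) ∧ (∀ w ∈ W l, h * w * h⁻¹ ∈ W l) ∧ ∀ w ∈ W l, h * w * h⁻¹ = w → w = 1
  cc : W l ≤ ⁅⁅N, K⁆, B0⁆

/-- `g` normalises `B₀`, `g ∈ M₀`, `g` centralises all `Z p`, `p ≠ m`, for one `m ≠ l`. -/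
structure Gd {ι : Type} (B0 M0 : Subgroup G) (Z : ι → Subgroup G) (l : ι) (g : G) : Prop where
  nB : g ∈ normalizer (B0 : Set G)
  M : g ∈ M0
  cz : ∃ m, m ≠ l ∧ ∀ p, p ≠ m → ∀ x ∈ Z p, g * x = x * g

namespace BZ

/-- the block over one index -/
theorem bk (k : BZ B B0 X M0 Y0 W Z l K N N1 N0) : TorusV.BK B B0 X M0 Y0 (fun _ : Unit => W l) () K N N1 N0 :=
  ⟨k.pb, k.NY, k.KM, k.WN, k.WN0, fun p hp => absurd (Subsingleton.elim p ()) hp, k.BX, k.tor⟩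

theorem VB0 [Finite G] (k : BZ B B0 X M0 Y0 W Z l K N N1 N0) : ⁅N, K⁆ ≤ B0 := k.pb.VN.trans k.pb.NB

theorem VY0 [Finite G] (k : BZ B B0 X M0 Y0 W Z l K N N1 N0) : ⁅N, K⁆ ≤ Y0 := k.pb.VN.trans k.NY

theorem W_cen (k : BZ B B0 X M0 Y0 W Z l K N N1 N0) {w : G} (hw : w ∈ W l) (hc : ∀ g ∈ K, g * w = w * g) : w = 1 :=
  k.bk.W_cen hw hc

/-- **conjugates** -/
theorem cj (h : TK S B Q V Xn ZJ B0 X M0 Y0 L W Z C A z) [Finite G] (k : BZ B B0 X M0 Y0 W Z l K N N1 N0) {s : G}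
    (hs : s ∈ S) {m : ι} (hm : ChoiceBase.cj s (W l) = W m) :
    BZ B B0 X M0 Y0 W Z m (ChoiceBase.cj s K) (ChoiceBase.cj s N) (ChoiceBase.cj s N1) (ChoiceBase.cj s N0) where
  pb := by
    have h1 := pb_cj k.pb s
    rwa [cj_eq_of_mem_normalizer (h.SB0 hs)] at h1
  NY := by
    have h1 := cj_mono s k.NY
    rwa [cj_eq_of_mem_normalizer (h.SMY hs)] at h1
  KM := by
    have h1 := cj_mono s k.KM
    rwa [cj_eq_of_mem_normalizer (le_normalizer (h.SM hs))] at h1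
  WN := by rw [← hm]; exact cj_mono s k.WN
  WN0 := by
    rw [← hm, ← cj_inf, k.WN0]
    exact Subgroup.map_bot _
  cZ := by
    intro p hp w hw x hx0
    obtain ⟨x, hx, rfl⟩ := ex_cj hx0
    obtain ⟨j, hj, hjZ, -⟩ := h.perm s⁻¹ (inv_mem hs) p
    have hjl : j ≠ l := fun e => hp (by
      have h1 : ChoiceBase.cj s (W j) = W p := by rw [← hj, cj_cj, mul_inv_cancel, cj_one]
      rw [e, hm] at h1
      by_contra hne
      have h2 := h.fr.WjC m p (Ne.symm hne)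
      rw [← h1] at h2
      have h3 : W m ≤ W m ⊓ C m := le_inf le_rfl h2
      rw [h.fr.dir m] at h3
      have h4 := h.cardW m
      rw [eq_bot_iff.2 h3, Subgroup.card_bot] at h4
      omega)
    have hw' : s⁻¹ * w * s ∈ Z j := by
      rw [← hjZ, mem_cj']
      simpa [mul_assoc] using hw
    have h1 := k.cZ j hjl _ hw' x hx
    have h2 := (Cfsg.Agent.Omega.OM.Lev.Low.TorusK.PBC.comm_cj (g := s)).2 h1
    have e : s * (s⁻¹ * w * s) * s⁻¹ = w := by group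
    rwa [e] at h2
  BX := by
    have h1 : ChoiceBase.cj s (X ⊓ centralizer (K : Set G)) = X ⊓ centralizer (ChoiceBase.cj s K : Set G) := by
      rw [cj_inf, cj_centralizer, cj_eq_of_mem_normalizer (h.SX hs)]
    rw [← h1]
    intro b hb
    rw [mem_normalizer_iff_cj]
    have hb' : s⁻¹ * b * s ∈ B := by
      have := (mem_normalizer_iff.1 (inv_mem (h.SB hs)) b).1 hb
      simpa using this
    have h2 := cj_eq_of_mem_normalizer (k.BX hb')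
    rw [cj_cj, show b * s = s * (s⁻¹ * b * s) by group, ← cj_cj, h2]
  tor := by
    obtain ⟨x, hx, hxB, hxW, hxf⟩ := k.tor
    refine ⟨_, cj_mem hx, ?_, ?_, ?_⟩
    · have h1 : s ∈ normalizer (B0 : Set G) := h.SB0 hs
      exact mul_mem (mul_mem h1 hxB) (inv_mem h1)
    · intro w hw0
      rw [← hm] at hw0 ⊢
      obtain ⟨w, hw, rfl⟩ := ex_cj hw0
      have e : s * x * s⁻¹ * (s * w * s⁻¹) * (s * x * s⁻¹)⁻¹ = s * (x * w * x⁻¹) * s⁻¹ := by group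
      rw [e]
      exact cj_mem (hxW w hw)
    · intro w hw0 he
      rw [← hm] at hw0
      obtain ⟨w, hw, rfl⟩ := ex_cj hw0
      have e : s * x * s⁻¹ * (s * w * s⁻¹) * (s * x * s⁻¹)⁻¹ = s * (x * w * x⁻¹) * s⁻¹ := by group
      rw [e] at he
      have h1 := hxf w hw (mul_left_cancel (mul_right_cancel he))
      rw [h1]; group
  cc := by
    have h1 := cj_mono s k.cc
    rw [hm, ← comm_cjj, ← comm_cjj, cj_eq_of_mem_normalizer (h.SB0 hs)] at h1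
    exact h1

/-- `[X, K] ≤ [N, K]` -/
theorem act [Finite G] (h : TK S B Q V Xn ZJ B0 X M0 Y0 L W Z C A z) (k : BZ B B0 X M0 Y0 W Z l K N N1 N0) {g x : G}
    (hg : g ∈ K) (hx : x ∈ X) : g * x * g⁻¹ * x⁻¹ ∈ (⁅N, K⁆ : Subgroup G) := by
  rw [← h.zB] at hx
  obtain ⟨c, hc, hcl, n, hn, rfl⟩ := k.pb.Z_split hx
  have h1 := k.pb.comm_mem hg (k.pb.N1N hn)
  have h2 : c * (g * n * g⁻¹ * n⁻¹) = (g * n * g⁻¹ * n⁻¹) * c :=
    ((ChoiceBase.mem_zc.1 hc).2.2 _ (k.pb.NB (k.pb.VN h1))).symm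
  have e : g * (c * n) * g⁻¹ * (c * n)⁻¹ = g * n * g⁻¹ * n⁻¹ := by
    calc g * (c * n) * g⁻¹ * (c * n)⁻¹ = (g * c) * n * g⁻¹ * (n⁻¹ * c⁻¹) := by group
      _ = (c * g) * n * g⁻¹ * (n⁻¹ * c⁻¹) := by rw [hcl g hg]
      _ = c * (g * n * g⁻¹ * n⁻¹) * c⁻¹ := by group
      _ = (g * n * g⁻¹ * n⁻¹) * c * c⁻¹ := by rw [h2]
      _ = _ := by group
  rw [e]
  exact h1

end BZ

theorem Gd.nX [Finite G] (h : TK S B Q V Xn ZJ B0 X M0 Y0 L W Z C A z) {g : G} (hg : Gd B0 M0 Z l g) :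
    ChoiceBase.cj g X = X := by
  rw [← h.zB, ← zc_cj', cj_eq_of_mem_normalizer hg.nB]

/-- **(UNI)** for `K`, `K^g`. -/
theorem uniG [Finite G] (h : TK S B Q V Xn ZJ B0 X M0 Y0 L W Z C A z) (k : BZ B B0 X M0 Y0 W Z l K N N1 N0) {g : G}
    (hg : Gd B0 M0 Z l g) :
    cj g ⁅N, K⁆ ≤ ⁅N, K⁆ ⊔ X ∧ ⁅N, K⁆ ≤ cj g ⁅N, K⁆ ⊔ X ∧ cB B0 ⁅N, K⁆ = cB B0 (cj g ⁅N, K⁆) := by
  obtain ⟨m, hm, hz⟩ := hg.cz
  obtain ⟨E, hE, hEB, hZE, hn⟩ := h.loc2 l m (Ne.symm hm)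
  obtain ⟨x, hx, hx1⟩ := h.exists_Z l
  obtain ⟨y, hy, hy1⟩ := h.exists_Z m
  have hxy := hZE x hx y hy hx1 hy1
  have hKE : K ≤ normalizer (E : Set G) := fun a ha => hn a fun p hp _ w hw => k.cZ p hp w hw a ha
  have hgE : g ∈ normalizer (E : Set G) := hn g fun p _ hp w hw => hz p hp w hw
  have hFE : ⁅N, K⁆ ≤ E := k.bk.le_of' hKE (w := x) (h.ZW l hx) hx1 (c := y) (fun a ha => k.cZ m hm y hy a ha) hxy
  have hgX : cj g X = X := hg.nX h
  have hgY : cj g Y0 = Y0 := cj_eq_of_mem_normalizer (h.MY hg.M)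
  have hgE' : cj g E = E := cj_eq_of_mem_normalizer hgE
  -- `U`
  obtain ⟨U, hU0⟩ : ∃ U, U = E ⊓ centralizer (X : Set G) ⊓ Y0 := ⟨_, rfl⟩
  have hgU : cj g U = U := by rw [hU0, cj_inf, cj_inf, cj_centralizer, hgX, hgY, hgE']
  have hU : IsElementaryAbelian 2 U := by
    rw [hU0]
    exact Cfsg.Agent.PLocal.ThompsonJ.isElementaryAbelian_mono hE (inf_le_left.trans inf_le_left)
  have hUB : U ≤ B0 := by
    rw [hU0]
    rintro e ⟨⟨h1, h2⟩, -⟩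
    exact hEB e h1 fun x hx => (mem_centralizer_iff.1 h2 x hx).symm
  have hUY : U ≤ Y0 := by rw [hU0]; exact inf_le_right
  have hFU : ⁅N, K⁆ ≤ U := by
    rw [hU0]
    exact le_inf (le_inf hFE fun v hv => mem_centralizer_iff.2 fun x hx => (h.cX (k.VB0 hv) hx).symm) k.VY0
  have hKU : K ≤ normalizer (U : Set G) := by
    rw [hU0]
    have key : ∀ g ∈ K, cj g (E ⊓ centralizer (X : Set G) ⊓ Y0) ≤ E ⊓ centralizer (X : Set G) ⊓ Y0 := by
      intro g hg y hy0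
      obtain ⟨y, ⟨⟨hyE, hyX⟩, hyY⟩, rfl⟩ := ex_cj hy0
      refine ⟨⟨(mem_normalizer_iff.1 (hKE hg) _).1 hyE, mem_centralizer_iff.2 fun x hx => ?_⟩,
        (mem_normalizer_iff.1 (h.MY (k.KM hg)) _).1 hyY⟩
      have h1 := k.act h (inv_mem hg) hx
      have h2 : y * (g⁻¹ * x * g⁻¹⁻¹ * x⁻¹) = (g⁻¹ * x * g⁻¹⁻¹ * x⁻¹) * y := elem_comm hE y hyE _ (hFE h1)
      have h3 : x * y = y * x := mem_centralizer_iff.1 hyX x hx
      have h4 : y * (g⁻¹ * x * g) = (g⁻¹ * x * g) * y := by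
        calc y * (g⁻¹ * x * g) = y * (g⁻¹ * x * g⁻¹⁻¹ * x⁻¹) * x := by group
          _ = (g⁻¹ * x * g⁻¹⁻¹ * x⁻¹) * (y * x) := by rw [h2]; group
          _ = (g⁻¹ * x * g⁻¹⁻¹ * x⁻¹) * (x * y) := by rw [h3]
          _ = _ := by group
      calc x * (g * y * g⁻¹) = g * ((g⁻¹ * x * g) * y) * g⁻¹ := by group
        _ = g * (y * (g⁻¹ * x * g)) * g⁻¹ := by rw [h4]
        _ = _ := by group
    exact fun g hg => mem_normalizer_of_cj_le (key g hg)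
  have hgU' : g ∈ normalizer (U : Set G) := mem_normalizer_iff_cj.2 hgU
  have hFU' : cj g ⁅N, K⁆ ≤ U := by
    have h1 := cj_mono g hFU
    rwa [hgU] at h1
  have hKU' : cj g K ≤ normalizer (U : Set G) := by
    intro a' ha'
    obtain ⟨a, ha, rfl⟩ := ex_cj ha'
    exact mul_mem (mul_mem hgU' (hKU ha)) (inv_mem hgU')
  have hKM' : cj g K ≤ M0 := by
    intro a' ha'
    obtain ⟨a, ha, rfl⟩ := ex_cj ha'
    exact mul_mem (mul_mem hg.M (k.KM ha)) (inv_mem hg.M)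
  obtain ⟨T, AA, f⟩ := h.fml U (normalizer (U : Set G) ⊓ M0) hU hUB hUY inf_le_left inf_le_right
  have b1 := BlOf.bl_V k.pb f (by rw [h.zB]) hFU (le_inf hKU k.KM) hKU
  have pb' : PB B0 (cj g K) (cj g N) (cj g N1) (cj g N0) 4 := by
    have h1 := pb_cj k.pb g
    rwa [cj_eq_of_mem_normalizer hg.nB] at h1
  have b2 := BlOf.bl_V pb' f (by rw [h.zB]) (by rw [comm_cjj]; exact hFU') (le_inf hKU' hKM') hKU'
  rw [comm_cjj] at b2
  -- an element of `⁅F', B₀⁆` which is not centralised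
  have hxg : g * x = x * g := hz l (Ne.symm hm) x hx
  have key : ∀ F K' : Subgroup G, (∀ b ∈ B0, ∀ v ∈ F, b * v * b⁻¹ * v⁻¹ ∈ centralizer (K' : Set G)) →
      x ∈ (⁅F, B0⁆ : Subgroup G) → x ∈ centralizer (K' : Set G) := by
    intro F K' h1 h2
    have h3 : (⁅F, B0⁆ : Subgroup G) ≤ centralizer (K' : Set G) := by
      rw [Subgroup.commutator_le]
      intro v hv b hb
      have e : ⁅v, b⁆ = (b * v * b⁻¹ * v⁻¹)⁻¹ := by rw [commutatorElement_def]; group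
      rw [e]
      exact inv_mem (h1 b hb v hv)
    exact h3 h2
  have hm1 : ∃ b ∈ B0, ∃ v ∈ cj g ⁅N, K⁆, b * v * b⁻¹ * v⁻¹ ∉ centralizer (K : Set G) := by
    by_contra hcon
    push Not at hcon
    have h1 : x ∈ (⁅cj g ⁅N, K⁆, B0⁆ : Subgroup G) := by
      have h2 : ChoiceBase.cj g B0 = B0 := cj_eq_of_mem_normalizer hg.nB
      have h3 : (⁅cj g ⁅N, K⁆, B0⁆ : Subgroup G) = cj g ⁅⁅N, K⁆, B0⁆ := by
        conv_lhs => rw [← h2]
        exact comm_cjj g _ _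
      rw [h3]
      have h4 := cj_mem (g := g) (k.cc (h.ZW l hx))
      have e : g * x * g⁻¹ = x := by rw [hxg]; group
      rwa [e] at h4
    have h5 := key _ _ hcon h1
    exact hx1 (k.W_cen (h.ZW l hx) fun a ha => mem_centralizer_iff.1 h5 a ha)
  have hm2 : ∃ b ∈ B0, ∃ v ∈ (⁅N, K⁆ : Subgroup G), b * v * b⁻¹ * v⁻¹ ∉ centralizer (cj g K : Set G) := by
    by_contra hcon
    push Not at hcon
    have h5 := key _ _ hcon (k.cc (h.ZW l hx))
    refine hx1 (k.W_cen (h.ZW l hx) fun a ha => ?_)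
    have h6 := mem_centralizer_iff.1 h5 _ (cj_mem (g := g) ha)
    have e : x = g * x * g⁻¹ := by rw [hxg]; group
    rw [e] at h6
    exact Cfsg.Agent.Omega.OM.Lev.Low.TorusK.PBC.comm_cj.1 h6
  exact ⟨(uni f b1 b2 hm1).trans (sup_le_sup_left inf_le_right _),
    (uni f b2 b1 hm2).trans (sup_le_sup_left inf_le_right _), cB_eq f b1 b2 hm1⟩

/-- `g` normalises `[[N, K], B₀]` -/
theorem chG [Finite G] (h : TK S B Q V Xn ZJ B0 X M0 Y0 L W Z C A z) (k : BZ B B0 X M0 Y0 W Z l K N N1 N0) {g : G}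
    (hg : Gd B0 M0 Z l g) : cj g ⁅⁅N, K⁆, B0⁆ = ⁅⁅N, K⁆, B0⁆ := by
  obtain ⟨h1, h2, -⟩ := uniG h k hg
  have h3 : cj g ⁅⁅N, K⁆, B0⁆ = ⁅cj g ⁅N, K⁆, B0⁆ := by
    have h4 : cj g B0 = B0 := cj_eq_of_mem_normalizer hg.nB
    conv_rhs => rw [← h4]
    exact (comm_cjj g _ _).symm
  have h5 : cj g ⁅N, K⁆ ≤ B0 := by
    have h4 := cj_mono g k.VB0
    rwa [cj_eq_of_mem_normalizer hg.nB] at h4
  rw [h3]
  exact le_antisymm (comm_supX h h1 k.VB0) (comm_supX h h2 h5)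

namespace BZ

theorem N0X [Finite G] (h : TK S B Q V Xn ZJ B0 X M0 Y0 L W Z C A z) (k : BZ B B0 X M0 Y0 W Z l K N N1 N0) {n : G}
    (hn : n ∈ N0) : n ∈ X ⊓ centralizer (K : Set G) := by
  refine mem_inf.2 ⟨?_, mem_centralizer_iff.2 fun g hg => k.pb.N0c g hg n hn⟩
  rw [← h.zB]
  exact (BlOf.line_iff k.pb (k.pb.N1N (k.pb.N01 hn))).1 (k.pb.N01 hn)

theorem N1X [Finite G] (h : TK S B Q V Xn ZJ B0 X M0 Y0 L W Z C A z) (k : BZ B B0 X M0 Y0 W Z l K N N1 N0) {n : G}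
    (hn : n ∈ N) : n ∈ N1 ↔ n ∈ X := by
  rw [← h.zB]
  exact BlOf.line_iff k.pb hn

theorem split1 [Finite G] (h : TK S B Q V Xn ZJ B0 X M0 Y0 L W Z C A z) (k : BZ B B0 X M0 Y0 W Z l K N N1 N0) {n : G}
    (hn : n ∈ N1) : ∃ w ∈ W l, ∃ n0 ∈ N0, n = w * n0 := by
  rw [k.bk.N1_eq (h.cardW l)] at hn
  exact mem_sup_comm (fun a ha b hb => k.pb.comm (k.pb.N1N (k.WN ha)) (k.pb.N1N (k.pb.N01 hb))) hn

/-- `N₁ ∩ C(K) = N₀` -/
theorem mem_N0 [Finite G] (h : TK S B Q V Xn ZJ B0 X M0 Y0 L W Z C A z) (k : BZ B B0 X M0 Y0 W Z l K N N1 N0) {n : G}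
    (hn : n ∈ N1) (hc : ∀ g ∈ K, g * n = n * g) : n ∈ N0 := by
  obtain ⟨w, hw, n0, hn0, rfl⟩ := k.split1 h hn
  have h1 : w = 1 := k.W_cen hw fun g hg => by
    have h2 := hc g hg
    have h3 := k.pb.N0c g hg n0 hn0
    have h4 : g * w * n0 = w * g * n0 := by
      calc g * w * n0 = g * (w * n0) := by group
        _ = (w * n0) * g := h2
        _ = w * (n0 * g) := by group
        _ = w * (g * n0) := by rw [h3]
        _ = _ := by group
    exact mul_right_cancel h4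
  rw [h1, one_mul]
  exact hn0

theorem ch_le [Finite G] (k : BZ B B0 X M0 Y0 W Z l K N N1 N0) : ⁅⁅N, K⁆, B0⁆ ≤ N1 := by
  rw [Subgroup.commutator_le]
  intro v hv b hb
  have h1 := k.pb.quad b hb v (k.pb.VN hv)
  have e : ⁅v, b⁆ = (b * v * b⁻¹ * v⁻¹)⁻¹ := by rw [commutatorElement_def]; group
  rw [e]
  exact inv_mem h1

/-- the elements of `B` -/
theorem gdB [Finite G] (h : TK S B Q V Xn ZJ B0 X M0 Y0 L W Z C A z) (h2 : ∃ m, m ≠ l) {b : G} (hb : b ∈ B) :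
    Gd B0 M0 Z l b := by
  obtain ⟨m, hm⟩ := h2
  exact ⟨h.BB0 hb, h.SM (h.BS hb), m, hm, fun p _ x hx => h.cZJ hb (h.fr.Z_le p hx)⟩

/-- an element of `B` centralising the line `W l` centralises `[[N, K], B₀]` -/
theorem cen_ch [Finite G] (h : TK S B Q V Xn ZJ B0 X M0 Y0 L W Z C A z) (h2 : ∃ m, m ≠ l)
    (k : BZ B B0 X M0 Y0 W Z l K N N1 N0) {b : G}
    (hb : b ∈ B) (hbW : ∀ w ∈ W l, b * w = w * b) : ∀ x ∈ (⁅⁅N, K⁆, B0⁆ : Subgroup G), b * x = x * b := by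
  obtain ⟨hu, -, hc⟩ := uniG h k (gdB h h2 hb)
  set V' : Subgroup G := ⁅N, K⁆ with hV'
  have hVB : V' ≤ B0 := k.VB0
  have hVN : V' ≤ N := k.pb.VN
  have hbB0 := h.BB0 hb
  have hbX := h.BX' hb
  have hcX : ∀ a ∈ V', ∀ x ∈ X, a * x = x * a := fun a ha x hx => h.cX (hVB ha) hx
  -- `b` acts on `V' X`
  have hM : ∀ v ∈ V', ∃ u ∈ V', ∃ x ∈ X, b * v * b⁻¹ = u * x := fun v hv =>
    mem_sup_comm hcX (hu (cj_mem hv))
  have hXK : ∀ x ∈ X ⊓ centralizer (K : Set G), b * x * b⁻¹ ∈ X ⊓ centralizer (K : Set G) := fun x hx =>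
    (mem_normalizer_iff.1 (k.BX hb) x).1 hx
  -- (F3)
  have F3 : ∀ y ∈ N1, b * y * b⁻¹ * y⁻¹ ∈ X ⊓ centralizer (K : Set G) := by
    intro y hy
    obtain ⟨w, hw, n, hn, rfl⟩ := k.split1 h hy
    have hnX := k.N0X h hn
    have h1 := mul_mem (hXK n hnX) (inv_mem hnX)
    have e : b * (w * n) * b⁻¹ * (w * n)⁻¹ = b * n * b⁻¹ * n⁻¹ := by
      have h2 : w * (b * n * b⁻¹ * n⁻¹) = (b * n * b⁻¹ * n⁻¹) * w := h.Xc (h.WX l hw) h1.1
      calc b * (w * n) * b⁻¹ * (w * n)⁻¹ = (b * w) * n * b⁻¹ * n⁻¹ * w⁻¹ := by group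
        _ = (w * b) * n * b⁻¹ * n⁻¹ * w⁻¹ := by rw [hbW w hw]
        _ = w * (b * n * b⁻¹ * n⁻¹) * w⁻¹ := by group
        _ = (b * n * b⁻¹ * n⁻¹) * w * w⁻¹ := by rw [h2]
        _ = _ := by group
    rw [e]
    exact h1
  -- `[a, u x] = [a, u]`
  have F5 : ∀ a ∈ B0, ∀ u, ∀ x ∈ X, a * (u * x) * a⁻¹ * (u * x)⁻¹ = a * u * a⁻¹ * u⁻¹ := by
    intro a ha u x hx
    have h1 := h.cX ha hx
    calc a * (u * x) * a⁻¹ * (u * x)⁻¹ = a * u * (x * a⁻¹) * x⁻¹ * u⁻¹ := by group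
      _ = a * u * (a⁻¹ * (a * x) * a⁻¹) * x⁻¹ * u⁻¹ := by group
      _ = a * u * (a⁻¹ * (x * a) * a⁻¹) * x⁻¹ * u⁻¹ := by rw [h1]
      _ = _ := by group
  -- the element `y`
  have hXV : ¬ V' ⊔ X ≤ X := by
    intro hle
    obtain ⟨v, hv, hv1⟩ := k.pb.exists_v
    obtain ⟨u, hu', n, hn, rfl⟩ := k.pb.exists_V hv
    exact hv1 (mul_mem ((k.N1X h (hVN hu')).2 (hle (mem_sup_left hu'))) (k.pb.N01 hn))
  have hX2 : IsPGroup 2 B0 := k.pb.Bp
  have hle0 : V' ⊔ X ≤ B0 := sup_le hVB h.XB0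
  have hPX : zpowers b ≤ normalizer (X : Set G) := by rw [zpowers_le]; exact hbX
  have hPM : zpowers b ≤ normalizer ((V' ⊔ X : Subgroup G) : Set G) := by
    rw [zpowers_le]
    refine mem_normalizer_of_cj_le ?_
    rw [show ChoiceBase.cj b (V' ⊔ X) = ChoiceBase.cj b V' ⊔ ChoiceBase.cj b X from Subgroup.map_sup _ _ _,
      cj_eq_of_mem_normalizer hbX]
    exact sup_le hu le_sup_right
  have hMX : V' ⊔ X ≤ normalizer (X : Set G) := sup_le (fun v hv => mem_normalizer_of_cj_le (by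
    rintro _ ⟨x, hx, rfl⟩
    show v * x * v⁻¹ ∈ X
    rw [hcX v hv x hx, mul_inv_cancel_right]
    exact hx)) le_normalizer
  obtain ⟨y0, hy0, hy0X, hfix⟩ := exists_fix_mod (h.twoB.to_le (by rw [zpowers_le]; exact hb)) hPX hPM
    (hX2.to_le hle0) hMX hXV
  obtain ⟨y, hy, x0, hx0, rfl⟩ := mem_sup_comm hcX hy0
  have hyX : y ∉ X := fun h1 => hy0X (mul_mem h1 hx0)
  have hyN1 : y ∉ N1 := fun h1 => hyX ((k.N1X h (hVN hy)).1 h1)
  -- `b y b⁻¹ = y x₁`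
  obtain ⟨x1, hx1, hyb⟩ : ∃ x1 ∈ X, b * y * b⁻¹ = y * x1 := by
    have h1 := hfix b (mem_zpowers b)
    have hx0' : b * x0 * b⁻¹ ∈ X := (mem_normalizer_iff.1 hbX x0).1 hx0
    refine ⟨y⁻¹ * (b * (y * x0) * b⁻¹ * (y * x0)⁻¹) * y * (x0 * (b * x0 * b⁻¹)⁻¹), ?_, ?_⟩
    · refine mul_mem ?_ (mul_mem hx0 (inv_mem hx0'))
      have h2 := hcX y⁻¹ (inv_mem hy) _ h1
      have e : y⁻¹ * (b * (y * x0) * b⁻¹ * (y * x0)⁻¹) * y = b * (y * x0) * b⁻¹ * (y * x0)⁻¹ := by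
        rw [h2]; group
      rw [e]; exact h1
    · have h2 := hcX y hy x0 hx0
      calc b * y * b⁻¹ = b * (y * x0) * b⁻¹ * (y * x0)⁻¹ * (y * x0) * (b * x0 * b⁻¹)⁻¹ := by group
        _ = _ := by group
  -- (i) `b a b⁻¹ ∈ a C(V')`
  have hpi : ∀ a ∈ B0, ∀ v ∈ V', (b * a * b⁻¹ * a⁻¹) * v = v * (b * a * b⁻¹ * a⁻¹) := by
    intro a ha
    have ha' : b * a * b⁻¹ ∈ B0 := (mem_normalizer_iff.1 hbB0 a).1 ha
    have e1 : b * (a * y * a⁻¹ * y⁻¹) * b⁻¹ = (b * a * b⁻¹) * y * (b * a * b⁻¹)⁻¹ * y⁻¹ := by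
      rw [← F5 _ ha' y x1 hx1, ← hyb]; group
    have h1 := F3 _ (k.pb.quad a ha y (hVN hy))
    rw [e1] at h1
    -- `[a' a⁻¹, y] ∈ X_K`
    have ha'' : b * a * b⁻¹ * a⁻¹ ∈ B0 := mul_mem ha' (inv_mem ha)
    have e2 : (b * a * b⁻¹ * a⁻¹) * y * (b * a * b⁻¹ * a⁻¹)⁻¹ * y⁻¹ =
        (b * a * b⁻¹) * y * (b * a * b⁻¹)⁻¹ * y⁻¹ * (a * y * a⁻¹ * y⁻¹)⁻¹ := by
      have hq : a⁻¹ * y * a⁻¹⁻¹ * y⁻¹ ∈ N1 := k.pb.quad a⁻¹ (inv_mem ha) y (hVN hy)
      have h3 : a * (a⁻¹ * y * a⁻¹⁻¹ * y⁻¹) = (a⁻¹ * y * a⁻¹⁻¹ * y⁻¹) * a := k.pb.N1c a ha _ hq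
      have h4 : (b * a * b⁻¹) * (a⁻¹ * y * a⁻¹⁻¹ * y⁻¹) = (a⁻¹ * y * a⁻¹⁻¹ * y⁻¹) * (b * a * b⁻¹) :=
        k.pb.N1c _ ha' _ hq
      have h5 : a⁻¹ * y * a⁻¹⁻¹ * y⁻¹ = (a * y * a⁻¹ * y⁻¹)⁻¹ := by
        have h6 : a * (a⁻¹ * y * a⁻¹⁻¹ * y⁻¹) * a⁻¹ = a⁻¹ * y * a⁻¹⁻¹ * y⁻¹ := by rw [h3]; group
        rw [← h6]; group
      rw [← h5]
      have hcm : (a⁻¹ * y * a⁻¹⁻¹ * y⁻¹) * ((b * a * b⁻¹) * y * (b * a * b⁻¹)⁻¹ * y⁻¹) =
          ((b * a * b⁻¹) * y * (b * a * b⁻¹)⁻¹ * y⁻¹) * (a⁻¹ * y * a⁻¹⁻¹ * y⁻¹) :=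
        k.pb.comm (k.pb.N1N hq) (k.pb.N1N (k.pb.quad _ ha' y (hVN hy)))
      rw [← hcm]
      calc (b * a * b⁻¹ * a⁻¹) * y * (b * a * b⁻¹ * a⁻¹)⁻¹ * y⁻¹ =
          ((b * a * b⁻¹) * (a⁻¹ * y * a⁻¹⁻¹ * y⁻¹)) * y * (b * a * b⁻¹)⁻¹ * y⁻¹ := by group
        _ = _ := by rw [h4]; group
    have h2 : (b * a * b⁻¹ * a⁻¹) * y * (b * a * b⁻¹ * a⁻¹)⁻¹ * y⁻¹ ∈ N0 := by
      refine k.mem_N0 h (k.pb.quad _ ha'' y (hVN hy)) fun g hg => ?_
      rw [e2]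
      exact mem_centralizer_iff.1 h1.2 g hg
    by_contra hcon
    push Not at hcon
    obtain ⟨v, hv, hne⟩ := hcon
    exact hyN1 (k.pb.cent _ ha'' ⟨v, hVN hv, hne⟩ y (hVN hy) h2)
  -- (ii) `b v b⁻¹ ∈ v X`
  have hvX : ∀ v ∈ V', ∃ x ∈ X, b * v * b⁻¹ = v * x := by
    intro v hv
    obtain ⟨u, hu1, x, hx, e⟩ := hM v hv
    obtain ⟨a, ha, w, hw, hne⟩ := k.pb.exists_b
    have hne' : ∃ v ∈ N, (a : G) * v ≠ v * a := ⟨w, hw, hne⟩
    have ha' : b * a * b⁻¹ ∈ B0 := (mem_normalizer_iff.1 hbB0 a).1 ha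
    have hcon := k.pb.cent a ha hne' (u * v⁻¹) (mul_mem (hVN hu1) (inv_mem (hVN hv))) ?_
    · refine ⟨u * v⁻¹ * x, mul_mem ((k.N1X h (mul_mem (hVN hu1) (inv_mem (hVN hv)))).1 hcon) hx, ?_⟩
      rw [e]
      have h1 : u * v⁻¹ * x = x * (u * v⁻¹) := hcX _ (mul_mem hu1 (inv_mem hv)) x hx
      have h2 : v * (u * v⁻¹) = u := by
        rw [← mul_assoc, k.pb.comm (hVN hv) (hVN hu1), mul_inv_cancel_right]
      calc u * x = (v * (u * v⁻¹)) * x := by rw [h2]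
        _ = _ := by group
    · -- `[a, u v⁻¹] ∈ N₀`
      have h1 := F3 _ (k.pb.quad a ha v (hVN hv))
      have e1 : b * (a * v * a⁻¹ * v⁻¹) * b⁻¹ = a * u * a⁻¹ * u⁻¹ := by
        have h3 : b * (a * v * a⁻¹ * v⁻¹) * b⁻¹ = (b * a * b⁻¹) * (u * x) * (b * a * b⁻¹)⁻¹ * (u * x)⁻¹ := by
          rw [← e]; group
        rw [h3, F5 _ ha' u x hx]
        have h4 := hpi a ha (a * u * a⁻¹) (by
          have := (mem_normalizer_iff.1 (k.pb.LV (k.pb.BL ha)) u).1 hu1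
          exact this)
        have h5 : b * a * b⁻¹ * u * (b * a * b⁻¹)⁻¹ = a * u * a⁻¹ := by
          calc b * a * b⁻¹ * u * (b * a * b⁻¹)⁻¹ = (b * a * b⁻¹ * a⁻¹) * (a * u * a⁻¹) * (b * a * b⁻¹ * a⁻¹)⁻¹ := by group
            _ = (a * u * a⁻¹) * (b * a * b⁻¹ * a⁻¹) * (b * a * b⁻¹ * a⁻¹)⁻¹ := by rw [h4]
            _ = _ := by group
        rw [h5]
      rw [e1] at h1
      have e2 : a * (u * v⁻¹) * a⁻¹ * (u * v⁻¹)⁻¹ = a * u * a⁻¹ * u⁻¹ * (a * v * a⁻¹ * v⁻¹)⁻¹ := by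
        have hav : a * v⁻¹ * a⁻¹ ∈ N := k.pb.Nn a (k.pb.BL ha) _ (inv_mem (hVN hv))
        have h3 : (a * v⁻¹ * a⁻¹) * (v * u⁻¹) = (v * u⁻¹) * (a * v⁻¹ * a⁻¹) :=
          k.pb.comm hav (mul_mem (hVN hv) (inv_mem (hVN hu1)))
        have h4 : v * u⁻¹ = u⁻¹ * v := k.pb.comm (hVN hv) (inv_mem (hVN hu1))
        calc a * (u * v⁻¹) * a⁻¹ * (u * v⁻¹)⁻¹ = (a * u * a⁻¹) * ((a * v⁻¹ * a⁻¹) * (v * u⁻¹)) := by group
          _ = (a * u * a⁻¹) * ((v * u⁻¹) * (a * v⁻¹ * a⁻¹)) := by rw [h3]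
          _ = (a * u * a⁻¹) * ((u⁻¹ * v) * (a * v⁻¹ * a⁻¹)) := by rw [h4]
          _ = _ := by group
      refine k.mem_N0 h (k.pb.quad a ha _ (mul_mem (hVN hu1) (inv_mem (hVN hv)))) fun g hg => ?_
      rw [e2]
      exact mem_centralizer_iff.1 h1.2 g hg
  -- (iii)
  have hle : (⁅V', B0⁆ : Subgroup G) ≤ centralizer {b} := by
    rw [Subgroup.commutator_le]
    intro v hv a ha
    obtain ⟨x, hx, e⟩ := hvX v hv
    have ha' : b * a * b⁻¹ ∈ B0 := (mem_normalizer_iff.1 hbB0 a).1 ha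
    have h1 : b * (a * v * a⁻¹ * v⁻¹) * b⁻¹ = a * v * a⁻¹ * v⁻¹ := by
      have h3 : b * (a * v * a⁻¹ * v⁻¹) * b⁻¹ = (b * a * b⁻¹) * (v * x) * (b * a * b⁻¹)⁻¹ * (v * x)⁻¹ := by
        rw [← e]; group
      rw [h3, F5 _ ha' v x hx]
      have h4 := hpi a ha (a * v * a⁻¹) ((mem_normalizer_iff.1 (k.pb.LV (k.pb.BL ha)) v).1 hv)
      have h5 : b * a * b⁻¹ * v * (b * a * b⁻¹)⁻¹ = a * v * a⁻¹ := by
        calc b * a * b⁻¹ * v * (b * a * b⁻¹)⁻¹ = (b * a * b⁻¹ * a⁻¹) * (a * v * a⁻¹) * (b * a * b⁻¹ * a⁻¹)⁻¹ := by group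
          _ = (a * v * a⁻¹) * (b * a * b⁻¹ * a⁻¹) * (b * a * b⁻¹ * a⁻¹)⁻¹ := by rw [h4]
          _ = _ := by group
      rw [h5]
    have h2 : a * v * a⁻¹ * v⁻¹ ∈ centralizer ({b} : Set G) := by
      rw [mem_centralizer_singleton_iff]
      have h3 := congrArg (fun y => y * b) h1
      simpa [mul_assoc] using h3.symm
    have e2 : ⁅v, a⁆ = (a * v * a⁻¹ * v⁻¹)⁻¹ := by rw [commutatorElement_def]; group
    rw [e2]
    exact inv_mem h2
  intro x hx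
  exact (mem_centralizer_singleton_iff.1 (hle hx)).symm

/-- **(SPLIT)** -/
theorem ch_cen [Finite G] [Finite ι] (h : TK S B Q V Xn ZJ B0 X M0 Y0 L W Z C A z) (h2 : ∃ m, m ≠ l)
    (k : BZ B B0 X M0 Y0 W Z l K N N1 N0) : ⁅⁅N, K⁆, B0⁆ ⊓ centralizer (K : Set G) = ⊥ := by
  by_contra hne
  set D : Subgroup G := ⁅⁅N, K⁆, B0⁆ ⊓ (X ⊓ centralizer (K : Set G)) with hD
  have hDX : (⁅⁅N, K⁆, B0⁆ : Subgroup G) ≤ X := fun x hx => (k.N1X h (k.pb.N1N (k.ch_le hx))).1 (k.ch_le hx)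
  have hDne : D ≠ ⊥ := fun e => hne (by
    rw [eq_bot_iff, ← e]
    exact le_inf inf_le_left (le_inf (inf_le_left.trans hDX) inf_le_right))
  have hDB : B ≤ normalizer (D : Set G) := fun b hb => by
    rw [mem_normalizer_iff_cj, hD, cj_inf, chG h k (gdB h h2 hb), cj_eq_of_mem_normalizer (k.BX hb)]
  have hD2 : IsPGroup 2 D := h.twoB.to_le ((inf_le_left.trans hDX).trans (h.XB0.trans h.B0B))
  have h5 := PLocal.OffenderStep.inf_centralizer_ne_bot D B hD2 h.twoB hDB hDne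
  obtain ⟨⟨c, hc⟩, hc1⟩ := (Subgroup.ne_bot_iff_exists_ne_one).1 h5
  obtain ⟨⟨hcc, hcX, hcK⟩, hcB⟩ := mem_inf.1 hc
  replace hc1 : c ≠ 1 := fun e => hc1 (Subtype.ext e)
  have hcJ : c ∈ ZJ := h.mem_ZJ_of hcX fun b hb => mem_centralizer_iff.1 hcB b hb
  have h1 : ¬ ∀ i, c ∈ C i := fun hall => hc1 (h.fr.C0 c (h.fr.ZJV hcJ) hall)
  push Not at h1
  obtain ⟨p, hp⟩ := h1
  obtain ⟨w, hw, d, hd, hdJ, ec⟩ := h.fr.split_ZJ p hcJ
  have hw1 : w ≠ 1 := fun e => hp (by rw [ec, e, one_mul]; exact hd)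
  have hpl : p ≠ l := by
    rintro rfl
    refine hw1 (k.W_cen (h.ZW p hw) fun g hg => ?_)
    have h2 : d ∈ centralizer (K : Set G) := h.mem_of_C (H := centralizer (K : Set G)) (fun q hq => fun x hx =>
      mem_centralizer_iff.2 fun g hg => k.cZ q hq x hx g hg) hdJ hd
    have h3 : w = c * d⁻¹ := by rw [ec]; group
    have h4 : w ∈ centralizer (K : Set G) := by rw [h3]; exact mul_mem hcK (inv_mem h2)
    exact mem_centralizer_iff.1 h4 g hg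
  -- the block over `W p`
  obtain ⟨s, hs, hsW⟩ := h.tr l p
  have kp := k.cj h hs hsW
  obtain ⟨t, ht, htB, htW, htf⟩ := kp.tor
  -- `t` normalises `[[N, K], B₀]`
  have htn : ChoiceBase.cj t ⁅⁅N, K⁆, B0⁆ = ⁅⁅N, K⁆, B0⁆ :=
    chG h k ⟨htB, kp.KM ht, p, hpl, fun q hq x hx => kp.cZ q hq x hx t ht⟩
  have hdK : ∀ g ∈ ChoiceBase.cj s K, g * d = d * g := by
    have h2 : d ∈ centralizer (ChoiceBase.cj s K : Set G) :=
      h.mem_of_C (H := centralizer (ChoiceBase.cj s K : Set G)) (fun q hq => fun x hx =>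
        mem_centralizer_iff.2 fun g hg => kp.cZ q hq x hx g hg) hdJ hd
    exact fun g hg => mem_centralizer_iff.1 h2 g hg
  -- `w₁ = [t, w]`
  have hwW := h.ZW p hw
  have hmem : ∀ {x : G}, x ∈ (⁅⁅N, K⁆, B0⁆ : Subgroup G) → t * x * t⁻¹ ∈ (⁅⁅N, K⁆, B0⁆ : Subgroup G) := fun {x} hx => by
    have h3 := cj_mem (g := t) hx
    rwa [htn] at h3
  have hw1c : t * w * t⁻¹ * w⁻¹ ∈ (⁅⁅N, K⁆, B0⁆ : Subgroup G) := by
    have h2 := mul_mem (hmem hcc) (inv_mem hcc)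
    have h3 := hdK t ht
    have e : t * c * t⁻¹ * c⁻¹ = t * w * t⁻¹ * w⁻¹ := by
      rw [ec]
      calc t * (w * d) * t⁻¹ * (w * d)⁻¹ = t * w * (t⁻¹ * (t * d) * t⁻¹) * d⁻¹ * w⁻¹ := by group
        _ = t * w * (t⁻¹ * (d * t) * t⁻¹) * d⁻¹ * w⁻¹ := by rw [h3]
        _ = _ := by group
    rwa [e] at h2
  set w1 := t * w * t⁻¹ * w⁻¹ with hw1d
  have hw1W : w1 ∈ W p := mul_mem (htW w hwW) (inv_mem hwW)
  have hw11 : w1 ≠ 1 := fun e => hw1 (htf w hwW (mul_inv_eq_one.1 e))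
  -- the transvection
  obtain ⟨b, hb, hbC, u, hu, hbu⟩ := h.exists_t p
  have hbl : ∀ x ∈ W l, b * x = x * b := fun x hx => hbC x (h.fr.WjC p l hpl hx)
  have hcen := k.cen_ch h h2 hb hbl
  have hne' : ¬ ∀ u ∈ W p, b * u = u * b := fun h2 => hbu (h2 u hu)
  have hZ1 : w1 ∈ Z p := (h.fr.blk p).mem_Z hb hne' hw1W (hcen w1 hw1c)
  have hZ2 : t * w1 * t⁻¹ ∈ Z p := (h.fr.blk p).mem_Z hb hne' (htW w1 hw1W) (hcen _ (hmem hw1c))
  have hne2 : t * w1 * t⁻¹ ≠ 1 := fun e => hw11 (by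
    have h3 : w1 = t⁻¹ * (t * w1 * t⁻¹) * t := by group
    rw [h3, e]; group)
  exact hw11 (htf w1 hw1W (h.Z_two p hZ2 hZ1 hne2 hw11))

/-- `[[N, K], B₀] = W l` -/
theorem ch_W [Finite G] [Finite ι] (h : TK S B Q V Xn ZJ B0 X M0 Y0 L W Z C A z) (h2 : ∃ m, m ≠ l)
    (k : BZ B B0 X M0 Y0 W Z l K N N1 N0) : ⁅⁅N, K⁆, B0⁆ = W l := by
  refine le_antisymm ?_ k.cc
  intro y hy
  obtain ⟨w, hw, n, hn, rfl⟩ := k.split1 h (k.ch_le hy)
  have h1 : n ∈ ⁅⁅N, K⁆, B0⁆ ⊓ centralizer (K : Set G) := by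
    refine mem_inf.2 ⟨?_, (k.N0X h hn).2⟩
    have h2 := mul_mem (inv_mem (k.cc hw)) hy
    rwa [inv_mul_cancel_left] at h2
  rw [k.ch_cen h h2, mem_bot] at h1
  rw [h1, mul_one]
  exact hw

/-- **`g` normalises `W l`.** -/
theorem cjW [Finite G] [Finite ι] (h : TK S B Q V Xn ZJ B0 X M0 Y0 L W Z C A z)
    (k : BZ B B0 X M0 Y0 W Z l K N N1 N0) {g : G} (hg : Gd B0 M0 Z l g) : ChoiceBase.cj g (W l) = W l := by
  have h2 : ∃ m, m ≠ l := by
    obtain ⟨m, hm, -⟩ := hg.cz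
    exact ⟨m, hm⟩
  rw [← k.ch_W h h2]
  exact chG h k hg

end BZ

end Cfsg.Agent.Omega.OM.LowV.Cross

end

section


/-!
# TORUS over an abstract module (box R): the module (the proofs of `TorusK/NFour.lean`)
-/

set_option autoImplicit false
set_option linter.unusedSectionVars false

namespace Cfsg.Agent.Omega.OM.Lev.Low.TorusV

open Subgroup Cfsg Cfsg.Agent.ZN Cfsg.Agent.ZN.ChoiceBase Cfsg.Agent.Omega.OM.Lev.Low.TorusK
open Cfsg.Agent.Omega.SQ1.Bau (mem_sup_comm card_sup_comm elem_comm elem_sq)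
open Cfsg.Agent.Omega.NO3S.Level.Claim (Fm Bl cB mem_cB cB_le)
open Cfsg.Agent.Omega.OM.Lev.Uni (FrL)
open Cfsg.Agent.Omega.OM.Lev.Low.TorusK.PBC
open scoped commutatorElement

universe u

variable {G : Type u} [Group G] {ι : Type} {S B Q V Xn ZJ B0 X M0 Y0 : Subgroup G} {L W Z C A : ι → Subgroup G} {z : G}
  {l : ι} {K N N1 N0 : Subgroup G}

/-- an injective endomorphism of a finite group in the form used below -/
theorem W_comm [Finite G] {W0 : Subgroup G} {t : G} (hab : ∀ a ∈ W0, ∀ b ∈ W0, a * b = b * a)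
    (htW : ∀ w ∈ W0, t * w * t⁻¹ ∈ W0) (htf : ∀ w ∈ W0, t * w * t⁻¹ = w → w = 1) {w : G} (hw : w ∈ W0) :
    ∃ u ∈ W0, w = t * u * t⁻¹ * u⁻¹ := by
  let f : W0 → W0 := fun u => ⟨t * u * t⁻¹ * (u : G)⁻¹, mul_mem (htW u u.2) (inv_mem u.2)⟩
  have hinj : Function.Injective f := by
    intro a b hab'
    have e : t * (a : G) * t⁻¹ * (a : G)⁻¹ = t * (b : G) * t⁻¹ * (b : G)⁻¹ := congrArg Subtype.val hab'
    have h1 := htf ((b : G)⁻¹ * a) (mul_mem (inv_mem b.2) a.2) (by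
      have h2 : t * (b : G) * t⁻¹ * (b : G)⁻¹ = (b : G)⁻¹ * (t * b * t⁻¹) := hab _ (htW b b.2) _ (inv_mem b.2)
      have h3 : t * (a : G) * t⁻¹ * (a : G)⁻¹ = (a : G)⁻¹ * (t * a * t⁻¹) := hab _ (htW a a.2) _ (inv_mem a.2)
      have h4 : (a : G)⁻¹ * (t * a * t⁻¹) = (b : G)⁻¹ * (t * b * t⁻¹) := by rw [← h3, ← h2, e]
      have h5 : t * ((b : G)⁻¹ * a) * t⁻¹ = (t * b * t⁻¹)⁻¹ * (t * a * t⁻¹) := by group
      have h6 : t * (a : G) * t⁻¹ = a * ((b : G)⁻¹ * (t * b * t⁻¹)) := by rw [← h4]; group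
      have h7 : (b : G)⁻¹ * (t * b * t⁻¹) = (t * b * t⁻¹) * (b : G)⁻¹ := (hab _ (htW b b.2) _ (inv_mem b.2)).symm
      have h8 : (a : G) * ((t * b * t⁻¹) * (b : G)⁻¹) = ((t * b * t⁻¹) * (b : G)⁻¹) * a :=
        hab _ a.2 _ (mul_mem (htW b b.2) (inv_mem b.2))
      rw [h5, h6, h7, h8]
      group)
    apply Subtype.ext
    have h9 : (a : G) = b * ((b : G)⁻¹ * a) := by group
    rw [h9, h1, mul_one]
  obtain ⟨u, hu⟩ := (Finite.injective_iff_surjective.1 hinj) ⟨w, hw⟩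
  exact ⟨u, u.2, (congrArg Subtype.val hu).symm⟩

namespace BK

/-- `W l ≤ [[N, K], B₀]` and equality -/
theorem ch_W [Finite G] [Finite ι] (h : TK S B Q V Xn ZJ B0 X M0 Y0 L W Z C A z)
    (k : BK B B0 X M0 Y0 W l K N N1 N0) : ⁅⁅N, K⁆, B0⁆ = W l := by
  have hcen := k.ch_cen h
  have hW : W l ≤ ⁅⁅N, K⁆, B0⁆ := by
    intro w hw
    obtain ⟨t, ht, htB, htW, htf⟩ := k.tor
    obtain ⟨u, hu, rfl⟩ := W_comm (fun a ha b hb => h.Xc (h.WX l ha) (h.WX l hb)) htW htf hw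
    -- `u = y n`, `y ∈ [[N, K], B₀]`
    obtain ⟨v, hv, hv1⟩ := k.pb.exists_v
    obtain ⟨y, hy, n, hn, rfl⟩ := k.pb.exists_V hv
    have hy1 : y ∉ N1 := fun h1 => hv1 (mul_mem h1 (k.pb.N01 hn))
    obtain ⟨b, hb, n0, hn0, e⟩ := k.pb.line (k.pb.VN hy) hy1 (k.WN hu)
    have hc : b * y * b⁻¹ * y⁻¹ ∈ (⁅⁅N, K⁆, B0⁆ : Subgroup G) := by
      have h1 := inv_mem (commutator_mem_commutator hy hb)
      have e1 : (⁅y, b⁆)⁻¹ = b * y * b⁻¹ * y⁻¹ := by rw [commutatorElement_def]; group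
      rwa [e1] at h1
    set c := b * y * b⁻¹ * y⁻¹ with hcd
    have htc : t * c * t⁻¹ ∈ (⁅⁅N, K⁆, B0⁆ : Subgroup G) := by
      have h1 : ChoiceBase.cj t ⁅⁅N, K⁆, B0⁆ = ⁅⁅N, K⁆, B0⁆ := by
        rw [← comm_cjj t ⁅N, K⁆ B0, cj_eq_of_mem_normalizer htB, cj_eq_of_mem_normalizer (k.pb.LV ht)]
      have h2 := cj_mem (g := t) hc
      rwa [h1] at h2
    have h3 := k.pb.N0c t ht n0 hn0
    have e2 : t * u * t⁻¹ * u⁻¹ = t * c * t⁻¹ * c⁻¹ := by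
      rw [e]
      calc t * (c * n0) * t⁻¹ * (c * n0)⁻¹ = t * c * (t⁻¹ * (t * n0) * t⁻¹) * n0⁻¹ * c⁻¹ := by group
        _ = t * c * (t⁻¹ * (n0 * t) * t⁻¹) * n0⁻¹ * c⁻¹ := by rw [h3]
        _ = _ := by group
    rw [e2]
    exact mul_mem htc (inv_mem hc)
  refine le_antisymm ?_ hW
  intro y hy
  obtain ⟨w, hw, n, hn, rfl⟩ := k.split1 h (k.ch_le hy)
  have h1 : n ∈ ⁅⁅N, K⁆, B0⁆ ⊓ centralizer (K : Set G) := by
    refine mem_inf.2 ⟨?_, (k.N0X h hn).2⟩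
    have h2 := mul_mem (inv_mem (hW hw)) hy
    rwa [inv_mul_cancel_left] at h2
  rw [hcen, mem_bot] at h1
  rw [h1, mul_one]
  exact hw

theorem W_le [Finite G] [Finite ι] (h : TK S B Q V Xn ZJ B0 X M0 Y0 L W Z C A z)
    (k : BK B B0 X M0 Y0 W l K N N1 N0) : W l ≤ ⁅N, K⁆ := by
  rw [← k.ch_W h, Subgroup.commutator_le]
  intro v hv b hb
  have h1 := (mem_normalizer_iff.1 (k.pb.LV (k.pb.BL hb)) v⁻¹).1 (inv_mem hv)
  have e : ⁅v, b⁆ = v * (b * v⁻¹ * b⁻¹) := by rw [commutatorElement_def]; group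
  rw [e]
  exact mul_mem hv h1

/-- `[N, K] = W l W l^x` -/
theorem exists_gen [Finite G] [Finite ι] (h : TK S B Q V Xn ZJ B0 X M0 Y0 L W Z C A z)
    (k : BK B B0 X M0 Y0 W l K N N1 N0) {x : G} (hx : x ∈ K) (hm : SQ1.Bau.Mv N1 x) :
    ⁅N, K⁆ = W l ⊔ ChoiceBase.cj x (W l) := by
  have hWV := k.W_le h
  have hcV : ChoiceBase.cj x (W l) ≤ ⁅N, K⁆ := by
    have h1 := cj_mono x hWV
    rwa [cj_eq_of_mem_normalizer (k.pb.LV hx)] at h1
  have hle : W l ⊔ ChoiceBase.cj x (W l) ≤ ⁅N, K⁆ := sup_le hWV hcV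
  refine le_antisymm ?_ hle
  obtain ⟨w, hw, hw1⟩ : ∃ w ∈ W l, w ≠ 1 := by
    obtain ⟨y, hy, hy1⟩ := h.exists_Z l
    exact ⟨y, h.ZW l hy, hy1⟩
  have hcm : ∀ b ∈ B0, ∀ v ∈ (⁅N, K⁆ : Subgroup G), b * v * b⁻¹ * v⁻¹ ∈ W l := by
    intro b hb v hv
    rw [← k.ch_W h]
    have h1 := inv_mem (commutator_mem_commutator hv hb)
    have e1 : (⁅v, b⁆)⁻¹ = b * v * b⁻¹ * v⁻¹ := by rw [commutatorElement_def]; group
    rwa [e1] at h1
  have hn : K ≤ normalizer ((W l ⊔ ChoiceBase.cj x (W l) : Subgroup G) : Set G) := by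
    refine k.pb.gen x hx hm _ (fun b hb => mem_normalizer_of_cj_le ?_) fun b hb => mem_normalizer_of_cj_le ?_
    · rintro _ ⟨v, hv, rfl⟩
      show b * v * b⁻¹ ∈ _
      have h1 := mul_mem (mem_sup_left (hcm b hb v (hle hv)) : _ ∈ W l ⊔ ChoiceBase.cj x (W l)) hv
      rwa [inv_mul_cancel_right] at h1
    · rintro _ ⟨v, hv, rfl⟩
      show x * b * x⁻¹ * v * (x * b * x⁻¹)⁻¹ ∈ _
      have hv' : x⁻¹ * v * x ∈ (⁅N, K⁆ : Subgroup G) := by
        have := (mem_normalizer_iff.1 (k.pb.LV (inv_mem hx)) v).1 (hle hv)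
        rwa [inv_inv] at this
      have h1 := hcm b hb _ hv'
      have h2 : x * b * x⁻¹ * v * (x * b * x⁻¹)⁻¹ * v⁻¹ ∈ ChoiceBase.cj x (W l) := by
        have e : x * b * x⁻¹ * v * (x * b * x⁻¹)⁻¹ * v⁻¹ =
            x * (b * (x⁻¹ * v * x) * b⁻¹ * (x⁻¹ * v * x)⁻¹) * x⁻¹ := by group
        rw [e]
        exact cj_mem h1
      have h3 := mul_mem (mem_sup_right h2 : _ ∈ W l ⊔ ChoiceBase.cj x (W l)) hv
      rwa [inv_mul_cancel_right] at h3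
  exact k.le_of hn hw hw1 (mem_sup_left hw)

theorem dir' [Finite G] (k : BK B B0 X M0 Y0 W l K N N1 N0) {x : G} (hx : x ∈ K) (hm : SQ1.Bau.Mv N1 x) {w : G}
    (hw : w ∈ W l) (h1 : x * w * x⁻¹ ∈ N1) : w = 1 := by
  have h2 := k.pb.opp x hx hm w (k.WN hw) h1
  have h3 := k.pb.pl.W0n x⁻¹ (inv_mem hx) _ h2
  have e : x⁻¹ * (x * w * x⁻¹) * x⁻¹⁻¹ = w := by group
  rw [e] at h3
  have h4 : w ∈ W l ⊓ N0 := ⟨hw, h3⟩
  rwa [k.WN0, mem_bot] at h4

/-- `[N, K] ∩ N₁ = W l` -/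
theorem inf_N1 [Finite G] [Finite ι] (h : TK S B Q V Xn ZJ B0 X M0 Y0 L W Z C A z)
    (k : BK B B0 X M0 Y0 W l K N N1 N0) {v : G} (hv : v ∈ (⁅N, K⁆ : Subgroup G)) (hv1 : v ∈ N1) : v ∈ W l := by
  obtain ⟨x, hx, hm⟩ := k.pb.mv
  rw [k.exists_gen h hx hm] at hv
  have hcV : ChoiceBase.cj x (W l) ≤ N := by
    rintro _ ⟨w, hw, rfl⟩
    exact k.pb.Nn x hx w (k.pb.N1N (k.WN hw))
  obtain ⟨a, ha, b, hb, rfl⟩ := mem_sup_comm (fun a ha b hb => k.pb.comm (k.pb.N1N (k.WN ha)) (hcV hb)) hv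
  obtain ⟨w, hw, rfl⟩ := ex_cj hb
  have h1 : x * w * x⁻¹ ∈ N1 := by
    have h2 := mul_mem (inv_mem (k.WN ha)) hv1
    rwa [inv_mul_cancel_left] at h2
  have h2 : w = 1 := k.dir' hx hm hw h1
  rw [h2, mul_one, mul_inv_cancel, mul_one]
  exact ha

/-- `[N, K] ∩ X = W l` -/
theorem inf_X [Finite G] [Finite ι] (h : TK S B Q V Xn ZJ B0 X M0 Y0 L W Z C A z)
    (k : BK B B0 X M0 Y0 W l K N N1 N0) : ⁅N, K⁆ ⊓ X = W l := by
  apply le_antisymm
  · rintro v ⟨hv, hvX⟩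
    exact k.inf_N1 h hv ((k.N1X h (k.pb.VN hv)).2 hvX)
  · exact le_inf (k.W_le h) (h.WX l)

theorem card16 [Finite G] [Finite ι] (h : TK S B Q V Xn ZJ B0 X M0 Y0 L W Z C A z)
    (k : BK B B0 X M0 Y0 W l K N N1 N0) : Nat.card (⁅N, K⁆ : Subgroup G) = 16 := by
  obtain ⟨x, hx, hm⟩ := k.pb.mv
  rw [k.exists_gen h hx hm]
  have hcV : ChoiceBase.cj x (W l) ≤ N := by
    rintro _ ⟨w, hw, rfl⟩
    exact k.pb.Nn x hx w (k.pb.N1N (k.WN hw))
  have h1 := card_sup_comm (A := W l) (B := ChoiceBase.cj x (W l)) fun a ha b hb =>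
    k.pb.comm (k.pb.N1N (k.WN ha)) (hcV hb)
  have h2 : W l ⊓ ChoiceBase.cj x (W l) = ⊥ := by
    rw [eq_bot_iff]
    rintro v ⟨hv, hv'⟩
    obtain ⟨w, hw, rfl⟩ := ex_cj hv'
    rw [k.dir' hx hm hw (k.WN hv), mul_one, mul_inv_cancel]
    exact one_mem _
  rw [h2, Subgroup.card_bot, mul_one, card_cj, h.cardW l] at h1
  exact h1

theorem mv_iff [Finite G] [Finite ι] (h : TK S B Q V Xn ZJ B0 X M0 Y0 L W Z C A z)
    (k : BK B B0 X M0 Y0 W l K N N1 N0) {x : G} (hx : x ∈ K) : SQ1.Bau.Mv (W l) x ↔ SQ1.Bau.Mv N1 x := by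
  constructor
  · rintro ⟨w, hw, hw'⟩
    refine ⟨w, k.WN hw, fun h1 => hw' (k.inf_N1 h ?_ h1)⟩
    exact (mem_normalizer_iff.1 (k.pb.LV hx) w).1 (k.W_le h hw)
  · rintro ⟨v, hv, hv'⟩
    obtain ⟨w, hw, n, hn, rfl⟩ := k.split1 h hv
    refine ⟨w, hw, fun h1 => hv' ?_⟩
    have h3 := k.pb.N0c x hx n hn
    have e : x * (w * n) * x⁻¹ = (x * w * x⁻¹) * n := by
      calc x * (w * n) * x⁻¹ = x * w * (x⁻¹ * (x * n) * x⁻¹) := by group
        _ = x * w * (x⁻¹ * (n * x) * x⁻¹) := by rw [h3]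
        _ = _ := by group
    rw [e]
    exact mul_mem (k.WN h1) (k.pb.N01 hn)

/-- **`[N, K]` is natural of order 16.** -/
theorem n4 [Finite G] [Finite ι] (h : TK S B Q V Xn ZJ B0 X M0 Y0 L W Z C A z)
    (k : BK B B0 X M0 Y0 W l K N N1 N0) : N4 B0 K ⁅N, K⁆ (W l) := by
  have hVN : (⁅N, K⁆ : Subgroup G) ≤ N := k.pb.VN
  have hcB : B0 ⊓ centralizer ((⁅N, K⁆ : Subgroup G) : Set G) = B0 ⊓ centralizer (N : Set G) := by
    ext b
    rw [mem_inf, mem_inf, mem_centralizer_iff, mem_centralizer_iff]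
    refine and_congr_right fun hb => ⟨fun h1 v hv => ?_, fun h1 v hv => h1 v (hVN hv)⟩
    obtain ⟨u, hu, n, hn, rfl⟩ := k.pb.exists_V hv
    have c1 : Commute u b := h1 u hu
    have c2 : Commute n b := (k.pb.N0c b (k.pb.BL hb) n hn).symm
    exact (c1.mul_left c2).eq
  refine
    { el := Cfsg.Agent.PLocal.ThompsonJ.isElementaryAbelian_mono k.pb.el hVN
      card := k.card16 h
      V1V := k.W_le h
      card1 := h.cardW l
      BK := k.pb.BL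
      KV := k.pb.LV
      c1 := fun b hb v hv => h.cX hb (h.WX l hv)
      quad := ?_
      cent := ?_
      cardB := by rw [hcB]; exact k.pb.cardB
      cor := ?_
      opp := ?_
      mv := ?_
      gen := fun x hx hm => k.pb.gen x hx ((k.mv_iff h hx).1 hm)
      tor := ?_ }
  · intro b hb v hv
    refine k.inf_N1 h (mul_mem ((mem_normalizer_iff.1 (k.pb.LV (k.pb.BL hb)) v).1 hv) (inv_mem hv)) ?_
    exact k.pb.quad b hb v (hVN hv)
  · rintro b hb ⟨v, hv, hne⟩ u hu hc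
    refine k.inf_N1 h hu (k.pb.cent b hb ⟨v, hVN hv, hne⟩ u (hVN hu) ?_)
    rw [hc, mul_inv_cancel_right, mul_inv_cancel]
    exact one_mem _
  · intro g hg
    rw [hcB]
    refine mem_normalizer_of_cj_le ?_
    rintro _ ⟨x, ⟨hx, hxc⟩, rfl⟩
    refine ⟨k.pb.cor g hg x hx fun v hv => (mem_centralizer_iff.1 hxc v hv).symm, mem_centralizer_iff.2 fun v hv => ?_⟩
    have hv' : g⁻¹ * v * g ∈ N := by
      have := k.pb.Nn g⁻¹ (inv_mem hg) v hv
      rwa [inv_inv] at this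
    have h1 := mem_centralizer_iff.1 hxc _ hv'
    show v * (g * x * g⁻¹) = g * x * g⁻¹ * v
    calc v * (g * x * g⁻¹) = g * ((g⁻¹ * v * g) * x) * g⁻¹ := by group
      _ = g * (x * (g⁻¹ * v * g)) * g⁻¹ := by rw [h1]
      _ = _ := by group
  · intro x hx hm v hv hv'
    exact k.dir' hx ((k.mv_iff h hx).1 hm) hv (k.WN hv')
  · obtain ⟨x, hx, hm⟩ := k.pb.mv
    exact ⟨x, hx, (k.mv_iff h hx).2 hm⟩
  · intro y hy hy1 y' hy' hy1'
    have hN0 : ∀ w ∈ W l, w ≠ 1 → w ∉ N0 := fun w hw hw1 hwN => hw1 (by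
      have h4 : w ∈ W l ⊓ N0 := ⟨hw, hwN⟩
      rwa [k.WN0, mem_bot] at h4)
    obtain ⟨g, hg, hgB, hgN⟩ := k.pb.tor y (k.WN hy) (hN0 y hy hy1) y' (k.WN hy') (hN0 y' hy' hy1')
    refine ⟨g, hg, hgB, ?_⟩
    have hgy : g * y * g⁻¹ ∈ W l := by
      have h1 : g * y * g⁻¹ ∈ (⁅N, K⁆ : Subgroup G) := (mem_normalizer_iff.1 (k.pb.LV hg) y).1 (k.W_le h hy)
      have h2 : g * y * g⁻¹ ∈ X := by
        have h3 : ChoiceBase.cj g X = X := by rw [← h.zB, ← zc_cj', cj_eq_of_mem_normalizer hgB]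
        rw [← h3]
        exact cj_mem (h.WX l hy)
      rw [← k.inf_X h]
      exact ⟨h1, h2⟩
    by_contra hne
    exact hN0 _ (mul_mem hgy (inv_mem hy')) (fun e => hne (mul_inv_eq_one.1 e)) hgN

end BK

end Cfsg.Agent.Omega.OM.Lev.Low.TorusV

end

section


/-!
# TORUS over an abstract module (box R): (LOC) (the proofs of `TorusK/Loc.lean`)
-/

set_option autoImplicit false
set_option linter.unusedSectionVars false

namespace Cfsg.Agent.Omega.OM.Lev.Low.TorusV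

open Subgroup Cfsg Cfsg.Agent.ZN Cfsg.Agent.ZN.ChoiceBase Cfsg.Agent.Omega.OM.Lev.Low.TorusK
open Cfsg.Agent.Omega.SQ1.Bau (mem_sup_comm card_sup_comm elem_comm elem_sq)
open Cfsg.Agent.Omega.NO3S.Level.Claim (Fm Bl cB mem_cB cB_le)
open Cfsg.Agent.Omega.OM.Lev.Uni (FrL)
open Cfsg.Agent.Omega.OM.Lev.Low.TorusK.PBC
open scoped commutatorElement

universe u

variable {G : Type u} [Group G] {ι : Type} {S B Q V Xn ZJ B0 X M0 Y0 : Subgroup G} {L W Z C A : ι → Subgroup G} {z : G}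
  {l m : ι} {K N N1 N0 K' N' N1' N0' : Subgroup G}

namespace Loc

/-- `[F, F'] = 1` -/
theorem comm_all [Finite G] (h : TK S B Q V Xn ZJ B0 X M0 Y0 L W Z C A z) (k : BK B B0 X M0 Y0 W l K N N1 N0)
    (k' : BK B B0 X M0 Y0 W m K' N' N1' N0') {a b : G} (ha : a ∈ (⁅N, K⁆ : Subgroup G))
    (hb : b ∈ (⁅N', K'⁆ : Subgroup G)) : a * b = b * a := by
  by_cases e : l = m
  · subst e
    obtain ⟨U, hU, -, -, hall⟩ := h.exists_U1 l
    exact elem_comm hU a ((hall K N N1 N0 k).1 ha) b ((hall K' N' N1' N0' k').1 hb)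
  · obtain ⟨U, hU, -, -, h1, h2⟩ := h.exists_U2 e
    exact elem_comm hU a ((h1 K N N1 N0 k).1 ha) b ((h2 K' N' N1' N0' k').1 hb)

/-- the smallest group over `D`, `D'` normalised by `K`, `K'` inside `U` -/
theorem exists_min {U D D' : Subgroup G} (hD : D ≤ U) (hD' : D' ≤ U) (hK : K ≤ normalizer (U : Set G))
    (hK' : K' ≤ normalizer (U : Set G)) : ∃ U' ≤ U, D ≤ U' ∧ D' ≤ U' ∧ K ≤ normalizer (U' : Set G) ∧
      K' ≤ normalizer (U' : Set G) ∧ ∀ R : Subgroup G, D ≤ R → D' ≤ R → K ≤ normalizer (R : Set G) →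
        K' ≤ normalizer (R : Set G) → U' ≤ R := by
  have hn : ∀ {T : Subgroup G} {𝒮 : Set (Subgroup G)}, (∀ R ∈ 𝒮, T ≤ normalizer (R : Set G)) →
      T ≤ normalizer ((sInf 𝒮 : Subgroup G) : Set G) := by
    intro T 𝒮 hT g hg
    rw [mem_normalizer_iff]
    intro x
    rw [Subgroup.mem_sInf, Subgroup.mem_sInf]
    exact ⟨fun h1 R hR => (mem_normalizer_iff.1 (hT R hR hg) x).1 (h1 R hR),
      fun h1 R hR => (mem_normalizer_iff.1 (hT R hR hg) x).2 (h1 R hR)⟩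
  refine ⟨sInf {R | D ≤ R ∧ D' ≤ R ∧ K ≤ normalizer (R : Set G) ∧ K' ≤ normalizer (R : Set G)},
    sInf_le ⟨hD, hD', hK, hK'⟩, le_sInf fun R hR => hR.1, le_sInf fun R hR => hR.2.1, hn fun R hR => hR.2.2.1,
    hn fun R hR => hR.2.2.2, fun R h1 h2 h3 h4 => sInf_le ⟨h1, h2, h3, h4⟩⟩

/-- **Two blocks over different lines.** -/
theorem pair_norm [Finite G] (h : TK S B Q V Xn ZJ B0 X M0 Y0 L W Z C A z) (hlm : l ≠ m)
    (k : BK B B0 X M0 Y0 W l K N N1 N0) (k' : BK B B0 X M0 Y0 W m K' N' N1' N0') (hX : ⁅N', K'⁆ ⊓ X ≤ W m) {g v : G}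
    (hg : g ∈ K) (hv : v ∈ (⁅N', K'⁆ : Subgroup G)) : g * v * g⁻¹ ∈ ⁅N, K⁆ ⊔ ⁅N', K'⁆ ⊔ X := by
  obtain ⟨U0, hU0, hUB0, hUY0, h1, h2⟩ := h.exists_U2 hlm
  obtain ⟨h3, h4⟩ := h1 K N N1 N0 k
  obtain ⟨h5, h6⟩ := h2 K' N' N1' N0' k'
  obtain ⟨U, hUU, hF, hF', hKU, hKU', hmin⟩ := exists_min h3 h5 h4 h6
  have hU : IsElementaryAbelian 2 U := Cfsg.Agent.PLocal.ThompsonJ.isElementaryAbelian_mono hU0 hUU
  obtain ⟨T, AA, f⟩ := h.fml U (normalizer (U : Set G) ⊓ M0) hU (hUU.trans hUB0) (hUU.trans hUY0) inf_le_left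
    inf_le_right
  have b1 := k.bl h f hF hKU (le_inf hKU k.KM)
  have b2 := k'.bl h f hF' hKU' (le_inf hKU' k'.KM)
  have hp : PairD T U (normalizer (U : Set G) ⊓ M0) B0 (U ⊓ X) AA K ⁅N, K⁆ K' ⁅N', K'⁆ :=
    ⟨f, b1, b2, fun x hx w hw => k.cW m (Ne.symm hlm) w (hX ⟨hw.1, hw.2.2⟩) x hx,
      fun R _ r1 r2 r3 r4 => hmin R r1 r2 r3 r4⟩
  have h7 := hp.main
  have h8 := (mem_normalizer_iff.1 (h7 hg) v).1 (mem_sup_left (mem_sup_right hv))
  have h9 : ⁅N, K⁆ ⊔ ⁅N', K'⁆ ⊔ (U ⊓ X) ≤ ⁅N, K⁆ ⊔ ⁅N', K'⁆ ⊔ X := sup_le_sup_left inf_le_right _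
  exact h9 h8

/-- `X ∏ F^s` -/
def WW (S X F : Subgroup G) : Subgroup G := X ⊔ ⨆ s : S, cj (s : G) F

theorem X_le (S X F : Subgroup G) : X ≤ WW S X F := le_sup_left

theorem cj_le {F : Subgroup G} {s : G} (hs : s ∈ S) : cj s F ≤ WW S X F :=
  (le_iSup (fun s : S => cj (s : G) F) ⟨s, hs⟩).trans le_sup_right

theorem F_le (S X F : Subgroup G) : F ≤ WW S X F := by
  have h1 := cj_le (X := X) (F := F) (one_mem S)
  rwa [cj_one] at h1

theorem WW_le {F T : Subgroup G} (hX : X ≤ T) (hF : ∀ s ∈ S, cj s F ≤ T) : WW S X F ≤ T :=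
  sup_le hX (iSup_le fun s => hF s s.2)

/-- `S` normalises `X ∏ F^s` -/
theorem S_norm {F : Subgroup G} (hX : S ≤ normalizer (X : Set G)) : S ≤ normalizer ((WW S X F : Subgroup G) : Set G) := by
  have key : ∀ s ∈ S, cj s (WW S X F) ≤ WW S X F := by
    intro s hs
    rw [cj_le_iff]
    refine WW_le ?_ fun t ht => ?_
    · rw [← cj_le_iff, cj_eq_of_mem_normalizer (hX hs)]
      exact X_le S X F
    · rw [← cj_le_iff, cj_cj]
      exact cj_le (mul_mem hs ht)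
  intro s hs
  rw [mem_normalizer_iff_cj]
  refine le_antisymm (key s hs) ?_
  have h1 := cj_mono s (key s⁻¹ (inv_mem hs))
  rwa [cj_cj, mul_inv_cancel, cj_one] at h1

theorem cj_comm (s : G) (N K : Subgroup G) : cj s ⁅N, K⁆ = ⁅cj s N, cj s K⁆ := map_commutator _ _ _

/-- `X ∏ F^s` is abelian -/
theorem WW_comm [Finite G] (h : TK S B Q V Xn ZJ B0 X M0 Y0 L W Z C A z) (k : BK B B0 X M0 Y0 W l K N N1 N0) {a b : G}
    (ha : a ∈ WW S X ⁅N, K⁆) (hb : b ∈ WW S X ⁅N, K⁆) : a * b = b * a := by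
  have hFX : ∀ s ∈ S, ∀ v ∈ cj s ⁅N, K⁆, ∀ x ∈ X, v * x = x * v := by
    intro s hs v hv x hx
    obtain ⟨j, hj, -, -⟩ := h.perm s hs l
    have k1 := k.cj h hs hj
    rw [cj_comm] at hv
    exact h.cX (k1.VB0 hv) hx
  have hFF : ∀ s ∈ S, ∀ t ∈ S, ∀ v ∈ cj s ⁅N, K⁆, ∀ w ∈ cj t ⁅N, K⁆, v * w = w * v := by
    intro s hs t ht v hv w hw
    obtain ⟨j, hj, -, -⟩ := h.perm s hs l
    obtain ⟨j', hj', -, -⟩ := h.perm t ht l
    rw [cj_comm] at hv hw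
    exact comm_all h (k.cj h hs hj) (k.cj h ht hj') hv hw
  have key : ∀ x, (∀ y ∈ X, y * x = x * y) → (∀ s ∈ S, ∀ y ∈ cj s ⁅N, K⁆, y * x = x * y) →
      ∀ y ∈ WW S X ⁅N, K⁆, y * x = x * y := by
    intro x h1 h2 y hy
    have h3 : WW S X ⁅N, K⁆ ≤ centralizer ({x} : Set G) :=
      WW_le (fun y hy => mem_centralizer_singleton_iff.2 (h1 y hy))
        fun s hs y hy => mem_centralizer_singleton_iff.2 (h2 s hs y hy)
    exact mem_centralizer_singleton_iff.1 (h3 hy)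
  refine key b (fun x hx => (key x ?_ ?_ b hb).symm) (fun s hs x hx => (key x ?_ ?_ b hb).symm) a ha
  · exact fun y hy => h.Xc hy hx
  · exact fun s hs y hy => hFX s hs y hy x hx
  · exact fun y hy => (hFX s hs x hx y hy).symm
  · exact fun t ht y hy => hFF t ht s hs y hy x hx

theorem WW_le_B0 [Finite G] (h : TK S B Q V Xn ZJ B0 X M0 Y0 L W Z C A z) (k : BK B B0 X M0 Y0 W l K N N1 N0) :
    WW S X ⁅N, K⁆ ≤ B0 := by
  refine WW_le h.XB0 fun s hs => ?_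
  obtain ⟨j, hj, -, -⟩ := h.perm s hs l
  rw [cj_comm]
  exact (k.cj h hs hj).VB0

/-- **(LOC)** : `K` normalises `X ∏ F^s`. -/
theorem K_norm [Finite G] (h : TK S B Q V Xn ZJ B0 X M0 Y0 L W Z C A z) (k : BK B B0 X M0 Y0 W l K N N1 N0)
    (hX : ∀ m K' N' N1' N0', BK B B0 X M0 Y0 W m K' N' N1' N0' → ⁅N', K'⁆ ⊓ X ≤ W m) :
    K ≤ normalizer ((WW S X ⁅N, K⁆ : Subgroup G) : Set G) := by
  have key : ∀ g ∈ K, cj g (WW S X ⁅N, K⁆) ≤ WW S X ⁅N, K⁆ := by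
    intro g hg
    rw [cj_le_iff]
    have hXg : ∀ x ∈ X, g * x * g⁻¹ ∈ WW S X ⁅N, K⁆ := by
      intro x hx
      have h1 := mul_mem (F_le S X _ (k.act h hg hx)) (X_le S X ⁅N, K⁆ hx)
      rwa [inv_mul_cancel_right] at h1
    have hFg : ∀ v ∈ (⁅N, K⁆ : Subgroup G), g * v * g⁻¹ ∈ WW S X ⁅N, K⁆ := fun v hv =>
      F_le S X _ ((mem_normalizer_iff.1 (k.pb.LV hg) v).1 hv)
    have hcj : ∀ y : G, y ∈ cj g⁻¹ (WW S X ⁅N, K⁆) ↔ g * y * g⁻¹ ∈ WW S X ⁅N, K⁆ := fun y => by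
      rw [mem_cj', inv_inv]
    refine WW_le (fun x hx => (hcj x).2 (hXg x hx)) fun s hs v hv => (hcj v).2 ?_
    obtain ⟨j, hj, -, -⟩ := h.perm s hs l
    have k1 := k.cj h hs hj
    by_cases e : l = j
    · subst e
      have h1 := (uni' h k k1).1
      rw [← cj_comm] at h1
      obtain ⟨a, ha, x, hx, rfl⟩ := mem_sup_comm (fun a ha b hb => h.cX (k.VB0 ha) hb) (h1 hv)
      have e1 : g * (a * x) * g⁻¹ = (g * a * g⁻¹) * (g * x * g⁻¹) := by group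
      rw [e1]
      exact mul_mem (hFg a ha) (hXg x hx)
    · rw [cj_comm] at hv
      have h1 := pair_norm h e k k1 (hX _ _ _ _ _ k1) hg hv
      rw [← cj_comm] at h1
      have h2 : ⁅N, K⁆ ⊔ cj s ⁅N, K⁆ ⊔ X ≤ WW S X ⁅N, K⁆ := sup_le (sup_le (F_le S X _) (cj_le hs)) (X_le S X _)
      exact h2 h1
  intro g hg
  rw [mem_normalizer_iff_cj]
  refine le_antisymm (key g hg) ?_
  have h1 := cj_mono g (key g⁻¹ (inv_mem hg))
  rwa [cj_cj, mul_inv_cancel, cj_one] at h1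

/-- `⟨K, S⟩` normalises `X ∏ F^s` -/
theorem KS_norm [Finite G] (h : TK S B Q V Xn ZJ B0 X M0 Y0 L W Z C A z) (k : BK B B0 X M0 Y0 W l K N N1 N0)
    (hX : ∀ m K' N' N1' N0', BK B B0 X M0 Y0 W m K' N' N1' N0' → ⁅N', K'⁆ ⊓ X ≤ W m) :
    K ⊔ S ≤ normalizer ((WW S X ⁅N, K⁆ : Subgroup G) : Set G) :=
  sup_le (K_norm h k hX) (S_norm h.SX)

/-- `⟨K, S⟩` is local. -/
theorem local_KS [Finite G] (h : TK S B Q V Xn ZJ B0 X M0 Y0 L W Z C A z) (k : BK B B0 X M0 Y0 W l K N N1 N0)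
    (hX : ∀ m K' N' N1' N0', BK B B0 X M0 Y0 W m K' N' N1' N0' → ⁅N', K'⁆ ⊓ X ≤ W m) :
    ∃ U : Subgroup G, U ≠ ⊥ ∧ IsPGroup 2 U ∧ K ⊔ S ≤ normalizer (U : Set G) := by
  refine ⟨WW S X ⁅N, K⁆, fun e => ?_, h.two.to_le ((WW_le_B0 h k).trans h.B0B), KS_norm h k hX⟩
  obtain ⟨x, hx, hx1⟩ := h.exists_Z l
  have h1 : x ∈ WW S X ⁅N, K⁆ := X_le S X _ (h.ZX l hx)
  rw [e, mem_bot] at h1
  exact hx1 h1

end Loc

end Cfsg.Agent.Omega.OM.Lev.Low.TorusV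

end

section


/-!
# TORUS over an abstract module (box R): (LOC) for a family of blocks (the proofs of `TorusK/LocFam.lean`)
-/

set_option autoImplicit false
set_option linter.unusedSectionVars false

namespace Cfsg.Agent.Omega.OM.Lev.Low.TorusV

open Subgroup Cfsg Cfsg.Agent.ZN Cfsg.Agent.ZN.ChoiceBase Cfsg.Agent.Omega.OM.Lev.Low.TorusK
open Cfsg.Agent.Omega.SQ1.Bau (mem_sup_comm card_sup_comm elem_comm elem_sq)
open Cfsg.Agent.Omega.OM.Lev.Uni (FrL)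
open Cfsg.Agent.Omega.OM.Lev.Low.TorusK.PBC
open scoped commutatorElement

universe u

variable {G : Type u} [Group G] {ι : Type} {S B Q V Xn ZJ B0 X M0 Y0 : Subgroup G} {L W Z C A : ι → Subgroup G} {z : G}
  {K N N1 N0 : ι → Subgroup G}

namespace Loc

/-- `F i`, `F j` commute -/
theorem fam_comm [Finite G] (h : TK S B Q V Xn ZJ B0 X M0 Y0 L W Z C A z)
    (bk : ∀ i, BK B B0 X M0 Y0 W i (K i) (N i) (N1 i) (N0 i)) (i j : ι) {u v : G} (hu : u ∈ (⁅N i, K i⁆ : Subgroup G))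
    (hv : v ∈ (⁅N j, K j⁆ : Subgroup G)) : u * v = v * u := comm_all h (bk i) (bk j) hu hv

theorem fam_le_B0 [Finite G] (h : TK S B Q V Xn ZJ B0 X M0 Y0 L W Z C A z)
    (bk : ∀ i, BK B B0 X M0 Y0 W i (K i) (N i) (N1 i) (N0 i)) : X ⊔ ⨆ i, (⁅N i, K i⁆ : Subgroup G) ≤ B0 :=
  sup_le h.XB0 (iSup_le fun i => (bk i).VB0)

theorem fam_comm' [Finite G] (h : TK S B Q V Xn ZJ B0 X M0 Y0 L W Z C A z)
    (bk : ∀ i, BK B B0 X M0 Y0 W i (K i) (N i) (N1 i) (N0 i)) {a b : G}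
    (ha : a ∈ X ⊔ ⨆ i, (⁅N i, K i⁆ : Subgroup G)) (hb : b ∈ X ⊔ ⨆ i, (⁅N i, K i⁆ : Subgroup G)) : a * b = b * a := by
  have key : ∀ x, (∀ y ∈ X, y * x = x * y) → (∀ i, ∀ y ∈ (⁅N i, K i⁆ : Subgroup G), y * x = x * y) →
      ∀ y ∈ X ⊔ ⨆ i, (⁅N i, K i⁆ : Subgroup G), y * x = x * y := by
    intro x h1 h2 y hy
    have h3 : X ⊔ ⨆ i, (⁅N i, K i⁆ : Subgroup G) ≤ centralizer ({x} : Set G) :=
      sup_le (fun y hy => mem_centralizer_singleton_iff.2 (h1 y hy))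
        (iSup_le fun i y hy => mem_centralizer_singleton_iff.2 (h2 i y hy))
    exact mem_centralizer_singleton_iff.1 (h3 hy)
  refine key b (fun x hx => (key x ?_ ?_ b hb).symm) (fun i x hx => (key x ?_ ?_ b hb).symm) a ha
  · exact fun y hy => h.Xc hy hx
  · exact fun i y hy => h.cX ((bk i).VB0 hy) hx
  · exact fun y hy => (h.cX ((bk i).VB0 hx) hy).symm
  · exact fun j y hy => comm_all h (bk j) (bk i) hy hx

/-- **(LOC)** : all `K i` normalise `X ∏ F j`. -/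
theorem fam_norm [Finite G] [Finite ι] (h : TK S B Q V Xn ZJ B0 X M0 Y0 L W Z C A z)
    (bk : ∀ i, BK B B0 X M0 Y0 W i (K i) (N i) (N1 i) (N0 i)) (i : ι) :
    K i ≤ normalizer ((X ⊔ ⨆ j, ⁅N j, K j⁆ : Subgroup G) : Set G) := by
  have hF : ∀ j, (⁅N j, K j⁆ : Subgroup G) ≤ X ⊔ ⨆ j, ⁅N j, K j⁆ := fun j =>
    (le_iSup (fun j => (⁅N j, K j⁆ : Subgroup G)) j).trans le_sup_right
  have key : ∀ g ∈ K i, cj g (X ⊔ ⨆ j, ⁅N j, K j⁆) ≤ X ⊔ ⨆ j, ⁅N j, K j⁆ := by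
    intro g hg
    rw [cj_le_iff]
    have hcj : ∀ y : G, y ∈ cj g⁻¹ (X ⊔ ⨆ j, ⁅N j, K j⁆) ↔ g * y * g⁻¹ ∈ X ⊔ ⨆ j, ⁅N j, K j⁆ := fun y => by
      rw [mem_cj', inv_inv]
    refine sup_le (fun x hx => (hcj x).2 ?_) (iSup_le fun j v hv => (hcj v).2 ?_)
    · have h1 := mul_mem (hF i ((bk i).act h hg hx)) (mem_sup_left hx : x ∈ X ⊔ ⨆ j, ⁅N j, K j⁆)
      rwa [inv_mul_cancel_right] at h1
    · by_cases e : i = j
      · subst e
        exact hF i ((mem_normalizer_iff.1 ((bk i).pb.LV hg) v).1 hv)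
      · have h1 := pair_norm h e (bk i) (bk j) ((bk j).inf_X h).le hg hv
        have h2 : ⁅N i, K i⁆ ⊔ ⁅N j, K j⁆ ⊔ X ≤ X ⊔ ⨆ j, ⁅N j, K j⁆ := sup_le (sup_le (hF i) (hF j)) le_sup_left
        exact h2 h1
  intro g hg
  rw [mem_normalizer_iff_cj]
  refine le_antisymm (key g hg) ?_
  have h1 := cj_mono g (key g⁻¹ (inv_mem hg))
  rwa [cj_cj, mul_inv_cancel, cj_one] at h1

/-- `S` normalises `X ∏ F j` if it permutes the `F j` -/
theorem fam_S [Finite G] (h : TK S B Q V Xn ZJ B0 X M0 Y0 L W Z C A z)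
    (hp : ∀ s ∈ S, ∀ i, ∃ j, cj s ⁅N i, K i⁆ = ⁅N j, K j⁆) :
    S ≤ normalizer ((X ⊔ ⨆ j, ⁅N j, K j⁆ : Subgroup G) : Set G) := by
  have key : ∀ g ∈ S, cj g (X ⊔ ⨆ j, ⁅N j, K j⁆) ≤ X ⊔ ⨆ j, ⁅N j, K j⁆ := by
    intro g hg
    rw [show cj g (X ⊔ ⨆ j, ⁅N j, K j⁆) = (X ⊔ ⨆ j, ⁅N j, K j⁆).map (MulAut.conj g).toMonoidHom from rfl,
      Subgroup.map_sup, Subgroup.map_iSup]
    refine sup_le ?_ (iSup_le fun i => ?_)
    · have e : X.map (MulAut.conj g).toMonoidHom = X := cj_eq_of_mem_normalizer (h.SX hg)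
      rw [e]
      exact le_sup_left
    · obtain ⟨j, hj⟩ := hp g hg i
      have e : (⁅N i, K i⁆ : Subgroup G).map (MulAut.conj g).toMonoidHom = ⁅N j, K j⁆ := hj
      rw [e]
      exact (le_iSup (fun j => (⁅N j, K j⁆ : Subgroup G)) j).trans le_sup_right
  intro g hg
  rw [mem_normalizer_iff_cj]
  refine le_antisymm (key g hg) ?_
  have h1 := cj_mono g (key g⁻¹ (inv_mem hg))
  rwa [cj_cj, mul_inv_cancel, cj_one] at h1

end Loc

end Cfsg.Agent.Omega.OM.Lev.Low.TorusV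

end

end

-- merged: Cfsg.Agent.Mrg.Omega.OM.SwapV.Torus.LocV
section

section


/-!
# TORUS over an abstract module `V` (box R), `q = 2`: the local inputs of the frame (helper630 / helper662)

Port of `OM/Lev/Low/TorusK/LocIn.lean` and `OM/Lev/Low/Full.lean` to `h : Lv.LnV S V Q n L W Z C A` (no `Bg`, `S` not
transitive on the blocks).

* `V_le_iSup`, `C_eq`, `perm'`, `C_cj`, `C_cj'` : `V = ⨆ W i`, `C i = ⨆ (j ≠ i), W j`, `N_G(B)` permutes `(W i, Z i, C i)`;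
* `nS`, `zS` : `N_G(B)`, `S` centralise the elements of full support of `Z_J`;
* `wt` : **(W)** : `z, g z g⁻¹ ∈ Z_J`, `z` of full support `⟹` `g z g⁻¹` of full support;
* `full_unique`, `exists_full`, `exists_z` : the element of full support is unique, exists and lies in `Ω₁Z(S)`;
* `syl` : `B` is a Sylow 2-subgroup of `C_G(Z p : p ≠ l)`;
* `o2CI_le_B`, `loc1`, `loc2` : `E = Ω₁Z(O₂(C_G(Z p : p ≠ l, m)))` is elementary abelian, `Z_J ≤ E ≤ B`;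
* `fact`, `fact'`, `fact_zc`, `fact_full` : a local `H ≥ S` is generated by `N_H(Ω₁Z(lev S j))` and `C_H(x)`, for every `x ∈ Ω₁Z(S)`.
-/

set_option autoImplicit false
set_option linter.unusedSectionVars false

namespace Cfsg.Agent.Omega.OM.SwapV.TorusV.LocL

open Subgroup Cfsg Cfsg.Agent.ZN.ChoiceBase Cfsg.Agent.ZN.ChoiceSit
open Cfsg.Agent.ZN (jj zj bau zc zl o2)
open Cfsg.Agent.Omega.MinPar (IsLoc IsPar IsParS)
open Cfsg.Agent.Omega.OM.Lev.Uni (FrL)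
open Cfsg.Agent.Omega.OM.SwapL (ZL BL lb wc nb mem_C_iff)
open Cfsg.Agent.Omega.OM.SwapV.Lv (LnV)
open Cfsg.Agent.Omega.NO3S.Level (lev lev_mono lev_isLev lev_le)
open Cfsg.Agent.Omega.OM.Lev.Low.Line (Full Tr mc)
open Cfsg.Agent.Omega.EK3.Q.Loc (YI CI mem_YI mem_CI YI_le_left YI_le_right)

universe u

/-! ### The frame `FrL` -/

section frl

variable {G : Type u} [Group G] {ι : Type} {B Q V X ZJ : Subgroup G} {L W Z C A : ι → Subgroup G} {q : ℕ}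

/-- `W`-components: `v ∈ V` is a product of elements of the `W j`, `j ∈ s`, modulo the intersection of the `C j`. -/
theorem comp [Finite ι] (h : FrL B Q V X ZJ L W Z C A q) (p : ι → Prop) {v : G} (hv : v ∈ V) :
    ∃ w ∈ (⨆ j : {j : ι // p j}, W j), w ∈ V ∧ ∀ i, p i → w⁻¹ * v ∈ C i := by
  classical
  have := Fintype.ofFinite ι
  have key : ∀ s : Finset ι, (∀ i ∈ s, p i) → ∃ w ∈ (⨆ j : {j : ι // p j}, W j), w ∈ V ∧ ∀ i ∈ s, w⁻¹ * v ∈ C i := by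
    intro s
    induction s using Finset.induction_on with
    | empty => exact fun _ => ⟨1, one_mem _, one_mem _, fun i hi => by simp at hi⟩
    | insert j s hj ih =>
      intro hs
      obtain ⟨w, hw, hwV, hwC⟩ := ih fun i hi => hs i (Finset.mem_insert_of_mem hi)
      obtain ⟨a, ha, c, hc, e⟩ := h.WC j (w⁻¹ * v) (mul_mem (inv_mem hwV) hv)
      refine ⟨w * a, mul_mem hw ?_, mul_mem hwV (h.WV j ha), fun i hi => ?_⟩
      · exact (le_iSup (fun j : {j : ι // p j} => W j) ⟨j, hs j (Finset.mem_insert_self j s)⟩) ha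
      · have e1 : (w * a)⁻¹ * v = a⁻¹ * (w⁻¹ * v) := by group
        rw [e1]
        rcases Finset.mem_insert.1 hi with rfl | hi
        · rw [e]
          have : a⁻¹ * (a * c) = c := by group
          rw [this]
          exact hc
        · have hij : i ≠ j := fun e => hj (e ▸ hi)
          exact mul_mem (inv_mem (h.WjC i j hij ha)) (hwC i hi)
  obtain ⟨w, hw, hwV, hwC⟩ := key (Finset.univ.filter p) fun i hi => (Finset.mem_filter.1 hi).2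
  exact ⟨w, hw, hwV, fun i hi => hwC i (Finset.mem_filter.2 ⟨Finset.mem_univ i, hi⟩)⟩

/-- **`C i = ⨆ (j ≠ i), W j`** -/
theorem C_eq' [Finite ι] (h : FrL B Q V X ZJ L W Z C A q) (i : ι) : C i = ⨆ j : {j : ι // j ≠ i}, W j := by
  apply le_antisymm
  · intro c hc
    obtain ⟨w, hw, hwV, hwC⟩ := comp h (fun j => j ≠ i) (h.CV i hc)
    have hwi : w ∈ C i := (iSup_le fun j : {j : ι // j ≠ i} => h.WjC i j j.2.symm) hw
    have h1 := h.C0 (w⁻¹ * c) (mul_mem (inv_mem hwV) (h.CV i hc)) fun j => by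
      by_cases hj : j = i
      · rw [hj]; exact mul_mem (inv_mem hwi) hc
      · exact hwC j hj
    rw [← inv_mul_eq_one.1 h1]
    exact hw
  · exact iSup_le fun j => h.WjC i j j.2.symm

/-- **`V = ⨆ W i`** -/
theorem V_le_iSup' [Finite ι] (h : FrL B Q V X ZJ L W Z C A q) : V ≤ ⨆ i, W i := by
  intro v hv
  obtain ⟨w, hw, hwV, hwC⟩ := comp h (fun _ => True) hv
  have h1 := h.C0 (w⁻¹ * v) (mul_mem (inv_mem hwV) hv) fun j => hwC j trivial
  rw [← inv_mul_eq_one.1 h1]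
  exact (iSup_le fun j : {j : ι // True} => le_iSup W j.1) hw

/-- `Z_J ≤ ⨆ Z i` -/
theorem ZJ_le_iSup' [Finite ι] (h : FrL B Q V X ZJ L W Z C A q) : ZJ ≤ ⨆ i, Z i := by
  classical
  have := Fintype.ofFinite ι
  have key : ∀ s : Finset ι, ∀ v ∈ ZJ, ∃ w ∈ (⨆ l, Z l), w ∈ ZJ ∧ ∀ i ∈ s, w⁻¹ * v ∈ C i := by
    intro s
    induction s using Finset.induction_on with
    | empty => exact fun v _ => ⟨1, one_mem _, one_mem _, fun i hi => by simp at hi⟩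
    | insert j s hj ih =>
      intro v hv
      obtain ⟨w, hw, hwJ, hwC⟩ := ih v hv
      obtain ⟨a, ha, c, hc, -, e⟩ := h.split_ZJ j (mul_mem (inv_mem hwJ) hv)
      refine ⟨w * a, mul_mem hw ((le_iSup Z j) ha), mul_mem hwJ (h.Z_le j ha), fun i hi => ?_⟩
      have e1 : (w * a)⁻¹ * v = a⁻¹ * (w⁻¹ * v) := by group
      rw [e1]
      rcases Finset.mem_insert.1 hi with rfl | hi
      · rw [e]
        have : a⁻¹ * (a * c) = c := by group
        rw [this]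
        exact hc
      · have hij : i ≠ j := fun e => hj (e ▸ hi)
        exact mul_mem (inv_mem (h.WjC i j hij ((h.blk j).ZV ha))) (hwC i hi)
  intro v hv
  obtain ⟨w, hw, hwJ, hwC⟩ := key Finset.univ v hv
  have h1 := h.C0 (w⁻¹ * v) (h.ZJV (mul_mem (inv_mem hwJ) hv)) fun i => hwC i (Finset.mem_univ i)
  have h2 : v = w := (inv_mul_eq_one.1 h1).symm
  rw [h2]
  exact hw

/-- at most one element of `Z_J` has full support -/
theorem full_unique' (h : FrL B Q V X ZJ L W Z C A 2) {z z' : G} (hz : z ∈ ZJ) (hz' : z' ∈ ZJ) (hf : Full C z)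
    (hf' : Full C z') : z = z' := by
  have h1 : z * z'⁻¹ = 1 := h.C0 _ (mul_mem (h.ZJV hz) (inv_mem (h.ZJV hz'))) fun i => by
    obtain ⟨a, ha, b, hb, e⟩ := Lev.Low.Line.ZJ_cmp h hz i
    obtain ⟨a', ha', b', hb', e'⟩ := Lev.Low.Line.ZJ_cmp h hz' i
    have h2 : a ≠ 1 := by
      rintro rfl
      exact hf i (by rw [e, one_mul]; exact hb)
    have h3 : a' ≠ 1 := by
      rintro rfl
      exact hf' i (by rw [e', one_mul]; exact hb')
    have e3 := Lev.Low.Line.Z_two h ha h2 ha' h3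
    have h4 : a * (b * b'⁻¹) = b * b'⁻¹ * a := mc h (h.ZV i ha) (h.CV i (mul_mem hb (inv_mem hb')))
    have h5 : z * z'⁻¹ = b * b'⁻¹ := by
      rw [e, e', ← e3]
      calc a * b * (a * b')⁻¹ = a * (b * b'⁻¹) * a⁻¹ := by group
        _ = _ := by rw [h4]; group
    rw [h5]
    exact mul_mem hb (inv_mem hb')
  exact mul_inv_eq_one.1 h1

end frl

variable {G : Type u} [Group G] [Finite G] {ι : Type} [Finite ι] {S : Sylow 2 G} {V Q : Subgroup G} {n : ℕ}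
  {L W Z C A : ι → Subgroup G}

/-! ### `B`, `Z_J` -/

omit [Finite ι] in
theorem B_two (S : Sylow 2 G) (n : ℕ) : IsPGroup 2 (BL (S : Subgroup G) n) := (lb S n).Bp

omit [Finite ι] in
theorem B_cent (S : Sylow 2 G) (n : ℕ) : BL (S : Subgroup G) n ≤ centralizer (ZL (S : Subgroup G) n : Set G) :=
  inf_le_right

omit [Finite ι] in
theorem ZL_le_B (S : Sylow 2 G) (n : ℕ) : ZL (S : Subgroup G) n ≤ BL (S : Subgroup G) n := (lb S n).ZB

omit [Finite ι] in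
theorem S_norm_B (S : Sylow 2 G) (n : ℕ) : (S : Subgroup G) ≤ normalizer (BL (S : Subgroup G) n : Set G) :=
  UniPlus.WC.weakNormal (wc S n) _ S.isPGroup' (lb S n).BS

omit [Finite ι] in
theorem le_norm_B {T : Subgroup G} (hT : IsPGroup 2 T) (hB : BL (S : Subgroup G) n ≤ T) :
    T ≤ normalizer (BL (S : Subgroup G) n : Set G) := UniPlus.WC.weakNormal (wc S n) _ hT hB

omit [Finite ι] in
theorem syl_B (S : Sylow 2 G) (n : ℕ) : Syl (BL (S : Subgroup G) n) (centralizer (ZL (S : Subgroup G) n : Set G)) :=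
  (lb S n).syl

omit [Finite ι] in
/-- a 2-subgroup of `C_G(ZJ)` normalised by `B` lies in `B` -/
theorem le_B_of {R : Subgroup G} (hR : IsPGroup 2 R) (hRD : R ≤ centralizer (ZL (S : Subgroup G) n : Set G))
    (hn : BL (S : Subgroup G) n ≤ normalizer (R : Set G)) : R ≤ BL (S : Subgroup G) n := by
  have : Fact (Nat.Prime 2) := ⟨Nat.prime_two⟩
  have h1 : IsPGroup 2 ((BL (S : Subgroup G) n ⊔ R : Subgroup G)) :=
    IsPGroup.to_sup_of_normal_right' (B_two S n) hR hn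
  have h2 := (syl_B S n).2.2 _ (sup_le (B_cent S n) hRD) h1 le_sup_left
  rw [← h2]
  exact le_sup_right

/-! ### `V`, `C i` -/

theorem V_le_iSup (h : LnV S V Q n L W Z C A) : V ≤ ⨆ i, W i := V_le_iSup' h.fr

theorem ZJ_le_iSup (h : LnV S V Q n L W Z C A) : ZL (S : Subgroup G) n ≤ ⨆ i, Z i := ZJ_le_iSup' h.fr

theorem C_eq (h : LnV S V Q n L W Z C A) (i : ι) : C i = ⨆ j : {j : ι // j ≠ i}, W j := C_eq' h.fr i

omit [Finite ι] in
theorem W_ne (h : LnV S V Q n L W Z C A) (i : ι) : W i ≠ ⊥ := by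
  intro e
  obtain ⟨z, hz, hz1⟩ := Lv.Z_ne h i
  have h1 := Lv.Z_W h i hz
  rw [e, mem_bot] at h1
  exact hz1 h1

omit [Finite ι] in
theorem W_inj (h : LnV S V Q n L W Z C A) {i j : ι} (e : W i = W j) : i = j := by
  by_contra hne
  obtain ⟨z, hz, hz1⟩ := Lv.Z_ne h i
  exact Lv.not_mem_C h hz hz1 (h.fr.WjC i j hne (e ▸ Lv.Z_W h i hz))

/-- **`N_G(B)` permutes the `(W i, Z i, C i)`** -/
theorem perm' (h : LnV S V Q n L W Z C A) {g : G} (hg : g ∈ normalizer (BL (S : Subgroup G) n : Set G)) :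
    ∃ σ : ι → ι, Function.Injective σ ∧ ∀ i, cj g (W i) = W (σ i) ∧ cj g (Z i) = Z (σ i) ∧ cj g (C i) = C (σ i) := by
  choose σ hσZ hσW _ using Lv.perm h hg
  have hinj : Function.Injective σ := fun i j e => by
    have h1 : cj g (W i) = cj g (W j) := by rw [hσW, hσW, e]
    have h2 := congrArg (cj g⁻¹) h1
    rw [cj_inv_cj, cj_inv_cj] at h2
    exact W_inj h h2
  have hsurj : Function.Surjective σ := Finite.injective_iff_surjective.1 hinj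
  refine ⟨σ, hinj, fun i => ⟨hσW i, hσZ i, ?_⟩⟩
  rw [C_eq h i, C_eq h (σ i)]
  show Subgroup.map _ _ = _
  rw [Subgroup.map_iSup]
  apply le_antisymm
  · refine iSup_le fun j => ?_
    have h1 : Subgroup.map (MulAut.conj g).toMonoidHom (W j) = W (σ j) := hσW j
    rw [h1]
    exact le_iSup (fun k : {k : ι // k ≠ σ i} => W k) ⟨σ j, fun e => j.2 (hinj e)⟩
  · refine iSup_le fun k => ?_
    obtain ⟨j, hj⟩ := hsurj k
    have h1 : Subgroup.map (MulAut.conj g).toMonoidHom (W j) = W k := by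
      rw [← hj]; exact hσW j
    rw [← h1]
    exact le_iSup (fun k : {k : ι // k ≠ i} => Subgroup.map (MulAut.conj g).toMonoidHom (W k))
      ⟨j, fun e => k.2 (by rw [← hj, e])⟩

/-- **`(C i)^g = C j` if `(W i)^g = W j`** -/
theorem C_cj (h : LnV S V Q n L W Z C A) {g : G} (hg : g ∈ normalizer (BL (S : Subgroup G) n : Set G)) {i j : ι}
    (e : cj g (W i) = W j) : cj g (C i) = C j := by
  obtain ⟨σ, -, h1⟩ := perm' h hg
  have h2 : j = σ i := W_inj h (e.symm.trans (h1 i).1)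
  rw [h2]
  exact (h1 i).2.2

/-- **`(C i)^g = C j` if `(Z i)^g = Z j`** -/
theorem C_cj' (h : LnV S V Q n L W Z C A) {g : G} (hg : g ∈ normalizer (BL (S : Subgroup G) n : Set G)) {i j : ι}
    (e : cj g (Z i) = Z j) : cj g (C i) = C j := C_cj h hg (Lv.W_cj h hg e)

/-! ### Blocks -/

omit [Finite ι] in
theorem block (h : LnV S V Q n L W Z C A) (i : ι) : LemmaK.Block 2 (BL (S : Subgroup G) n) (L i) (W i) :=
  (nb h.fr i).block (wc S n) (B_two S n)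

omit [Finite ι] in
/-- `L i` centralises `Z j`, `j ≠ i` -/
theorem L_cent_Z (h : LnV S V Q n L W Z C A) {i j : ι} (hij : i ≠ j) {l z : G} (hl : l ∈ L i) (hz : z ∈ Z j) :
    l * z = z * l := h.fr.LC i l hl z (h.fr.Z_le j hz) (Lv.Z_C h hij hz)

/-! ### Full support -/

omit [Finite ι] in
theorem norm_ZL {y z : G} (hy : y ∈ normalizer (BL (S : Subgroup G) n : Set G)) (hz : z ∈ ZL (S : Subgroup G) n) :
    y * z * y⁻¹ ∈ ZL (S : Subgroup G) n := Lv.ZL_cj_mem hy hz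

theorem full_norm (h : LnV S V Q n L W Z C A) {y z : G} (hy : y ∈ normalizer (BL (S : Subgroup G) n : Set G))
    (hz : z ∈ ZL (S : Subgroup G) n) (hf : Full C z) : Full C (y * z * y⁻¹) := by
  intro j hj
  obtain ⟨i, -, -, h1⟩ := Lv.perm h (inv_mem hy) j
  have h2 := (h1 _ (norm_ZL hy hz)).2 hj
  have e : y⁻¹ * (y * z * y⁻¹) * y⁻¹⁻¹ = z := by group
  rw [e] at h2
  exact hf i h2

omit [Finite ι] in
theorem full_unique (h : LnV S V Q n L W Z C A) {z z' : G} (hz : z ∈ ZL (S : Subgroup G) n)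
    (hz' : z' ∈ ZL (S : Subgroup G) n) (hf : Full C z) (hf' : Full C z') : z = z' := full_unique' h.fr hz hz' hf hf'

theorem exists_full (h : LnV S V Q n L W Z C A) : ∃ z ∈ ZL (S : Subgroup G) n, Full C z :=
  Lev.Low.Line.exists_full h.fr

/-- `N_G(B)` centralises the elements of full support of `Z_J` -/
theorem nS (h : LnV S V Q n L W Z C A) {z : G} (hz : z ∈ ZL (S : Subgroup G) n) (hf : ∀ i, z ∉ C i) {s : G}
    (hs : s ∈ normalizer (BL (S : Subgroup G) n : Set G)) : s * z = z * s := by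
  have h2 := full_unique h (norm_ZL hs hz) hz (full_norm h hs hz hf) hf
  exact mul_inv_eq_iff_eq_mul.1 h2

/-- **(zS)** `S` centralises the elements of full support of `Z_J` -/
theorem zS (h : LnV S V Q n L W Z C A) {z : G} (hz : z ∈ ZL (S : Subgroup G) n) (hf : ∀ i, z ∉ C i) {s : G}
    (hs : s ∈ (S : Subgroup G)) : s * z = z * s := nS h hz hf (S_norm_B S n hs)

/-- the element of full support lies in `Ω₁Z(S)` -/
theorem mem_zc_S (h : LnV S V Q n L W Z C A) {z : G} (hz : z ∈ ZL (S : Subgroup G) n) (hf : ∀ i, z ∉ C i) :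
    z ∈ zc (S : Subgroup G) :=
  ZN.ChoiceBase.mem_zc.2 ⟨(lb S n).BS (ZL_le_B S n hz), (lb S n).sq z hz, fun _ hs => zS h hz hf hs⟩

/-- the element of full support: it lies in `Z_J`, in `Ω₁Z(S)` and is centralised by `N_G(B)` -/
theorem exists_z (h : LnV S V Q n L W Z C A) : ∃ z ∈ ZL (S : Subgroup G) n, (∀ i, z ∉ C i) ∧
    z ∈ zc (S : Subgroup G) ∧ ∀ s ∈ normalizer (BL (S : Subgroup G) n : Set G), s * z = z * s := by
  obtain ⟨z, hz, hf⟩ := exists_full h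
  exact ⟨z, hz, hf, mem_zc_S h hz hf, fun s hs => nS h hz hf hs⟩

/-- **(W)** -/
theorem wt (h : LnV S V Q n L W Z C A) : ∀ g z : G, z ∈ ZL (S : Subgroup G) n → g * z * g⁻¹ ∈ ZL (S : Subgroup G) n →
    (∀ i, z ∉ C i) → ∀ i, g * z * g⁻¹ ∉ C i := by
  intro g z hz hg hf
  have : Fact (Nat.Prime 2) := ⟨Nat.prime_two⟩
  obtain ⟨z', hz'⟩ : ∃ z', z' = g * z * g⁻¹ := ⟨_, rfl⟩
  rw [← hz'] at hg ⊢
  have hBz : BL (S : Subgroup G) n ≤ centralizer ({z'} : Set G) := by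
    intro b hb
    rw [mem_centralizer_singleton_iff]
    exact (mem_centralizer_iff.1 (B_cent S n hb) z' hg).symm
  have hSz : ((g • S : Sylow 2 G) : Subgroup G) ≤ centralizer ({z'} : Set G) := by
    rw [Sylow.coe_subgroup_smul]
    rintro _ ⟨s, hs, rfl⟩
    rw [mem_centralizer_singleton_iff]
    have h1 := zS h hz hf hs
    change g * s * g⁻¹ * z' = z' * (g * s * g⁻¹)
    rw [hz']
    calc g * s * g⁻¹ * (g * z * g⁻¹) = g * (s * z) * g⁻¹ := by group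
      _ = g * (z * s) * g⁻¹ := by rw [h1]
      _ = _ := by group
  have hB2 : IsPGroup 2 ((BL (S : Subgroup G) n).subgroupOf (centralizer ({z'} : Set G))) :=
    (B_two S n).comap_of_injective _ (Subgroup.subtype_injective _)
  obtain ⟨R, hR⟩ := hB2.exists_le_sylow
  obtain ⟨x, hx⟩ := MulAction.exists_smul_eq (centralizer ({z'} : Set G)) ((g • S).subtype hSz) R
  have h2 : BL (S : Subgroup G) n ≤ cj ((x : G) * g) (S : Subgroup G) := by
    intro b hb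
    have h3 : (⟨b, hBz hb⟩ : centralizer ({z'} : Set G)) ∈ R := hR hb
    rw [← hx] at h3
    obtain ⟨⟨c, hc⟩, hc1, e⟩ := h3
    obtain ⟨s, hs, rfl⟩ := hc1
    refine ⟨s, hs, ?_⟩
    have e2 : (x : G) * (g * s * g⁻¹) * (x : G)⁻¹ = b := congrArg Subtype.val e
    change (x : G) * g * s * ((x : G) * g)⁻¹ = b
    rw [← e2]
    group
  have h3 : cj ((x : G) * g)⁻¹ (BL (S : Subgroup G) n) ≤ (S : Subgroup G) := by
    have := cj_mono ((x : G) * g)⁻¹ h2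
    rwa [cj_inv_cj] at this
  have h4 : ((x : G) * g)⁻¹ ∈ normalizer (BL (S : Subgroup G) n : Set G) :=
    mem_normalizer_iff_cj.2 (wc S n (S : Subgroup G) S.isPGroup' (lb S n).BS _ h3)
  have h5 : (x : G) * g ∈ normalizer (BL (S : Subgroup G) n : Set G) := inv_mem_iff.1 h4
  have h6 := full_norm h h5 hz hf
  have e : (x : G) * g * z * ((x : G) * g)⁻¹ = z' := by
    have h7 := mem_centralizer_singleton_iff.1 x.2
    calc (x : G) * g * z * ((x : G) * g)⁻¹ = x * (g * z * g⁻¹) * (x : G)⁻¹ := by group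
      _ = z' := by rw [← hz', h7]; group
  rwa [e] at h6

/-! ### Sylow, `O₂(C_G(Z p : p ≠ l, m))` -/

/-- an element of `C_ij` centralising `Z i`, `Z j` centralises `ZJ` -/
theorem mem_D (h : LnV S V Q n L W Z C A) {i j : ι} {x : G} (hx : x ∈ CI Z i j) (hi : ∀ z ∈ Z i, z * x = x * z)
    (hj : ∀ z ∈ Z j, z * x = x * z) : x ∈ centralizer (ZL (S : Subgroup G) n : Set G) := by
  have h1 : (⨆ l, Z l) ≤ centralizer ({x} : Set G) := by
    refine iSup_le fun l z hz => mem_centralizer_iff.2 fun y hy => ?_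
    rw [Set.mem_singleton_iff.1 hy]
    by_cases hli : l = i
    · subst hli; exact (hi z hz).symm
    · by_cases hlj : l = j
      · subst hlj; exact (hj z hz).symm
      · exact (mem_CI.1 hx l hli hlj z hz).symm
  exact mem_centralizer_iff.2 fun z hz =>
    (mem_centralizer_iff.1 (h1 (ZJ_le_iSup h hz)) x (Set.mem_singleton x)).symm

/-- An element of `N_G(B)` which centralises `Z p` for all `p ≠ l` centralises `Z_J`. -/
theorem mem_cent (h : LnV S V Q n L W Z C A) {l : ι} {t : G} (ht : t ∈ normalizer (BL (S : Subgroup G) n : Set G))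
    (hc : ∀ p, p ≠ l → ∀ x ∈ Z p, t * x = x * t) : t ∈ centralizer (ZL (S : Subgroup G) n : Set G) := by
  obtain ⟨j, hj, -, -⟩ := Lv.perm h ht l
  have hjl : j = l := by
    by_contra hne
    have h1 : cj t (Z j) = Z j := by
      have h2 : t ∈ centralizer (Z j : Set G) := mem_centralizer_iff.2 fun x hx => (hc j hne x hx).symm
      exact cj_eq_of_mem_normalizer (centralizer_le_normalizer _ h2)
    have h2 := hj.trans h1.symm
    have h3 := congrArg (cj t⁻¹) h2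
    rw [cj_inv_cj, cj_inv_cj] at h3
    exact hne (Lv.Z_inj h h3).symm
  rw [hjl] at hj
  have hl : ∀ z ∈ Z l, z * t = t * z := fun z hz => (Lv.cent_of_cj h hj hz).symm
  exact mem_D h (i := l) (j := l) (mem_CI.2 fun p hp _ z hz => (hc p hp z hz).symm) hl hl

/-- **(syl)** `B` is a Sylow 2-subgroup of `C_G(Z p : p ≠ l)`. -/
theorem syl (h : LnV S V Q n L W Z C A) :
    ∀ (l : ι) (T : Subgroup G), IsPGroup 2 T → BL (S : Subgroup G) n ≤ T →
      (∀ p, p ≠ l → T ≤ centralizer (Z p : Set G)) → T ≤ BL (S : Subgroup G) n := by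
  intro l T hT hBT hc
  refine le_B_of hT (fun t ht => ?_) (hBT.trans le_normalizer)
  exact mem_cent h (l := l) (le_norm_B hT hBT ht) fun p hp x hx =>
    (mem_centralizer_iff.1 (hc p hp ht) x hx).symm

omit [Finite ι] in
theorem D_le_Y (h : LnV S V Q n L W Z C A) (j : ι) : centralizer (ZL (S : Subgroup G) n : Set G) ≤ YI Z j :=
  fun _ hx => mem_YI.2 fun l _ z hz => mem_centralizer_iff.1 hx z (h.fr.Z_le l hz)

omit [Finite ι] in
theorem D_le_C (h : LnV S V Q n L W Z C A) (i j : ι) : centralizer (ZL (S : Subgroup G) n : Set G) ≤ CI Z i j :=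
  (D_le_Y h j).trans (YI_le_right i j)

omit [Finite ι] in
theorem B_le_C (h : LnV S V Q n L W Z C A) (i j : ι) : BL (S : Subgroup G) n ≤ CI Z i j :=
  (B_cent S n).trans (D_le_C h i j)

omit [Finite ι] in
theorem L_le_Y (h : LnV S V Q n L W Z C A) (j : ι) : L j ≤ YI Z j := fun _ hx => mem_YI.2 fun _ hl _ hz =>
  (L_cent_Z h hl.symm hx hz).symm

omit [Finite ι] in
theorem ZJ_comm (h : LnV S V Q n L W Z C A) {z w : G} (hz : z ∈ ZL (S : Subgroup G) n)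
    (hw : w ∈ ZL (S : Subgroup G) n) : z * w = w * z := h.fr.Vc (h.fr.ZJV hz) (h.fr.ZJV hw)

omit [Finite ι] in
/-- **`C_ij` has characteristic 2** (there is a third index). -/
theorem char2_CI (h : LnV S V Q n L W Z C A) {i j l : ι} (hi : l ≠ i) (hj : l ≠ j) :
    CI Z i j ⊓ centralizer (o2 (CI Z i j) : Set G) ≤ o2 (CI Z i j) := by
  set U : Subgroup G := ⨆ m : {m : ι // m ≠ i ∧ m ≠ j}, Z m with hU
  have e : CI Z i j = centralizer (U : Set G) := by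
    apply le_antisymm
    · rw [Subgroup.le_centralizer_iff, hU]
      refine iSup_le fun m z hz => mem_centralizer_iff.2 fun x hx => ?_
      exact (mem_CI.1 hx m.1 m.2.1 m.2.2 z hz).symm
    · intro x hx
      refine mem_CI.2 fun m hmi hmj z hz => mem_centralizer_iff.1 hx z ?_
      exact (le_iSup (fun m : {m : ι // m ≠ i ∧ m ≠ j} => Z m) ⟨m, hmi, hmj⟩) hz
  have hUV : U ≤ ZL (S : Subgroup G) n := iSup_le fun m => h.fr.Z_le m
  have hU2 : IsPGroup 2 U := (B_two S n).to_le (hUV.trans (ZL_le_B S n))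
  have hU1 : U ≠ ⊥ := by
    intro h0
    obtain ⟨z, hz, hz1⟩ := Lv.Z_ne h l
    have h1 : z ∈ U := (le_iSup (fun m : {m : ι // m ≠ i ∧ m ≠ j} => Z m) ⟨l, hi, hj⟩) hz
    rw [h0, mem_bot] at h1
    exact hz1 h1
  rw [e]
  exact NOne.LemmaT.char2_centralizer h.char2 hU2 hU1

omit [Finite ι] in
theorem o2CI_cent_left (h : LnV S V Q n L W Z C A) (i j : ι) : o2 (CI Z i j) ≤ centralizer (W i : Set G) := by
  have : Fact (Nat.Prime 2) := ⟨Nat.prime_two⟩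
  exact (block h i).le_centralizer (isPGroup_o2 _)
    (((L_le_Y h i).trans (YI_le_left i j)).trans (le_normalizer_o2 _))

omit [Finite ι] in
theorem o2CI_cent_right (h : LnV S V Q n L W Z C A) (i j : ι) : o2 (CI Z i j) ≤ centralizer (W j : Set G) := by
  have : Fact (Nat.Prime 2) := ⟨Nat.prime_two⟩
  exact (block h j).le_centralizer (isPGroup_o2 _)
    (((L_le_Y h j).trans (YI_le_right i j)).trans (le_normalizer_o2 _))

/-- `O₂(C_ij) ≤ C_G(ZJ)` -/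
theorem o2CI_le_D (h : LnV S V Q n L W Z C A) (i j : ι) :
    o2 (CI Z i j) ≤ centralizer (ZL (S : Subgroup G) n : Set G) := fun x hx =>
  mem_D h (o2_le _ hx)
    (fun z hz => mem_centralizer_iff.1 (o2CI_cent_left h i j hx) z ((h.fr.blk i).ZV hz))
    (fun z hz => mem_centralizer_iff.1 (o2CI_cent_right h i j hx) z ((h.fr.blk j).ZV hz))

/-- **`O₂(C_ij) ≤ B`** -/
theorem o2CI_le_B (h : LnV S V Q n L W Z C A) (i j : ι) : o2 (CI Z i j) ≤ BL (S : Subgroup G) n :=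
  le_B_of (isPGroup_o2 _) (o2CI_le_D h i j) ((B_le_C h i j).trans (le_normalizer_o2 _))

/-- **`ZJ ≤ Ω₁Z(O₂(C_ij))`** -/
theorem ZJ_le_zc (h : LnV S V Q n L W Z C A) {i j l : ι} (hi : l ≠ i) (hj : l ≠ j) :
    ZL (S : Subgroup G) n ≤ zc (o2 (CI Z i j)) := by
  intro z hz
  have hc : z ∈ centralizer (o2 (CI Z i j) : Set G) := mem_centralizer_iff.2 fun x hx =>
    (mem_centralizer_iff.1 (o2CI_le_D h i j hx) z hz).symm
  have hzD : z ∈ centralizer (ZL (S : Subgroup G) n : Set G) :=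
    mem_centralizer_iff.2 fun _ hw => ZJ_comm h hw hz
  refine mem_zc.2 ⟨char2_CI h hi hj ⟨D_le_C h i j hzD, hc⟩, ?_, fun y hy => mem_centralizer_iff.1 hc y hy⟩
  exact (lb S n).sq z hz

omit [Finite ι] in
theorem le_normalizer_zc_o2 (X : Subgroup G) : X ≤ normalizer (zc (o2 X) : Set G) :=
  (le_normalizer_o2 X).trans (normalizer_le_of_cj (F := zc) LemmaK.Main.zc_cj _)

/-- **(loc2)**, strong form: `E = Ω₁Z(O₂(C_G(Z p : p ≠ l, m)))`. -/
theorem loc2' (h : LnV S V Q n L W Z C A) {l m r : ι} (hl : r ≠ l) (hm : r ≠ m) :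
    ∃ E : Subgroup G, IsElementaryAbelian 2 E ∧ E ≤ BL (S : Subgroup G) n ∧
      ZL (S : Subgroup G) n ≤ E ∧ ∀ g : G, (∀ p, p ≠ l → p ≠ m → ∀ x ∈ Z p, g * x = x * g) →
        g ∈ normalizer (E : Set G) := by
  refine ⟨zc (o2 (CI Z l m)), NO3S.OneLine.zc_elem _, (zc_le _).trans (o2CI_le_B h l m),
    ZJ_le_zc h hl hm, fun g hg => le_normalizer_zc_o2 _ ?_⟩
  exact mem_CI.2 fun p hp hp' z hz => (hg p hp hp' z hz).symm

/-- **(loc1)** -/
theorem loc1 (h : LnV S V Q n L W Z C A) (h2 : ∀ l : ι, ∃ r, r ≠ l) :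
    ∀ l : ι, ∃ E : Subgroup G, IsElementaryAbelian 2 E ∧ E ≤ BL (S : Subgroup G) n ∧
      ZL (S : Subgroup G) n ≤ E ∧ ∀ g : G, (∀ p, p ≠ l → ∀ x ∈ Z p, g * x = x * g) →
        g ∈ normalizer (E : Set G) := by
  intro l
  obtain ⟨r, hr⟩ := h2 l
  obtain ⟨E, h1, h2, h3, h4⟩ := loc2' h hr hr
  exact ⟨E, h1, h2, h3, fun g hg => h4 g fun p hp _ => hg p hp⟩

/-- **(loc2)**: `k ≥ 3`. -/
theorem loc2 (h : LnV S V Q n L W Z C A) (h3 : ∀ l m : ι, ∃ r, r ≠ l ∧ r ≠ m) :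
    ∀ l m : ι, l ≠ m → ∃ E : Subgroup G, IsElementaryAbelian 2 E ∧ E ≤ (S : Subgroup G) ∧
      (∀ x ∈ Z l, ∀ y ∈ Z m, x ≠ 1 → y ≠ 1 → x * y ∈ E) ∧
      ∀ g : G, (∀ p, p ≠ l → p ≠ m → ∀ x ∈ Z p, g * x = x * g) → g ∈ normalizer (E : Set G) := by
  intro l m _
  obtain ⟨r, hl, hm⟩ := h3 l m
  obtain ⟨E, h1, h2, h4, h5⟩ := loc2' h hl hm
  exact ⟨E, h1, h2.trans (lb S n).BS, fun x hx y hy _ _ =>
    mul_mem (h4 (h.fr.Z_le l hx)) (h4 (h.fr.Z_le m hy)), h5⟩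

/-! ### Local subgroups -/

/-- `B_j = C_S(Ω₁Z(lev S j)) ≤ B` -/
theorem BL_le {j : ℕ} (hj : j ≤ n) :
    (S : Subgroup G) ⊓ centralizer (zc (lev (S : Subgroup G) j) : Set G) ≤ BL (S : Subgroup G) n :=
  inf_le_inf_left _ (centralizer_le ((lev_isLev (S : Subgroup G) j).zc_le_zc (lev_mono _ (by omega : j ≤ n + 1))
    (lev_le _ (n + 1))))

/-- **(fact)**: a local `H` is generated by `N_H(Ω₁Z(lev S j))` and `C_H(Ω₁Z(S))`. -/
theorem fact_zc (S : Sylow 2 G) {H : Subgroup G} (hH : IsLoc (S : Subgroup G) H) {n j : ℕ} (hj : j ≤ n)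
    (hall : ∀ P, IsParS (S : Subgroup G) P → lev (S : Subgroup G) n ≤ o2 P) :
    H ≤ (H ⊓ normalizer (zc (lev (S : Subgroup G) j) : Set G)) ⊔
      (H ⊓ centralizer (zc (S : Subgroup G) : Set G)) := by
  have hlv := lev_isLev (S : Subgroup G) j
  refine hH.le_of_forall S ?_ fun Y hY hYH => ?_
  · refine le_trans (le_inf inf_le_left fun g hg => ?_) le_sup_left
    exact NO3S.Level.normalizer_le_zc _ (hlv.norm _ hlv.le le_rfl hg.2)
  · by_cases hZ : IsParS (S : Subgroup G) Y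
    · refine le_trans (le_inf hYH ?_) le_sup_left
      exact (hlv.le_norm_of_o2 ((lev_mono _ hj).trans (hall Y hZ)) (hY.isLoc.o2_le S)).trans
        (NO3S.Level.normalizer_le_zc _)
    · exact le_trans (le_inf hYH (FrameNOFF.par_le_CZ S hY hZ)) le_sup_right

/-- **(fact)**, for every `x ∈ Ω₁Z(S)`. -/
theorem fact' (S : Sylow 2 G) {H : Subgroup G} (hH : IsLoc (S : Subgroup G) H) {n j : ℕ} (hj : j ≤ n)
    (hall : ∀ P, IsParS (S : Subgroup G) P → lev (S : Subgroup G) n ≤ o2 P) {x : G}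
    (hx : x ∈ zc (S : Subgroup G)) :
    H ≤ (H ⊓ normalizer (zc (lev (S : Subgroup G) j) : Set G)) ⊔ (H ⊓ centralizer ({x} : Set G)) :=
  (fact_zc S hH hj hall).trans (sup_le_sup_left (inf_le_inf_left _
    (centralizer_le (Set.singleton_subset_iff.2 hx))) _)

/-- `S ≤ H ≤ N_G(U)`, `U ≠ 1` a 2-group: `H` is local. -/
theorem isLoc_of (S : Sylow 2 G) {H U : Subgroup G} (hS : (S : Subgroup G) ≤ H) (hU1 : U ≠ ⊥) (hU : IsPGroup 2 U)
    (hn : H ≤ normalizer (U : Set G)) : IsLoc (S : Subgroup G) H := by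
  have : Fact (Nat.Prime 2) := ⟨Nat.prime_two⟩
  refine ⟨hS, fun e => hU1 ?_⟩
  have h1 : IsPGroup 2 (((S : Subgroup G) ⊔ U : Subgroup G)) := IsPGroup.to_sup_of_normal_right' S.isPGroup' hU
    (hS.trans hn)
  have h2 : U ≤ (S : Subgroup G) := by
    have h3 := S.is_maximal' h1 le_sup_left
    rw [← h3]
    exact le_sup_right
  have h4 : U ≤ o2 H := le_o2 hU (h2.trans hS) hn
  rw [e] at h4
  exact le_bot_iff.1 h4

/-- **(fact)**, for every `x ∈ Ω₁Z(S)`, `H ≥ S` in the normaliser of a 2-group `U ≠ 1`. -/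
theorem fact (S : Sylow 2 G) {n : ℕ} (hall : ∀ P, IsParS (S : Subgroup G) P → lev (S : Subgroup G) n ≤ o2 P) :
    ∀ x ∈ zc (S : Subgroup G), ∀ H : Subgroup G, (S : Subgroup G) ≤ H →
      (∃ U : Subgroup G, U ≠ ⊥ ∧ IsPGroup 2 U ∧ H ≤ normalizer (U : Set G)) → ∀ j ≤ n,
        H ≤ (H ⊓ normalizer (zc (lev (S : Subgroup G) j) : Set G)) ⊔ (H ⊓ centralizer ({x} : Set G)) := by
  intro x hx H hH hU j hj
  obtain ⟨U, hU1, hU2, hU3⟩ := hU
  exact fact' S (isLoc_of S hH hU1 hU2 hU3) hj hall hx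

/-- **(fact)** for the element of full support -/
theorem fact_full (h : LnV S V Q n L W Z C A)
    (hall : ∀ P, IsParS (S : Subgroup G) P → lev (S : Subgroup G) n ≤ o2 P) :
    ∃ z ∈ ZL (S : Subgroup G) n, Full C z ∧ z ∈ zc (S : Subgroup G) ∧
      (∀ s ∈ normalizer (BL (S : Subgroup G) n : Set G), s * z = z * s) ∧
      ∀ H : Subgroup G, (S : Subgroup G) ≤ H →
        (∃ U : Subgroup G, U ≠ ⊥ ∧ IsPGroup 2 U ∧ H ≤ normalizer (U : Set G)) → ∀ j ≤ n,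
          H ≤ (H ⊓ normalizer (zc (lev (S : Subgroup G) j) : Set G)) ⊔ (H ⊓ centralizer ({z} : Set G)) := by
  obtain ⟨z, hz, hf, hzS, hN⟩ := exists_z h
  exact ⟨z, hz, hf, hzS, hN, fact S hall z hzS⟩

end Cfsg.Agent.Omega.OM.SwapV.TorusV.LocL

end

section


/-!
# TORUS over an abstract module (box R): the family of blocks (the proofs of `TorusK/Fam.lean`)
-/

set_option autoImplicit false
set_option linter.unusedSectionVars false

namespace Cfsg.Agent.Omega.OM.Lev.Low.TorusV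

open Subgroup Cfsg Cfsg.Agent.ZN Cfsg.Agent.ZN.ChoiceBase Cfsg.Agent.Omega.OM.Lev.Low.TorusK
open Cfsg.Agent.Omega.SQ1.Bau (mem_sup_comm card_sup_comm elem_comm elem_sq)
open Cfsg.Agent.Omega.NO3S.Level.Claim (Fm Bl cB mem_cB cB_le)
open Cfsg.Agent.Omega.OM.Lev.Uni (FrL)
open Cfsg.Agent.Omega.OM.Lev.Low.TorusK.PBC

universe u

variable {G : Type u} [Group G]

variable {ι : Type} {S B Q V Xn ZJ B0 X M0 Y0 : Subgroup G} {L W Z C A : ι → Subgroup G} {z : G}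
  {l : ι} {K N N1 N0 : Subgroup G}

/-- `B` permutes the lines. -/
theorem na_lines [Finite G] (h : TK S B Q V Xn ZJ B0 X M0 Y0 L W Z C A z) (k : BK B B0 X M0 Y0 W l K N N1 N0)
    (a : NA B K N) : ∀ b ∈ B, ∀ g ∈ K, ∃ g' ∈ K, ChoiceBase.cj b (ChoiceBase.cj g (W l)) = ChoiceBase.cj g' (W l) := by
  intro b hb g hg
  obtain ⟨g', hg', h1⟩ := a.act b hb g hg
  refine ⟨g', hg', ?_⟩
  have h2 : ∀ w ∈ W l, w ∈ N := fun w hw => k.pb.N1N (k.WN hw)
  have h3 : ChoiceBase.cj (b * g * b⁻¹) (W l) = ChoiceBase.cj g' (W l) := by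
    ext x
    constructor
    · intro hx
      obtain ⟨w, hw, rfl⟩ := ex_cj hx
      rw [h1 w (h2 w hw)]
      exact cj_mem hw
    · intro hx
      obtain ⟨w, hw, rfl⟩ := ex_cj hx
      rw [← h1 w (h2 w hw)]
      exact cj_mem hw
  rw [← h3, cj_cj]
  conv_rhs => rw [← h.BW hb l, cj_cj]
  congr 1
  group

/-- `K` is transitive on the non-trivial elements of the module. -/
theorem BK.tr [Finite G] [Finite ι] (h : TK S B Q V Xn ZJ B0 X M0 Y0 L W Z C A z)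
    (k : BK B B0 X M0 Y0 W l K N N1 N0) {zl : G} (hz : zl ∈ W l) (hz1 : zl ≠ 1) :
    ∀ v ∈ (⁅N, K⁆ : Subgroup G), v ≠ 1 → ∃ e ∈ K, e * zl * e⁻¹ = v := by
  intro v hv hv1
  have n4 := k.n4 h
  have m4 := (SigN4.toSig n4).toM4
  by_cases hvW : v ∈ W l
  · obtain ⟨e, he, -, h1⟩ := n4.tor zl hz hz1 v hvW hv1
    exact ⟨e, he, h1⟩
  · obtain ⟨x, hx, hm⟩ := n4.mv
    have hne : ChoiceBase.cj x (W l) ≠ W l := by
      intro e
      obtain ⟨w, hw, hw'⟩ := hm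
      exact hw' (e ▸ cj_mem hw)
    obtain ⟨p, hp, q, hq, e1⟩ := m4.compl hx hne hv
    have hqn : q ∉ W l := by
      intro h1
      exact hvW (e1 ▸ mul_mem hp h1)
    have hqV : q ∈ (⁅N, K⁆ : Subgroup G) := m4.lineV hx hq
    obtain ⟨b, hb, e2⟩ := m4.full hqV hqn hp
    obtain ⟨q0, hq0, e3⟩ := ex_cj hq
    have hq01 : q0 ≠ 1 := by
      rintro rfl
      apply hqn
      rw [e3]
      simp
    obtain ⟨e, he, -, e4⟩ := n4.tor zl hz hz1 q0 hq0 hq01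
    refine ⟨b * x * e, mul_mem (mul_mem (n4.BK hb) hx) he, ?_⟩
    have e5 : b * x * e * zl * (b * x * e)⁻¹ = b * (x * (e * zl * e⁻¹) * x⁻¹) * b⁻¹ := by group
    rw [e5, e4, ← e3, e1, ← e2]
    rfl

/-- **(chi)**: two blocks over the same line have the same module. -/
theorem BK.chi [Finite G] [Finite ι] (h : TK S B Q V Xn ZJ B0 X M0 Y0 L W Z C A z)
    (k : BK B B0 X M0 Y0 W l K N N1 N0) (a : NA B K N) {K' N' N1' N0' : Subgroup G}
    (k' : BK B B0 X M0 Y0 W l K' N' N1' N0') (a' : NA B K' N') : ⁅N', K'⁆ = ⁅N, K⁆ := by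
  obtain ⟨zl, hzl, zo, hzo, -, ez⟩ := h.fr.split_ZJ l h.zJ
  have hzl1 : zl ≠ 1 := fun e => h.zC l (by rw [ez, e, one_mul]; exact hzo)
  have hFX : ∀ x ∈ (⁅N, K⁆ : Subgroup G), ∀ y ∈ X, x * y = y * x := fun x hx y hy => h.cX (k.VB0 hx) hy
  have hFF : ∀ x ∈ (⁅N, K⁆ : Subgroup G), ∀ y ∈ (⁅N, K⁆ : Subgroup G), x * y = y * x := fun x hx y hy =>
    k.pb.comm (k.pb.VN hx) (k.pb.VN hy)
  have hzoJ : zo ∈ ZJ := by
    have : zo = zl⁻¹ * z := by rw [ez]; group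
    rw [this]
    exact mul_mem (inv_mem (h.fr.Z_le l hzl)) h.zJ
  have hcen : ∀ {K' N' N1' N0' : Subgroup G}, BK B B0 X M0 Y0 W l K' N' N1' N0' → ∀ e ∈ K', e * zo = zo * e := by
    intro K' N' N1' N0' k' e he
    have h1 : zo ∈ centralizer (K' : Set G) := h.mem_of_C (l := l) (fun p hp => (h.ZW p).trans fun w hw =>
      mem_centralizer_iff.2 fun g hg => k'.cW p hp w hw g hg) hzoJ hzo
    exact mem_centralizer_iff.1 h1 e he
  have hzlW : zl ∈ W l := h.ZW l hzl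
  have inp : Chi.Inp B X (X ⊓ centralizer (K : Set G)) ⁅N, K⁆ ⁅N', K'⁆ (W l) K K' zl zo :=
    { ab := by
        intro x hx y hy
        obtain ⟨x1, hx1, x2, hx2, rfl⟩ := mem_sup_comm hFX hx
        obtain ⟨y1, hy1, y2, hy2, rfl⟩ := mem_sup_comm hFX hy
        have c1 : Commute x1 y1 := hFF x1 hx1 y1 hy1
        have c2 : Commute x1 y2 := hFX x1 hx1 y2 hy2
        have c3 : Commute x2 y1 := (hFX y1 hy1 x2 hx2).symm
        have c4 : Commute x2 y2 := h.Xc hx2 hy2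
        exact ((c1.mul_right c2).mul_left (c3.mul_right c4))
      le := (uni' h k k').1
      FX := (k.inf_X h).le
      FX' := (k'.inf_X h).le
      cF := k.W_le h
      cF' := k'.W_le h
      dec := by
        intro x hx
        obtain ⟨w, hw, c, hc, hcK, rfl⟩ := k.splitX h hx
        exact mul_mem (mem_sup_left hw) (mem_sup_right (mem_inf.2 ⟨hc, mem_centralizer_iff.2 hcK⟩))
      XkX := inf_le_left
      cXk := by
        rw [eq_bot_iff]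
        rintro x ⟨hx, -, hx2⟩
        rw [mem_bot]
        exact k.W_cen hx (mem_centralizer_iff.1 hx2)
      card := by rw [k.card16 h, k'.card16 h]
      pB := h.twoB
      FB := k.VB0.trans h.B0B
      nF := a.nF
      nF' := a'.nF
      nXk := k.BX
      tr := k.tr h hzlW hzl1
      tr' := k'.tr h hzlW hzl1
      Kz := hcen k
      Kz' := hcen k'
      KX := fun e he x hx => mem_centralizer_iff.1 hx.2 e he
      zoX := mem_sup_right (h.ZJX hzoJ)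
      no_shift := by
        intro x hx hxB g hg
        refine h.no_shift h.zJ h.zC (h.mem_ZJ_of hx.1 hxB) (g := g) ?_
        rw [ez]
        exact hg }
  exact inp.eq

/-- The family of blocks over all lines; `T` a subgroup of `S`, `P` a `T`-orbit. -/
structure Fam (S T B B0 X M0 Y0 : Subgroup G) (P : ι → Prop) (W K N N1 N0 : ι → Subgroup G) : Prop where
  bk : ∀ i, BK B B0 X M0 Y0 W i (K i) (N i) (N1 i) (N0 i)
  na : ∀ i, NA B (K i) (N i)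
  chi : ∀ s ∈ S, ∀ i j, ChoiceBase.cj s (W i) = W j → ChoiceBase.cj s ⁅N i, K i⁆ = ⁅N j, K j⁆
  conj : ∀ i j, P i → P j → ∃ s ∈ T, ChoiceBase.cj s (W i) = W j ∧ ChoiceBase.cj s (K i) = K j

/-- **The family.** -/
theorem exists_fam [Finite G] [Finite ι] (h : TK S B Q V Xn ZJ B0 X M0 Y0 L W Z C A z)
    (k : BK B B0 X M0 Y0 W l K N N1 N0) (a : NA B K N) {T : Subgroup G} (hT : T ≤ S) {P : ι → Prop}
    (hP : ∀ i, P i → ∃ s ∈ T, ChoiceBase.cj s (W l) = W i) :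
    ∃ K N N1 N0 : ι → Subgroup G, Fam S T B B0 X M0 Y0 P W K N N1 N0 := by
  have htr : ∀ i, ∃ s ∈ S, ChoiceBase.cj s (W l) = W i ∧ (P i → s ∈ T) := by
    intro i
    by_cases hi : P i
    · obtain ⟨s, hs, e⟩ := hP i hi
      exact ⟨s, hT hs, e, fun _ => hs⟩
    · obtain ⟨s, hs, e⟩ := h.tr l i
      exact ⟨s, hs, e, fun h' => absurd h' hi⟩
  choose s hs e hsT using htr
  have hb : ∀ i, BK B B0 X M0 Y0 W i (ChoiceBase.cj (s i) K) (ChoiceBase.cj (s i) N) (ChoiceBase.cj (s i) N1)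
      (ChoiceBase.cj (s i) N0) := fun i => BK.cj h k (hs i) (e i)
  have ha : ∀ i, NA B (ChoiceBase.cj (s i) K) (ChoiceBase.cj (s i) N) := fun i => a.cj (h.SB (hs i))
  refine ⟨fun i => ChoiceBase.cj (s i) K, fun i => ChoiceBase.cj (s i) N, fun i => ChoiceBase.cj (s i) N1,
    fun i => ChoiceBase.cj (s i) N0, hb, ha, fun t ht i j hij => ?_, fun i j hi hj => ?_⟩
  · rw [← comm_cjj]
    exact BK.chi h (hb j) (ha j) (BK.cj h (hb i) ht hij) ((ha i).cj (h.SB ht))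
  · refine ⟨s j * (s i)⁻¹, mul_mem (hsT j hj) (inv_mem (hsT i hi)), ?_, ?_⟩
    · rw [← e i, cj_cj, inv_mul_cancel_right, e j]
    · rw [cj_cj, inv_mul_cancel_right]

end Cfsg.Agent.Omega.OM.Lev.Low.TorusV

end

end

-- merged: Cfsg.Agent.Mrg.Omega.OM.SwapV.Torus.Theta
section

/-!
# TORUS over an abstract module (box R): (theta) (the proofs of `TorusK/Theta.lean`)
-/

set_option autoImplicit false
set_option linter.unusedSectionVars false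

namespace Cfsg.Agent.Omega.OM.Lev.Low.TorusV

open Subgroup Cfsg Cfsg.Agent.ZN Cfsg.Agent.ZN.ChoiceBase Cfsg.Agent.Omega.OM.Lev.Low.TorusK
open Cfsg.Agent.PLocal.ThompsonJ (isElementaryAbelian_iff)
open Cfsg.Agent.Omega.SQ1.Bau (mem_sup_comm card_sup_comm elem_comm elem_sq)
open Cfsg.Agent.Omega.NO3S.Level.Claim (Fm Bl cB mem_cB cB_le)
open Cfsg.Agent.Omega.NO3S.ThmB (Fr DM)
open Cfsg.Agent.Omega.OM.Lev.Uni (FrL)
open Cfsg.Agent.Omega.OM.Lev.Low.TorusK.PBC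
open scoped commutatorElement

universe u

variable {G : Type u} [Group G]

/-- The data of (theta). -/
structure TD {ι : Type} (S B Q V Xn ZJ B0 X M0 Y0 : Subgroup G) (L W Z C A : ι → Subgroup G) (z : G)
    (K N N1 N0 : ι → Subgroup G) : Prop where
  tk : TK S B Q V Xn ZJ B0 X M0 Y0 L W Z C A z
  bk : ∀ i, BK B B0 X M0 Y0 W i (K i) (N i) (N1 i) (N0 i)
  loc : ∀ i, K i ≤ normalizer ((X ⊔ ⨆ j, ⁅N j, K j⁆ : Subgroup G) : Set G)
  comm : ∀ i j, i ≠ j → ∀ u ∈ (⁅N i, K i⁆ : Subgroup G), ∀ v ∈ (⁅N j, K j⁆ : Subgroup G), u * v = v * u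

namespace TD

variable {ι : Type} {S B Q V Xn ZJ B0 X M0 Y0 : Subgroup G} {L W Z C A : ι → Subgroup G} {z : G}
  {K N N1 N0 : ι → Subgroup G} (h : TD S B Q V Xn ZJ B0 X M0 Y0 L W Z C A z K N N1 N0)

include h

theorem FW (i : ι) : ⁅N i, K i⁆ ≤ (X ⊔ ⨆ j, ⁅N j, K j⁆ : Subgroup G) :=
  le_trans (le_iSup (fun j => ⁅N j, K j⁆) i) le_sup_right

theorem WB0 [Finite G] : (X ⊔ ⨆ j, ⁅N j, K j⁆ : Subgroup G) ≤ B0 :=
  sup_le h.tk.XB0 (iSup_le fun i => (h.bk i).VB0)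

theorem WY0 [Finite G] : (X ⊔ ⨆ j, ⁅N j, K j⁆ : Subgroup G) ≤ Y0 :=
  sup_le h.tk.XY (iSup_le fun i => (h.bk i).VY0)

theorem ab [Finite G] {x y : G} (hx : x ∈ (X ⊔ ⨆ j, ⁅N j, K j⁆ : Subgroup G))
    (hy : y ∈ (X ⊔ ⨆ j, ⁅N j, K j⁆ : Subgroup G)) : x * y = y * x := by
  have c1 : ∀ i, (⁅N i, K i⁆ : Subgroup G) ≤ centralizer (X : Set G) := fun i v hv =>
    mem_centralizer_iff.2 fun x hx => (h.tk.cX ((h.bk i).VB0 hv) hx).symm
  have c2 : X ≤ centralizer (X : Set G) := fun v hv => mem_centralizer_iff.2 fun x hx => h.tk.Xc hx hv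
  have c3 : ∀ i, (X ⊔ ⨆ j, ⁅N j, K j⁆ : Subgroup G) ≤ centralizer ((⁅N i, K i⁆ : Subgroup G) : Set G) := by
    intro i
    refine sup_le (le_centralizer_iff.1 (c1 i)) (iSup_le fun j => ?_)
    by_cases e : i = j
    · subst e
      exact fun v hv => mem_centralizer_iff.2 fun x hx =>
        (h.bk i).pb.comm ((h.bk i).pb.VN hx) ((h.bk i).pb.VN hv)
    · exact fun v hv => mem_centralizer_iff.2 fun x hx => h.comm i j e x hx v hv
  have c4 : (X ⊔ ⨆ j, ⁅N j, K j⁆ : Subgroup G) ≤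
      centralizer ((X ⊔ ⨆ j, ⁅N j, K j⁆ : Subgroup G) : Set G) := by
    rw [le_centralizer_iff]
    refine sup_le ?_ (iSup_le fun i => le_centralizer_iff.1 (c3 i))
    exact le_centralizer_iff.1 (sup_le c2 (iSup_le c1))
  exact (mem_centralizer_iff.1 (c4 hx) y hy).symm

theorem el [Finite G] : IsElementaryAbelian 2 (X ⊔ ⨆ j, ⁅N j, K j⁆ : Subgroup G) := by
  refine isElementaryAbelian_iff.2 ⟨fun x hx y hy => h.ab hx hy, ?_⟩
  let T : Subgroup G :=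
    { carrier := {x | x ∈ (X ⊔ ⨆ j, ⁅N j, K j⁆ : Subgroup G) ∧ x ^ 2 = 1}
      one_mem' := ⟨one_mem _, one_pow 2⟩
      mul_mem' := by
        rintro a b ⟨ha, ha'⟩ ⟨hb, hb'⟩
        have hc : Commute a b := h.ab ha hb
        exact ⟨mul_mem ha hb, by rw [hc.mul_pow, ha', hb', one_mul]⟩
      inv_mem' := by
        rintro a ⟨ha, ha'⟩
        exact ⟨inv_mem ha, by rw [inv_pow, ha', inv_one]⟩ }
  have hT : (X ⊔ ⨆ j, ⁅N j, K j⁆ : Subgroup G) ≤ T := by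
    refine sup_le (fun x hx => ⟨mem_sup_left hx, elem_sq h.tk.elX x hx⟩) (iSup_le fun i x hx => ⟨h.FW i hx, ?_⟩)
    exact elem_sq (h.bk i).pb.el x ((h.bk i).pb.VN hx)
  exact fun x hx => (hT hx).2

/-- `S` normalises `W*`. -/
theorem S_norm [Finite G] [Finite ι] : S ≤ normalizer ((X ⊔ ⨆ j, ⁅N j, K j⁆ : Subgroup G) : Set G) := by
  intro s hs
  refine mem_normalizer_of_cj_le ?_
  rw [cj_le_iff]
  refine sup_le ?_ (iSup_le fun i => ?_)
  · rw [← cj_le_iff, cj_eq_of_mem_normalizer (h.tk.SX hs)]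
    exact le_sup_left
  · rw [← cj_le_iff]
    obtain ⟨j, hj, -, -⟩ := h.tk.perm s hs i
    have k' := (h.bk i).cj h.tk hs hj
    have h1 := (uni' h.tk (h.bk j) k').1
    rw [comm_cjj] at h1
    exact h1.trans (sup_le (h.FW j) le_sup_left)

theorem W_bot (i l : ι) (hil : l ≠ i) : W i ⊓ W l = ⊥ := by
  rw [eq_bot_iff, ← h.tk.fr.dir i]
  exact inf_le_inf_left _ (h.tk.fr.WjC i l (Ne.symm hil))

theorem norm_X {g : G} (hgB : g ∈ normalizer (B0 : Set G)) {x : G} (hx : x ∈ X) : g * x * g⁻¹ ∈ X := by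
  have h3 : ChoiceBase.cj g X = X := by rw [← h.tk.zB, ← zc_cj', cj_eq_of_mem_normalizer hgB]
  rw [← h3]
  exact cj_mem hx

theorem norm_W [Finite G] [Finite ι] {i : ι} {g : G} (hg : g ∈ K i) (hgB : g ∈ normalizer (B0 : Set G)) {x : G}
    (hx : x ∈ W i) : g * x * g⁻¹ ∈ W i := by
  rw [← (h.bk i).inf_X h.tk]
  exact ⟨(mem_normalizer_iff.1 ((h.bk i).pb.LV hg) x).1 ((h.bk i).W_le h.tk hx), h.norm_X hgB (h.tk.WX i hx)⟩

/-- `[F l, B₀] ≤ W l` -/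
theorem quad [Finite G] [Finite ι] (l : ι) {b : G} (hb : b ∈ B0) {v : G} (hv : v ∈ (⁅N l, K l⁆ : Subgroup G)) :
    b * v * b⁻¹ * v⁻¹ ∈ W l := ((h.bk l).n4 h.tk).quad b hb v hv

end TD

/-- One block `i` with a small offender `D0` which moves `[N i, K i]`. -/
structure TD1 {ι : Type} (S B Q V Xn ZJ B0 X M0 Y0 : Subgroup G) (L W Z C A : ι → Subgroup G) (z : G)
    (K N N1 N0 : ι → Subgroup G) (WW H T : Subgroup G) (AA : Set (Subgroup G)) (i : ι) (D0 : Subgroup G) : Prop where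
  td : TD S B Q V Xn ZJ B0 X M0 Y0 L W Z C A z K N N1 N0
  eW : WW = X ⊔ ⨆ j, ⁅N j, K j⁆
  fm : Fm T WW H B0 X AA
  bl : Bl T WW H B0 X AA (K i) ⁅N i, K i⁆
  fr : Fr (⁅N i, K i⁆ : Subgroup G) (DM WW AA) D0

namespace TD1

variable {ι : Type} {S B Q V Xn ZJ B0 X M0 Y0 : Subgroup G} {L W Z C A : ι → Subgroup G} {z : G}
  {K N N1 N0 : ι → Subgroup G} {WW H T : Subgroup G} {AA : Set (Subgroup G)} {i : ι} {D0 : Subgroup G}
  (h : TD1 S B Q V Xn ZJ B0 X M0 Y0 L W Z C A z K N N1 N0 WW H T AA i D0)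

include h

theorem D0B : D0 ≤ B0 := h.fm.le D0 h.fr.1.1

/-- `[WW, D₀] ≤ W i` -/
theorem comm_W [Finite G] [Finite ι] {u a : G} (hu : u ∈ WW) (ha : a ∈ D0) : a * u * a⁻¹ * u⁻¹ ∈ W i := by
  rw [← (h.td.bk i).inf_X h.td.tk]
  exact comm_U h.fm h.bl h.fr hu ha

/-- `R = ⟨D₀^(K i)⟩` -/
def Rg (K : ι → Subgroup G) (i : ι) (D0 : Subgroup G) : Subgroup G := ⨆ x : K i, ChoiceBase.cj (x : G) D0

omit h in
theorem le_Rg {x : G} (hx : x ∈ K i) : ChoiceBase.cj x D0 ≤ Rg K i D0 :=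
  le_iSup (fun x : K i => ChoiceBase.cj (x : G) D0) ⟨x, hx⟩

omit h in
theorem D0_le_Rg : D0 ≤ Rg K i D0 := by
  have h1 := le_Rg (K := K) (i := i) (D0 := D0) (one_mem (K i))
  rwa [cj_one] at h1

theorem Rg_le [Finite G] : Rg K i D0 ≤ K i := by
  refine iSup_le fun x => ?_
  have h1 := cj_mono (x : G) (h.D0B.trans h.bl.BL)
  rwa [cj_eq_of_mem_normalizer (le_normalizer x.2)] at h1

omit h in
theorem Rg_norm [Finite G] : K i ≤ normalizer (Rg K i D0 : Set G) := by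
  have key : ∀ g ∈ K i, ChoiceBase.cj g (Rg K i D0) ≤ Rg K i D0 := by
    intro g hg
    rw [cj_le_iff]
    refine iSup_le fun x => ?_
    rw [← cj_le_iff, cj_cj]
    exact le_Rg (mul_mem hg x.2)
  exact fun g hg => mem_normalizer_of_cj_le (key g hg)

theorem K_le [Finite G] : K i ≤ Rg K i D0 ⊔ B0 :=
  le_of h.fm h.bl h.fr le_sup_right fun _ hx => (le_Rg hx).trans le_sup_left

/-- `[WW, R] ≤ F i` -/
theorem comm_R [Finite G] {g : G} (hg : g ∈ Rg K i D0) {u : G} (hu : u ∈ WW) :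
    g * u * g⁻¹ * u⁻¹ ∈ (⁅N i, K i⁆ : Subgroup G) := by
  let T : Subgroup G :=
    { carrier := {g | g ∈ K i ∧ ∀ u ∈ WW, g * u * g⁻¹ * u⁻¹ ∈ (⁅N i, K i⁆ : Subgroup G)}
      one_mem' := ⟨one_mem _, fun u _ => by simp⟩
      mul_mem' := by
        rintro a b ⟨ha, ha'⟩ ⟨hb, hb'⟩
        refine ⟨mul_mem ha hb, fun u hu => ?_⟩
        have hbu : b * u * b⁻¹ ∈ WW := (mem_normalizer_iff.1 (h.bl.LY hb) u).1 hu
        have e : a * b * u * (a * b)⁻¹ * u⁻¹ = (a * (b * u * b⁻¹) * a⁻¹ * (b * u * b⁻¹)⁻¹) * (b * u * b⁻¹ * u⁻¹) := by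
          group
        rw [e]
        exact mul_mem (ha' _ hbu) (hb' u hu)
      inv_mem' := by
        rintro a ⟨ha, ha'⟩
        refine ⟨inv_mem ha, fun u hu => ?_⟩
        have hau : a⁻¹ * u * a ∈ WW := by
          have := (mem_normalizer_iff.1 (h.bl.LY (inv_mem ha)) u).1 hu
          rwa [inv_inv] at this
        have h1 := inv_mem (ha' _ hau)
        have e : (a * (a⁻¹ * u * a) * a⁻¹ * (a⁻¹ * u * a)⁻¹)⁻¹ = a⁻¹ * u * a⁻¹⁻¹ * u⁻¹ := by group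
        rwa [e] at h1 }
  have hT : Rg K i D0 ≤ T := by
    refine iSup_le fun x => ?_
    rintro _ ⟨a, ha, rfl⟩
    refine ⟨mul_mem (mul_mem x.2 (h.bl.BL (h.D0B ha))) (inv_mem x.2), fun u hu => ?_⟩
    have hu' : (x : G)⁻¹ * u * x ∈ WW := by
      have := (mem_normalizer_iff.1 (h.bl.LY (inv_mem x.2)) u).1 hu
      rwa [inv_inv] at this
    have h1 := (comm_U h.fm h.bl h.fr hu' ha).1
    have h2 := (mem_normalizer_iff.1 (h.bl.LV x.2) _).1 h1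
    have e : (x : G) * (a * ((x : G)⁻¹ * u * x) * a⁻¹ * ((x : G)⁻¹ * u * x)⁻¹) * (x : G)⁻¹ =
        x * a * (x : G)⁻¹ * u * (x * a * (x : G)⁻¹)⁻¹ * u⁻¹ := by group
    rw [e] at h2
    exact h2
  exact (hT hg).2 u hu

/-- an element of `C_B₀(F i) ∩ R` centralises `WW` -/
theorem cen_R [Finite G] [Finite ι] {p : G} (hp : p ∈ cB B0 ⁅N i, K i⁆) (hpR : p ∈ Rg K i D0) :
    p ∈ centralizer (WW : Set G) := by
  have hpB : p ∈ B0 := cB_le _ _ hp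
  have h1 : WW ≤ centralizer ({p} : Set G) := by
    rw [h.eW]
    refine sup_le ?_ (iSup_le fun l => ?_)
    · intro x hx
      exact mem_centralizer_singleton_iff.2 (h.td.tk.cX hpB hx).symm
    · intro u hu
      rw [mem_centralizer_singleton_iff]
      by_cases hl : l = i
      · subst hl
        exact ((mem_cB.1 hp).2 u hu).symm
      · have hu' : u ∈ WW := by rw [h.eW]; exact h.td.FW l hu
        have h2 := h.comm_R hpR hu'
        have h3 := h.td.quad l hpB hu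
        have h4 : p * u * p⁻¹ * u⁻¹ ∈ W i ⊓ W l := by
          refine mem_inf.2 ⟨?_, h3⟩
          rw [← (h.td.bk i).inf_X h.td.tk]
          exact mem_inf.2 ⟨h2, h.td.tk.WX l h3⟩
        rw [h.td.W_bot i l hl, mem_bot, mul_inv_eq_one, mul_inv_eq_iff_eq_mul] at h4
        exact h4.symm
  rw [mem_centralizer_iff]
  intro u hu
  exact mem_centralizer_singleton_iff.1 (h1 hu)

/-- every element of `WW` is `v n`, `v ∈ F i`, `n` centralised by `D₀` and `D₀^x`. -/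
theorem split [Finite G] [Finite ι] {x : G} (hx : x ∈ K i) (hne : ChoiceBase.cj x (W i) ≠ W i) {c : G} (hc : c ∈ WW) :
    ∃ v ∈ (⁅N i, K i⁆ : Subgroup G), ∃ n ∈ WW, (∀ a ∈ D0, a * n = n * a) ∧
      (∀ a ∈ D0, x * a * x⁻¹ * n = n * (x * a * x⁻¹)) ∧ c = v * n := by
  have n4 := (h.td.bk i).n4 h.td.tk
  have m4 := (SigN4.toSig n4).toM4
  obtain ⟨v1, hv1, c1, hc1, hA1, rfl⟩ := full h.fm h.bl h.fr hc
  have hc1' : x⁻¹ * c1 * x ∈ WW := by
    have := (mem_normalizer_iff.1 (h.bl.LY (inv_mem hx)) c1).1 hc1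
    rwa [inv_inv] at this
  obtain ⟨v2, hv2, c2, hc2, hA2, e2⟩ := full h.fm h.bl h.fr hc1'
  have hv2' : x * v2 * x⁻¹ ∈ (⁅N i, K i⁆ : Subgroup G) := (mem_normalizer_iff.1 (h.bl.LV hx) v2).1 hv2
  obtain ⟨p, hp, q, hq, e3⟩ := m4.compl hx hne hv2'
  obtain ⟨w, hw, rfl⟩ := hq
  have hpV : p ∈ (⁅N i, K i⁆ : Subgroup G) := n4.V1V hp
  have e4 : c1 = p * (x * (w * c2) * x⁻¹) := by
    have e5 : c1 = x * (x⁻¹ * c1 * x) * x⁻¹ := by group
    rw [e5, e2]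
    calc x * (v2 * c2) * x⁻¹ = (x * v2 * x⁻¹) * (x * c2 * x⁻¹) := by group
      _ = p * (x * w * x⁻¹) * (x * c2 * x⁻¹) := by rw [e3]; rfl
      _ = _ := by group
  have hwc : w * c2 ∈ WW := mul_mem (h.bl.VY (n4.V1V hw)) hc2
  refine ⟨v1 * p, mul_mem hv1 hpV, x * (w * c2) * x⁻¹, (mem_normalizer_iff.1 (h.bl.LY hx) _).1 hwc, ?_, ?_, ?_⟩
  · intro a ha
    have h1 : x * (w * c2) * x⁻¹ = p⁻¹ * c1 := by rw [e4]; group
    rw [h1]
    have c3 : Commute a p := n4.c1 a (h.D0B ha) p hp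
    have c4 : Commute a c1 := hA1 a ha
    exact (c3.inv_right.mul_right c4).eq
  · intro a ha
    have c3 : Commute a w := n4.c1 a (h.D0B ha) w hw
    have c4 : Commute a c2 := hA2 a ha
    have c5 := (c3.mul_right c4).eq
    calc x * a * x⁻¹ * (x * (w * c2) * x⁻¹) = x * (a * (w * c2)) * x⁻¹ := by group
      _ = x * (w * c2 * a) * x⁻¹ := by rw [c5]
      _ = _ := by group
  · rw [mul_assoc, ← e4]

/-- `R ≤ D₀ ⊔ D₀^x ⊔ C_R(WW)` -/
theorem R_le [Finite G] [Finite ι] {x : G} (hx : x ∈ K i) (hm : SQ1.Bau.Mv (W i) x) :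
    Rg K i D0 ≤ D0 ⊔ ChoiceBase.cj x D0 ⊔ (Rg K i D0 ⊓ centralizer (WW : Set G)) := by
  have n4 := (h.td.bk i).n4 h.td.tk
  set T : Subgroup G := D0 ⊔ ChoiceBase.cj x D0 ⊔ (Rg K i D0 ⊓ centralizer (WW : Set G)) with hT
  have hC : ∀ g ∈ K i, ∀ y ∈ Rg K i D0 ⊓ centralizer (WW : Set G), g * y * g⁻¹ ∈ Rg K i D0 ⊓ centralizer (WW : Set G) := by
    rintro g hg y ⟨hy1, hy2⟩
    refine ⟨(mem_normalizer_iff.1 (Rg_norm hg) y).1 hy1, mem_centralizer_iff.2 fun u hu => ?_⟩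
    have hu' : g⁻¹ * u * g ∈ WW := by
      have := (mem_normalizer_iff.1 (h.bl.LY (inv_mem hg)) u).1 hu
      rwa [inv_inv] at this
    have h1 := mem_centralizer_iff.1 hy2 _ hu'
    calc u * (g * y * g⁻¹) = g * ((g⁻¹ * u * g) * y) * g⁻¹ := by group
      _ = g * (y * (g⁻¹ * u * g)) * g⁻¹ := by rw [h1]
      _ = _ := by group
  -- `[D₀, p] ≤ C_R(WW)`
  have hDp : ∀ p ∈ cB B0 (⁅N i, K i⁆ : Subgroup G), ∀ a ∈ D0, p * a * p⁻¹ * a⁻¹ ∈
      Rg K i D0 ⊓ centralizer (WW : Set G) := by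
    intro p hp a ha
    have hpK : p ∈ K i := h.bl.BL (cB_le _ _ hp)
    have haK : a ∈ K i := h.bl.BL (h.D0B ha)
    have h1 : p * a * p⁻¹ * a⁻¹ ∈ Rg K i D0 :=
      mul_mem ((mem_normalizer_iff.1 (Rg_norm hpK) a).1 (D0_le_Rg ha)) (inv_mem (D0_le_Rg ha))
    refine mem_inf.2 ⟨h1, h.cen_R ?_ h1⟩
    have h2 := (mem_normalizer_iff.1 (h.bl.LP haK) _).1 (inv_mem hp)
    have h3 := mul_mem hp h2
    have e : p * (a * p⁻¹ * a⁻¹) = p * a * p⁻¹ * a⁻¹ := by group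
    rwa [e] at h3
  have hpT : ∀ p ∈ cB B0 (⁅N i, K i⁆ : Subgroup G), p ∈ normalizer (T : Set G) := by
    intro p hp
    have hpK : p ∈ K i := h.bl.BL (cB_le _ _ hp)
    refine mem_normalizer_of_cj_le ?_
    rw [cj_le_iff, hT]
    refine sup_le (sup_le ?_ ?_) ?_
    · rw [← cj_le_iff]
      rintro _ ⟨a, ha, rfl⟩
      change p * a * p⁻¹ ∈ _
      have e : p * a * p⁻¹ = p * a * p⁻¹ * a⁻¹ * a := by group
      rw [e]
      exact mul_mem (mem_sup_right (hDp p hp a ha)) (mem_sup_left (mem_sup_left ha))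
    · rw [← cj_le_iff]
      rintro _ ⟨_, ⟨a, ha, rfl⟩, rfl⟩
      change p * (x * a * x⁻¹) * p⁻¹ ∈ _
      have hp' : x⁻¹ * p * x ∈ cB B0 (⁅N i, K i⁆ : Subgroup G) := by
        have := (mem_normalizer_iff.1 (h.bl.LP (inv_mem hx)) p).1 hp
        rwa [inv_inv] at this
      have h1 := hC x hx _ (hDp _ hp' a ha)
      have e : p * (x * a * x⁻¹) * p⁻¹ =
          x * (x⁻¹ * p * x * a * (x⁻¹ * p * x)⁻¹ * a⁻¹) * x⁻¹ * (x * a * x⁻¹) := by group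
      rw [e]
      exact mul_mem (mem_sup_right h1) (mem_sup_left (mem_sup_right (cj_mem ha)))
    · rw [← cj_le_iff]
      rintro _ ⟨y, hy, rfl⟩
      exact mem_sup_right (hC p hpK y hy)
  have hKT : K i ≤ normalizer (T : Set G) := by
    refine n4.gen x hx hm _ ?_ ?_
    · intro b hb
      obtain ⟨a, ha, p, hp, rfl⟩ := dec h.fm h.bl h.fr hb
      exact mul_mem (le_normalizer (mem_sup_left (mem_sup_left ha))) (hpT p hp)
    · intro b hb
      obtain ⟨a, ha, p, hp, rfl⟩ := dec h.fm h.bl h.fr hb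
      have e : x * (a * p) * x⁻¹ = (x * a * x⁻¹) * (x * p * x⁻¹) := by group
      rw [e]
      refine mul_mem (le_normalizer (mem_sup_left (mem_sup_right (cj_mem ha)))) (hpT _ ?_)
      exact (mem_normalizer_iff.1 (h.bl.LP hx) p).1 hp
  refine iSup_le fun g => ?_
  rintro _ ⟨a, ha, rfl⟩
  exact (mem_normalizer_iff.1 (hKT g.2) a).1 (mem_sup_left (mem_sup_left ha))

/-- `WW = F i C_WW(R)` -/
theorem split' [Finite G] [Finite ι] {c : G} (hc : c ∈ WW) :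
    ∃ v ∈ (⁅N i, K i⁆ : Subgroup G), ∃ n ∈ WW, (∀ r ∈ Rg K i D0, r * n = n * r) ∧ c = v * n := by
  have n4 := (h.td.bk i).n4 h.td.tk
  obtain ⟨x, hx, hm⟩ := n4.mv
  have hne : ChoiceBase.cj x (W i) ≠ W i := by
    obtain ⟨v, hv, hv'⟩ := hm
    intro e
    apply hv'
    have : x * v * x⁻¹ ∈ ChoiceBase.cj x (W i) := cj_mem hv
    rwa [e] at this
  obtain ⟨v, hv, n, hn, h1, h2, e⟩ := h.split hx hne hc
  refine ⟨v, hv, n, hn, fun r hr => ?_, e⟩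
  have h3 : D0 ⊔ ChoiceBase.cj x D0 ⊔ (Rg K i D0 ⊓ centralizer (WW : Set G)) ≤ centralizer ({n} : Set G) := by
    refine sup_le (sup_le (fun a ha => mem_centralizer_singleton_iff.2 (h1 a ha)) ?_) ?_
    · intro y hy
      obtain ⟨a, ha, rfl⟩ := ex_cj hy
      exact mem_centralizer_singleton_iff.2 (h2 a ha)
    · rintro y ⟨-, hy⟩
      exact mem_centralizer_singleton_iff.2 (mem_centralizer_iff.1 hy n hn).symm
  exact mem_centralizer_singleton_iff.1 (h3 (h.R_le hx hm hr))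

/-- a torus element in `R` -/
theorem tor' [Finite G] [Finite ι] : ∃ t ∈ Rg K i D0, t ∈ normalizer (B0 : Set G) ∧
    ∀ w ∈ W i, t * w * t⁻¹ = w → w = 1 := by
  obtain ⟨g, hg, hgB, -, hf⟩ := (h.td.bk i).tor
  have hB : B0 ≤ normalizer (Rg K i D0 : Set G) := h.bl.BL.trans Rg_norm
  obtain ⟨r, hr, b, hb, rfl⟩ := mem_sup_nrm hB (h.K_le hg)
  refine ⟨r, hr, ?_, fun w hw e => hf w hw ?_⟩
  · have h1 := mul_mem hgB (inv_mem (le_normalizer hb))
    rwa [mul_inv_cancel_right] at h1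
  · have h2 := h.td.tk.cX hb (h.td.tk.WX i hw)
    calc r * b * w * (r * b)⁻¹ = r * (b * w) * b⁻¹ * r⁻¹ := by group
      _ = r * (w * b) * b⁻¹ * r⁻¹ := by rw [h2]
      _ = r * w * r⁻¹ := by group
      _ = w := e

/-- **The shift**: `w = v n`, `w ∈ F l`, `1 ≠ v ∈ W i`, `n` centralised by `R`: impossible. -/
theorem no_v [Finite G] [Finite ι] {l : ι} (hl : l ≠ i) {w v n : G} (hw : w ∈ (⁅N l, K l⁆ : Subgroup G)) (hw1 : w ≠ 1)
    (hv : v ∈ W i) (hn : ∀ r ∈ Rg K i D0, r * n = n * r) (e : w = v * n) : v = 1 := by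
  by_contra hv1
  have tk := h.td.tk
  obtain ⟨t, ht, htB, htf⟩ := h.tor'
  have htK : t ∈ K i := h.Rg_le ht
  -- `t w t⁻¹ = u w`
  set u : G := t * v * t⁻¹ * v⁻¹ with hu
  have hvt : t * v * t⁻¹ ∈ W i := h.td.norm_W htK htB hv
  have huW : u ∈ W i := mul_mem hvt (inv_mem hv)
  have hu1 : u ≠ 1 := fun h0 => hv1 (htf v hv (mul_inv_eq_one.1 h0))
  have htw : t * w * t⁻¹ = u * w := by
    have h1 := hn t ht
    rw [e, hu]
    calc t * (v * n) * t⁻¹ = t * v * (t⁻¹ * (t * n)) * t⁻¹ := by group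
      _ = t * v * (t⁻¹ * (n * t)) * t⁻¹ := by rw [h1]
      _ = _ := by group
  -- `e w e⁻¹ = y`
  obtain ⟨y, hy, hy1⟩ := tk.exists_Z l
  have hyW : y ∈ W l := tk.ZW l hy
  obtain ⟨g, hg, hgw⟩ := transK ((h.td.bk l).n4 tk) hw hw1 hyW hy1
  have hgWi : ∀ x ∈ W i, g * x = x * g := fun x hx => (h.td.bk l).cW i (Ne.symm hl) x hx g hg
  have htWl : ∀ p, p ≠ i → ∀ x ∈ W p, t * x = x * t := fun p hp x hx => (h.td.bk i).cW p hp x hx t htK
  -- `d = t⁻¹ g t g⁻¹`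
  set d : G := t⁻¹ * g * t * g⁻¹ with hd
  set κ : G := t⁻¹ * u * t with hκ
  have htB' : t⁻¹ ∈ normalizer (B0 : Set G) := inv_mem htB
  have hκW : κ ∈ W i := by
    have h1 := h.td.norm_W (inv_mem htK) htB' huW
    rwa [inv_inv] at h1
  have hκ1 : κ ≠ 1 := fun h0 => hu1 (by
    have : u = t * κ * t⁻¹ := by rw [hκ]; group
    rw [this, h0]; group)
  have hdy : d * y * d⁻¹ = κ * y := by
    have e1 : g⁻¹ * y * g = w := by rw [← hgw]; group
    have e2 : g * (u * w) * g⁻¹ = u * y := by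
      calc g * (u * w) * g⁻¹ = (g * u) * w * g⁻¹ := by group
        _ = (u * g) * w * g⁻¹ := by rw [hgWi u huW]
        _ = u * (g * w * g⁻¹) := by group
        _ = u * y := by rw [hgw]
    have e3 : t⁻¹ * y * t = y := by rw [mul_assoc, ← htWl l hl y hyW]; group
    calc d * y * d⁻¹ = t⁻¹ * (g * (t * (g⁻¹ * y * g) * t⁻¹) * g⁻¹) * t := by rw [hd]; group
      _ = t⁻¹ * (g * (u * w) * g⁻¹) * t := by rw [e1, htw]
      _ = t⁻¹ * (u * y) * t := by rw [e2]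
      _ = (t⁻¹ * u * t) * (t⁻¹ * y * t) := by group
      _ = κ * y := by rw [e3]
  have hdc : ∀ p, p ≠ l → ∀ x ∈ W p, d * x = x * d := by
    intro p hp x hx
    have hgx : g * x = x * g := (h.td.bk l).cW p hp x hx g hg
    have h1 : g * (t * x * t⁻¹) = (t * x * t⁻¹) * g := by
      by_cases hpi : p = i
      · subst hpi
        exact hgWi _ (h.td.norm_W htK htB hx)
      · rw [htWl p hpi x hx, mul_inv_cancel_right, hgx]
    calc d * x = t⁻¹ * g * t * (g⁻¹ * (x * g)) * g⁻¹ := by rw [hd]; group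
      _ = t⁻¹ * g * t * (g⁻¹ * (g * x)) * g⁻¹ := by rw [hgx]
      _ = t⁻¹ * (g * (t * x * t⁻¹)) * t * g⁻¹ := by group
      _ = t⁻¹ * ((t * x * t⁻¹) * g) * t * g⁻¹ := by rw [h1]
      _ = x * d := by rw [hd]; group
  -- conjugate `κ` into `Z i`
  obtain ⟨yi, hyi, hyi1⟩ := tk.exists_Z i
  obtain ⟨r, hr, hrB, hrκ⟩ := ((h.td.bk i).n4 tk).tor κ hκW hκ1 yi (tk.ZW i hyi) hyi1
  set g2 : G := r * d * r⁻¹ with hg2
  have hrW : ∀ p, p ≠ i → ∀ x ∈ W p, r * x = x * r := fun p hp x hx => (h.td.bk i).cW p hp x hx r hr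
  have hg2y : g2 * y * g2⁻¹ = yi * y := by
    have e1 : r⁻¹ * y * r = y := by rw [mul_assoc, ← hrW l hl y hyW]; group
    have e2 : r * y * r⁻¹ = y := by rw [hrW l hl y hyW]; group
    calc g2 * y * g2⁻¹ = r * (d * (r⁻¹ * y * r) * d⁻¹) * r⁻¹ := by rw [hg2]; group
      _ = r * (κ * y) * r⁻¹ := by rw [e1, hdy]
      _ = (r * κ * r⁻¹) * (r * y * r⁻¹) := by group
      _ = yi * y := by rw [hrκ, e2]
  have hg2c : ∀ p, p ≠ l → ∀ x ∈ W p, g2 * x = x * g2 := by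
    intro p hp x hx
    have h1 : r⁻¹ * x * r ∈ W p := by
      by_cases hpi : p = i
      · subst hpi
        have h2 := h.td.norm_W (inv_mem hr) (inv_mem hrB) hx
        rwa [inv_inv] at h2
      · rw [mul_assoc, ← hrW p hpi x hx, inv_mul_cancel_left]
        exact hx
    have h2 := hdc p hp _ h1
    calc g2 * x = r * (d * (r⁻¹ * x * r)) * r⁻¹ := by rw [hg2]; group
      _ = r * (r⁻¹ * x * r * d) * r⁻¹ := by rw [h2]
      _ = x * g2 := by rw [hg2]; group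
  -- `z ↦ z yi`
  obtain ⟨w0, hw0, c, hc, hcJ, ez⟩ := tk.fr.split_ZJ l tk.zJ
  have hw01 : w0 ≠ 1 := fun h0 => tk.zC l (by rw [ez, h0, one_mul]; exact hc)
  have e0 : w0 = y := tk.Z_two l hw0 hy hw01 hy1
  have hcc : g2 * c = c * g2 := by
    have h1 : c ∈ centralizer ({g2} : Set G) :=
      tk.mem_of_C (l := l) (fun p hp x hx => mem_centralizer_singleton_iff.2 (hg2c p hp x (tk.ZW p hx)).symm) hcJ hc
    exact (mem_centralizer_singleton_iff.1 h1).symm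
  have hyiJ : yi ∈ ZJ := tk.fr.Z_le i hyi
  have h1 : g2 * z * g2⁻¹ = z * yi := by
    have hzc : yi * y * c = y * c * yi := by
      have c1 : Commute yi y := tk.Xc (tk.ZX i hyi) (tk.ZX l hy)
      have c2 : Commute yi c := tk.Xc (tk.ZX i hyi) (tk.ZJX hcJ)
      rw [mul_assoc]
      exact (c1.mul_right c2).eq
    rw [ez, e0]
    calc g2 * (y * c) * g2⁻¹ = (g2 * y * g2⁻¹) * ((g2 * c) * g2⁻¹) := by group
      _ = (yi * y) * ((c * g2) * g2⁻¹) := by rw [hg2y, hcc]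
      _ = yi * y * c := by group
      _ = y * c * yi := hzc
  exact hyi1 (tk.no_shift tk.zJ tk.zC hyiJ h1)

/-- **(theta) for one block.** -/
theorem cen_F [Finite G] [Finite ι] {l : ι} (hl : l ≠ i) :
    Rg K i D0 ≤ centralizer ((⁅N l, K l⁆ : Subgroup G) : Set G) := by
  have tk := h.td.tk
  have n4 := (h.td.bk i).n4 tk
  rw [le_centralizer_iff]
  intro w hw
  have hwW : w ∈ WW := by rw [h.eW]; exact h.td.FW l hw
  obtain ⟨v, hv, n, hnW, hn, e⟩ := h.split' hwW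
  -- `D₀` centralises `w`
  have hDw : ∀ a ∈ D0, a * w = w * a := by
    intro a ha
    have h1 : a * w * a⁻¹ * w⁻¹ ∈ W i ⊓ W l := ⟨h.comm_W hwW ha, h.td.quad l (h.D0B ha) hw⟩
    rwa [h.td.W_bot i l hl, mem_bot, mul_inv_eq_one, mul_inv_eq_iff_eq_mul] at h1
  have hDv : ∀ a ∈ D0, a * v = v * a := by
    intro a ha
    have ev : v = w * n⁻¹ := by rw [e]; group
    have c1 : Commute a w := hDw a ha
    have c2 : Commute a n := hn a (D0_le_Rg ha)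
    rw [ev]
    exact (c1.mul_right c2.inv_right).eq
  obtain ⟨a, ha, hna⟩ := SetLike.not_le_iff_exists.1 h.fr.2
  have hna' : ∃ v ∈ (⁅N i, K i⁆ : Subgroup G), a * v ≠ v * a := by
    by_contra hcon
    push Not at hcon
    exact hna (mem_centralizer_iff.2 fun v hv => (hcon v hv).symm)
  have hvW : v ∈ W i := n4.cent a (h.D0B ha) hna' v hv (hDv a ha)
  have hv1 : v = 1 := by
    by_contra hv1
    have hw1 : w ≠ 1 := by
      rintro rfl
      have h2 : v = n⁻¹ := eq_inv_of_mul_eq_one_left e.symm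
      obtain ⟨t, ht, -, htf⟩ := h.tor'
      refine hv1 (htf v hvW ?_)
      have c2 : Commute t n := hn t ht
      have c3 := c2.inv_right.eq
      rw [← h2] at c3
      rw [c3, mul_inv_cancel_right]
    exact hv1 (h.no_v hl hw hw1 hvW hn e)
  rw [mem_centralizer_iff]
  intro r hr
  rw [e, hv1, one_mul]
  exact hn r hr

end TD1

namespace TD

variable {ι : Type} {S B Q V Xn ZJ B0 X M0 Y0 : Subgroup G} {L W Z C A : ι → Subgroup G} {z : G}
  {K N N1 N0 : ι → Subgroup G} (h : TD S B Q V Xn ZJ B0 X M0 Y0 L W Z C A z K N N1 N0)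

include h

/-- the family on `W*` and a small offender which moves `F m` -/
theorem exists_TD1 [Finite G] [Finite ι] (m : ι) : ∃ (H T : Subgroup G) (AA : Set (Subgroup G)) (D0 : Subgroup G),
    TD1 S B Q V Xn ZJ B0 X M0 Y0 L W Z C A z K N N1 N0 (X ⊔ ⨆ j, ⁅N j, K j⁆) H T AA m D0 := by
  set WW : Subgroup G := X ⊔ ⨆ j, ⁅N j, K j⁆ with hWW
  obtain ⟨T, AA, f⟩ := h.tk.fml WW (normalizer (WW : Set G) ⊓ M0) h.el h.WB0 h.WY0 inf_le_left inf_le_right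
  have hX : WW ⊓ X = X := inf_eq_right.2 (by rw [hWW]; exact le_sup_left)
  have hbl : ∀ i, Bl T WW (normalizer (WW : Set G) ⊓ M0) B0 X AA (K i) ⁅N i, K i⁆ := by
    intro i
    have h1 := (h.bk i).bl h.tk f (h.FW i) (h.loc i) (le_inf (h.loc i) (h.bk i).KM)
    rwa [hX] at h1
  rw [hX] at f
  -- a smallest member
  obtain ⟨A1, hA1, hA1'⟩ := (hbl m).off
  have hn : ¬ A1 ≤ centralizer (WW : Set G) := fun h' => hA1' (le_inf (f.le A1 hA1)
    (h'.trans (centralizer_le (h.FW m))))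
  obtain ⟨A0, hA0⟩ : ∃ A0, A0 ∈ DM WW AA := by
    have h1 : ∃ n, ∃ A ∈ AA, ¬ A ≤ centralizer (WW : Set G) ∧ (centralizer (WW : Set G)).relIndex A = n :=
      ⟨_, A1, hA1, hn, rfl⟩
    classical
    obtain ⟨A, hA, hA', hn⟩ := Nat.find_spec h1
    refine ⟨A, hA, hA', fun B hB hB' => ?_⟩
    rw [hn]
    exact Nat.find_min' h1 ⟨B, hB, hB', rfl⟩
  -- it moves some `F l`
  obtain ⟨l, hl⟩ : ∃ l, ¬ A0 ≤ centralizer ((⁅N l, K l⁆ : Subgroup G) : Set G) := by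
    by_contra hcon
    push Not at hcon
    apply hA0.2.1
    rw [le_centralizer_iff, hWW]
    refine sup_le ?_ (iSup_le fun i => le_centralizer_iff.1 (hcon i))
    exact fun x hx => mem_centralizer_iff.2 fun a ha => h.tk.cX (f.le A0 hA0.1 ha) hx
  -- conjugate into `m`
  obtain ⟨s, hs, hsW⟩ := h.tk.tr l m
  have hsN : s ∈ normalizer (WW : Set G) := h.S_norm hs
  have hA0' : cj s A0 ∈ AA := f.conj A0 hA0.1 s (mem_inf.2 ⟨hsN, h.tk.SM hs⟩)
    ((cj_mono s (f.le A0 hA0.1)).trans ((cj_eq_of_mem_normalizer (h.tk.SB0 hs)).le.trans f.BS))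
  have hD := DM_conj hA0 hsN hA0'
  refine ⟨_, T, AA, cj s A0, h, rfl, f, hbl m, hD, fun hc => hl ?_⟩
  have k' := (h.bk l).cj h.tk hs hsW
  have h1 := (uni' h.tk (h.bk m) k').1
  rw [comm_cjj] at h1
  have h2 : cj s A0 ≤ centralizer ((cj s ⁅N l, K l⁆ : Subgroup G) : Set G) := by
    rw [le_centralizer_iff]
    refine h1.trans (sup_le (le_centralizer_iff.1 hc) ?_)
    exact fun x hx => mem_centralizer_iff.2 fun a ha => h.tk.cX (f.le _ hA0' ha) hx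
  rw [← cj_centralizer] at h2
  exact Cfsg.Agent.Omega.NO3S.ThmB.cj_le_cj_iff.1 h2

/-- **(theta)** -/
theorem theta [Finite G] [Finite ι] (m : ι) : ∃ R ≤ K m, K m ≤ normalizer (R : Set G) ∧ K m ≤ R ⊔ B0 ∧
    ∀ l, l ≠ m → R ≤ centralizer ((⁅N l, K l⁆ : Subgroup G) : Set G) := by
  obtain ⟨H, T, AA, D0, t⟩ := h.exists_TD1 m
  exact ⟨TD1.Rg K m D0, t.Rg_le, TD1.Rg_norm, t.K_le, fun l hl => t.cen_F hl⟩

end TD

end Cfsg.Agent.Omega.OM.Lev.Low.TorusV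

end

-- merged: Cfsg.Agent.Mrg.Omega.OM.SwapV.Torus.End
section

/-!
# TORUS over an abstract module (box R): the last page over one orbit of the Sylow group

`S` = the group `M` of the frame (transitive on the lines), `T ≤ S` a 2-group `≥ B` (the Sylow group of `G`), `P` one
`T`-orbit on the lines, `x ∈ Z_J` with support `P`; `fact` for `x`.

* `exists_supp` : an element with a given support;
* `false_orb` : **contradiction** for one torus block.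
-/

set_option autoImplicit false
set_option linter.unusedSectionVars false
set_option linter.unusedVariables false

namespace Cfsg.Agent.Omega.OM.Lev.Low.TorusV

open Subgroup Cfsg Cfsg.Agent.ZN Cfsg.Agent.ZN.ChoiceBase Cfsg.Agent.Omega.OM.Lev.Low.TorusK
open Cfsg.Agent.Omega.OM.Lev.Low.TorusK.PBC
open scoped commutatorElement

universe u

variable {G : Type u} [Group G]

variable {ι : Type} {S B Q V Xn ZJ B0 X M0 Y0 : Subgroup G} {L W Z C A : ι → Subgroup G} {z : G}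

theorem W_inj (h : TK S B Q V Xn ZJ B0 X M0 Y0 L W Z C A z) {i j : ι} (e : W i = W j) : i = j := by
  by_contra hne
  have h2 := h.fr.WjC i j hne
  rw [← e] at h2
  have h3 : W i ≤ W i ⊓ C i := le_inf le_rfl h2
  rw [h.fr.dir i] at h3
  have h4 := h.cardW i
  rw [eq_bot_iff.2 h3, Subgroup.card_bot] at h4
  omega

theorem not_mem_C (h : TK S B Q V Xn ZJ B0 X M0 Y0 L W Z C A z) {i : ι} {x : G} (hx : x ∈ Z i) (h1 : x ≠ 1) :
    x ∉ C i := by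
  intro hc
  have h2 : x ∈ W i ⊓ C i := mem_inf.2 ⟨h.ZW i hx, hc⟩
  rw [h.fr.dir i, mem_bot] at h2
  exact h1 h2

/-- **An element of `Z_J` with support `P`.** -/
theorem exists_supp [Finite ι] (h : TK S B Q V Xn ZJ B0 X M0 Y0 L W Z C A z) (P : ι → Prop) :
    ∃ x ∈ ZJ, x ∈ (⨆ (i) (_ : P i), W i) ∧ ∀ i, x ∉ C i ↔ P i := by
  classical
  have : Fintype ι := Fintype.ofFinite ι
  have key : ∀ s : Finset ι, (∀ i ∈ s, P i) → ∃ x ∈ ZJ, x ∈ (⨆ (i) (_ : P i), W i) ∧ ∀ i, x ∉ C i ↔ i ∈ s := by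
    intro s
    induction s using Finset.induction_on with
    | empty =>
      intro _
      exact ⟨1, one_mem _, one_mem _, fun i => ⟨fun h' => absurd (one_mem _) h', fun h' => absurd h' (Finset.notMem_empty i)⟩⟩
    | insert a s ha ih =>
      intro hs
      obtain ⟨x, hx, hxW, hxs⟩ := ih fun i hi => hs i (Finset.mem_insert_of_mem hi)
      obtain ⟨y, hy, hy1⟩ := h.exists_Z a
      have hPa := hs a (Finset.mem_insert_self a s)
      have hyW : y ∈ (⨆ (i) (_ : P i), W i) := (le_iSup₂ (f := fun (i : ι) (_ : P i) => W i) a hPa) (h.ZW a hy)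
      refine ⟨y * x, mul_mem (h.fr.Z_le a hy) hx, mul_mem hyW hxW, fun i => ?_⟩
      by_cases hi : i = a
      · subst hi
        have hxC : x ∈ C i := by
          by_contra hc
          exact ha ((hxs i).1 hc)
        constructor
        · intro _
          exact Finset.mem_insert_self i s
        · intro _ hc
          have h1 := mul_mem hc (inv_mem hxC)
          rw [mul_inv_cancel_right] at h1
          exact not_mem_C h hy hy1 h1
      · have hyC : y ∈ C i := h.fr.WjC i a hi (h.ZW a hy)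
        have h1 : y * x ∈ C i ↔ x ∈ C i := by
          constructor
          · intro hc
            have h2 := mul_mem (inv_mem hyC) hc
            rwa [inv_mul_cancel_left] at h2
          · intro hc
            exact mul_mem hyC hc
        rw [h1, hxs i, Finset.mem_insert]
        exact ⟨fun h2 => Or.inr h2, fun h2 => h2.resolve_left hi⟩
  obtain ⟨x, hx, hxW, hxs⟩ := key (Finset.univ.filter P) fun i hi => (Finset.mem_filter.1 hi).2
  exact ⟨x, hx, hxW, fun i => by rw [hxs i]; simp⟩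

/-- An element of `Z_J` is determined by its support. -/
theorem eq_of_supp (h : TK S B Q V Xn ZJ B0 X M0 Y0 L W Z C A z) {x y : G} (hx : x ∈ ZJ) (hy : y ∈ ZJ)
    (hs : ∀ i, x ∈ C i ↔ y ∈ C i) : x = y := by
  have hxV := h.fr.ZJV hx
  have hyV := h.fr.ZJV hy
  have h1 : x * y⁻¹ = 1 := by
    refine h.fr.C0 _ (mul_mem hxV (inv_mem hyV)) fun i => ?_
    by_cases hxi : x ∈ C i
    · exact mul_mem hxi (inv_mem ((hs i).1 hxi))
    have hyi : y ∉ C i := fun hc => hxi ((hs i).2 hc)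
    obtain ⟨w, hw, c, hc, -, e⟩ := h.fr.split_ZJ i hx
    obtain ⟨w', hw', c', hc', -, e'⟩ := h.fr.split_ZJ i hy
    have hw1 : w ≠ 1 := by
      rintro rfl
      exact hxi (by rw [e, one_mul]; exact hc)
    have hw1' : w' ≠ 1 := by
      rintro rfl
      exact hyi (by rw [e', one_mul]; exact hc')
    have e1 : w = w' := h.Z_two i hw hw' hw1 hw1'
    rw [e, e', ← e1]
    have e2 : w * c * (w * c')⁻¹ = c * c'⁻¹ := by
      have c1 : Commute w c := h.fr.Vc (h.fr.ZV i hw) (h.fr.CV i hc)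
      have c2 : Commute w c'⁻¹ := h.fr.Vc (h.fr.ZV i hw) (inv_mem (h.fr.CV i hc'))
      calc w * c * (w * c')⁻¹ = c * w * (w * c')⁻¹ := by rw [c1.eq]
        _ = c * (w * c'⁻¹) * w⁻¹ := by group
        _ = c * (c'⁻¹ * w) * w⁻¹ := by rw [c2.eq]
        _ = c * c'⁻¹ := by group
    rw [e2]
    exact mul_mem hc (inv_mem hc')
  exact mul_inv_eq_one.1 h1

/-- `s ∈ S` which preserves the support of `x` centralises `x`. -/
theorem cent_of_supp (h : TK S B Q V Xn ZJ B0 X M0 Y0 L W Z C A z) {x : G} (hx : x ∈ ZJ) {P : ι → Prop}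
    (hP : ∀ i, x ∉ C i ↔ P i) {s : G} (hs : s ∈ S) (hZ : s * x * s⁻¹ ∈ ZJ)
    (hsP : ∀ i j, cj s (W i) = W j → (P i ↔ P j)) : s * x = x * s := by
  have h1 : s * x * s⁻¹ = x := by
    refine eq_of_supp h hZ hx fun j => ?_
    obtain ⟨i, e1, -, e3⟩ := h.perm s⁻¹ (inv_mem hs) j
    have e1' : cj s (W i) = W j := by rw [← e1, cj_cj, mul_inv_cancel, cj_one]
    have e4 : s * x * s⁻¹ ∈ C j ↔ x ∈ C i := by
      rw [← e3, mem_cj']
      simp [mul_assoc]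
    rw [e4]
    have h2 := hP i
    have h3 := hP j
    have h4 := hsP i j e1'
    tauto
  exact mul_inv_eq_iff_eq_mul.1 h1

/-- `z_l`: the elements of `S` which normalise `W l` centralise `Z l`. -/
theorem fx (h : TK S B Q V Xn ZJ B0 X M0 Y0 L W Z C A z) (i0 : ι) :
    ∃ x ∈ W i0, x ≠ 1 ∧ ∀ s ∈ S, s ∈ normalizer (W i0 : Set G) → s * x = x * s := by
  obtain ⟨x, hx, hx1⟩ := h.exists_Z i0
  refine ⟨x, h.ZW i0 hx, hx1, fun s hs hsW => ?_⟩
  obtain ⟨j, e1, e2, -⟩ := h.perm s hs i0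
  rw [mem_normalizer_iff_cj.1 hsW] at e1
  have e3 := W_inj h e1
  rw [← e3] at e2
  have h3 : s * x * s⁻¹ ∈ Z i0 := by
    have : s * x * s⁻¹ ∈ cj s (Z i0) := ⟨x, hx, rfl⟩
    rwa [e2] at this
  have h4 : s * x * s⁻¹ ≠ 1 := by
    intro e
    apply hx1
    calc x = s⁻¹ * (s * x * s⁻¹) * s := by group
      _ = 1 := by rw [e]; group
  exact mul_inv_eq_iff_eq_mul.1 (h.Z_two i0 h3 hx h4 hx1)

theorem B_norm_W [Finite G] (h : TK S B Q V Xn ZJ B0 X M0 Y0 L W Z C A z) (i0 : ι) : B ≤ normalizer (W i0 : Set G) := by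
  intro b hb
  refine mem_normalizer_of_cj_le ?_
  rintro _ ⟨w, hw, rfl⟩
  exact (h.fr.blk i0).nV b ((h.fr.blk i0).BL hb) w hw

theorem S_norm_ZJ [Finite G] (h : TK S B Q V Xn ZJ B0 X M0 Y0 L W Z C A z) {s : G} (hs : s ∈ S) {x : G} (hx : x ∈ ZJ) :
    s * x * s⁻¹ ∈ ZJ := by
  have h3 : ChoiceBase.cj s ZJ = ZJ := by
    rw [← h.fr.zcB, ← zc_cj', cj_eq_of_mem_normalizer (h.SB hs)]
  rw [← h3]
  exact ⟨x, hx, rfl⟩

theorem syl_of [Finite G] (h : TK S B Q V Xn ZJ B0 X M0 Y0 L W Z C A z) {i0 : ι} {K N N1 N0 : Subgroup G}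
    (k : BK B B0 X M0 Y0 W i0 K N N1 N0) : ∀ s ∈ S, s ∈ normalizer (W i0 : Set G) → ∀ T : Subgroup G, IsPGroup 2 T →
      B ≤ T → T ≤ K ⊔ cj s K ⊔ B → T ≤ B := by
  intro s hs hsW T hT hBT hle
  refine h.syl i0 T hT hBT fun p hp => hle.trans ?_
  have k' := BK.cj h k hs (mem_normalizer_iff_cj.1 hsW)
  refine sup_le (sup_le ?_ ?_) ?_
  · exact fun x hx => mem_centralizer_iff.2 fun w hw => (k.cW p hp w (h.ZW p hw) x hx).symm
  · exact fun x hx => mem_centralizer_iff.2 fun w hw => (k'.cW p hp w (h.ZW p hw) x hx).symm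
  · exact fun x hx => mem_centralizer_iff.2 fun w hw => (((h.fr.mem_ZJ w).1 (h.fr.Z_le p hw)).2 x hx).symm

/-- **The last page over one orbit of the 2-group `T`.** -/
theorem false_orb [Finite G] [Finite ι] (h : TK S B Q V Xn ZJ B0 X M0 Y0 L W Z C A z) {T : Subgroup G}
    (hT : IsPGroup 2 T) (hBT : B ≤ T) (hTS : T ≤ S) {l : ι} {K N N1 N0 : Subgroup G}
    (k : BK B B0 X M0 Y0 W l K N N1 N0) (a : NA B K N)
    (fact : ∀ x ∈ ZJ, x ≠ 1 → (∀ s ∈ T, s * x = x * s) → ∀ H : Subgroup G, T ≤ H →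
      (∃ U : Subgroup G, U ≠ ⊥ ∧ IsPGroup 2 U ∧ H ≤ normalizer (U : Set G)) →
        H ≤ (H ⊓ normalizer (X : Set G)) ⊔ (H ⊓ centralizer ({x} : Set G))) : False := by
  classical
  set P : ι → Prop := fun i => ∃ s ∈ T, cj s (W l) = W i with hP
  have hPl : P l := ⟨1, one_mem _, cj_one _⟩
  have hsP : ∀ s ∈ T, ∀ i j, cj s (W i) = W j → (P i ↔ P j) := by
    intro s hs i j e
    constructor
    · rintro ⟨t, ht, e'⟩
      exact ⟨s * t, mul_mem hs ht, by rw [← cj_cj, e', e]⟩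
    · rintro ⟨t, ht, e'⟩
      exact ⟨s⁻¹ * t, mul_mem (inv_mem hs) ht, by rw [← cj_cj, e', ← e, cj_inv_cj]⟩
  obtain ⟨K', N', N1', N0', f⟩ := exists_fam h k a hTS (P := P) (fun i hi => hi)
  obtain ⟨x, hx, hxW, hxP⟩ := exists_supp h P
  have hx1 : x ≠ 1 := by
    rintro rfl
    exact (hxP l).2 hPl (one_mem _)
  have hxc : ∀ s ∈ T, s * x = x * s := fun s hs =>
    cent_of_supp h hx hxP (hTS hs) (S_norm_ZJ h (hTS hs) hx) (hsP s hs)
  have td : TD S B Q V Xn ZJ B0 X M0 Y0 L W Z C A z K' N' N1' N0' :=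
    { tk := h
      bk := f.bk
      loc := Loc.fam_norm h f.bk
      comm := fun i j _ u hu v hv => Loc.fam_comm h f.bk i j hu hv }
  choose R hRK hKR hKRB hRF using td.theta
  have D : TorusK.EndD.Dt T B B0 X (fun m : {i // P i} => K' m.1) (fun m : {i // P i} => ⁅N' m.1, K' m.1⁆)
      (fun m : {i // P i} => W m.1) (fun m : {i // P i} => R m.1) ⟨l, hPl⟩ x :=
    { two := hT
      BS := hBT
      B0B := h.B0B
      SB := hTS.trans h.SB
      SB0 := hTS.trans h.SB0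
      n4 := fun m => (f.bk m.1).n4 h
      FX := fun m => (f.bk m.1).inf_X h
      FB0 := fun m => (f.bk m.1).VB0
      perm := fun s hs i => by
        obtain ⟨j, e, -, -⟩ := h.perm s (hTS hs) i.1
        exact ⟨⟨j, (hsP s hs i.1 j e).1 i.2⟩, e, f.chi s (hTS hs) i.1 j e⟩
      tr := fun m => by
        obtain ⟨s, hs, e1, e2⟩ := f.conj l m.1 hPl m.2
        exact ⟨s, hs, e2, e1⟩
      RK := fun m => hRK m.1
      KR := fun m => hKR m.1
      KRB := fun m => hKRB m.1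
      RF := fun m p hp r hr f hf => (mem_centralizer_iff.1 (hRF m.1 p.1 (fun e => hp (Subtype.ext e)) hr) f hf).symm
      BW := B_norm_W h l
      BL := na_lines h (f.bk l) (f.na l)
      fx := by
        obtain ⟨y, hy, hy1, hc⟩ := fx h l
        exact ⟨y, hy, hy1, fun s hs hsW => hc s (hTS hs) hsW⟩
      mv := by
        obtain ⟨t, ht, -, w, hw, hne⟩ := h.exists_t l
        exact ⟨t, ht, w, hw, hne⟩
      syl := fun s hs hsW => syl_of h (f.bk l) s (hTS hs) hsW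
      zW := by
        rw [iSup_subtype']  at hxW
        exact hxW
      zn0 := fun i hi => (hxP i.1).2 i.2
        ((iSup₂_le fun p hp => h.fr.WjC i.1 p.1 (fun e => hp (Subtype.ext e.symm)) :
          (⨆ (p : {i // P i}) (_ : p ≠ i), W p.1) ≤ C i.1) hi)
      fact := fact x hx hx1 hxc }
  exact D.false

end Cfsg.Agent.Omega.OM.Lev.Low.TorusV

end

-- merged: Cfsg.Agent.Mrg.Omega.OM.SwapV.Torus.BaseV
section

/-!
# TORUS over `LnV` (box R): `M₀ = ⟨P*(S)⟩` normalises the levels `≤ n` (helper662)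

`hall` : `lev S n ≤ O₂(P)` for all `P ∈ P*(S)`.

* `norm_lev`, `norm_zc`, `norm_BL` : `MZ S` normalises `lev S m`, `X_m = Ω₁Z(lev S m)`, `B_m = C_S(X_m)` for `m ≤ n`;
* `MB S n = MZ S ⊓ N(B)`, `B = C_S(Ω₁Z(lev S (n+1)))`;
* `cQ` : `C_(X_j)(Q) ≤ V`, `j ≤ n`.
-/

set_option autoImplicit false
set_option linter.unusedSectionVars false

namespace Cfsg.Agent.Omega.OM.SwapV.TorusV

open Subgroup Cfsg Cfsg.Agent.Omega.MinPar Cfsg.Agent.ZN.ChoiceBase Cfsg.Agent.ZN.ChoiceSit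
open Cfsg.Agent.ZN (jj zj bau zc zl o2)
open Cfsg.Agent.Omega.NO3S.Level (lev lev_mono lev_isLev Lev lev_le)
open Cfsg.Agent.Omega.OM.SwapL (ZL BL)
open Cfsg.Agent.Omega.OM.SwapV.Lv (LnV)
open Cfsg.Agent.Omega.NOThreeL.Merge (MZ le_MZ S_le_MZ)
open Cfsg.Agent.Omega.OM.Lev.Low.SetS (S_norm_lev S_norm_zc S_norm_BL)

universe u

variable {G : Type u} [Group G] [Finite G] {S : Sylow 2 G} {n : ℕ}

/-- `M₀` normalises `lev S m`, `m ≤ n`. -/
theorem norm_lev (hall : ∀ P : Subgroup G, IsParS (S : Subgroup G) P → lev (S : Subgroup G) n ≤ o2 P) {m : ℕ}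
    (hm : m ≤ n) : MZ (S : Subgroup G) ≤ normalizer (lev (S : Subgroup G) m : Set G) :=
  sSup_le fun P hP => (lev_isLev (S : Subgroup G) m).le_norm_of_o2 ((lev_mono _ hm).trans (hall P hP))
    (IsLoc.o2_le S (IsParS.isLoc hP))

/-- `M₀` normalises `X_m`, `m ≤ n`. -/
theorem norm_zc (hall : ∀ P : Subgroup G, IsParS (S : Subgroup G) P → lev (S : Subgroup G) n ≤ o2 P) {m : ℕ}
    (hm : m ≤ n) : MZ (S : Subgroup G) ≤ normalizer (zc (lev (S : Subgroup G) m) : Set G) :=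
  (norm_lev hall hm).trans (NO3S.Level.normalizer_le_zc _)

/-- `M₀` normalises `C_S(X_m)`, `m ≤ n`. -/
theorem norm_BL (hG : IsCharacteristicTwoType G)
    (hall : ∀ P : Subgroup G, IsParS (S : Subgroup G) P → lev (S : Subgroup G) n ≤ o2 P) {m : ℕ}
    (hm : m ≤ n) : MZ (S : Subgroup G) ≤ normalizer (LevB.BL (S : Subgroup G) m : Set G) := by
  refine sSup_le fun P hP => ?_
  have hP' : IsParS (S : Subgroup G) P := hP
  have h1 : P ≤ normalizer (zc (lev (S : Subgroup G) m) : Set G) := (le_MZ hP).trans (norm_zc hall hm)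
  have h2 : zl (S : Subgroup G) P ≤ zc (lev (S : Subgroup G) m) :=
    MinSimple.VModule.zl_le (lev_isLev (S : Subgroup G) m).zc_le h1
  have h3 : LevB.BL (S : Subgroup G) m = o2 P ⊓ centralizer (zc (lev (S : Subgroup G) m) : Set G) := by
    rw [← hP'.inf_centralizer S hG, LevB.BL, inf_assoc, inf_eq_right.2 (centralizer_le h2)]
  intro g hg
  rw [mem_normalizer_iff_cj, h3, cj_inf, cj_centralizer, cj_eq_of_mem_normalizer (h1 hg),
    cj_eq_of_mem_normalizer (MinSimple.VModule.le_normalizer_o2 P hg)]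

/-- the group which replaces `S` in the transitivity -/
def MB (S : Subgroup G) (n : ℕ) : Subgroup G := MZ S ⊓ normalizer (BL S n : Set G)

/-- `C_(X_j)(Q) ≤ V` -/
theorem cQ {ι : Type} {V Q : Subgroup G} {L W Z C A : ι → Subgroup G} (h : LnV S V Q n L W Z C A) {j : ℕ}
    (hj : j ≤ n) {x : G} (hx : x ∈ zc (lev (S : Subgroup G) j)) (hc : ∀ y ∈ Q, y * x = x * y) : x ∈ V := by
  obtain ⟨h1, h2, -⟩ := mem_zc.1 hx
  have h3 : x ∈ lev (S : Subgroup G) n := lev_mono _ hj h1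
  exact h.fr.zcQ x (h.levQ h3) h2 fun y hy => (hc y hy).symm

end Cfsg.Agent.Omega.OM.SwapV.TorusV

end

-- merged: Cfsg.Agent.Mrg.Omega.OM.SwapV.Torus.InstV
section

/-!
# TORUS over `LnV` (box R): the instance of helper630's `TorusV.TK` (helper662)

The letter `S` of the frame is `MB S n = MZ S ⊓ N_G(B)`.

* `LocV` : the local fields (helper422);
* **`tk_of`**.
-/

set_option autoImplicit false
set_option linter.unusedSectionVars false

namespace Cfsg.Agent.Omega.OM.SwapV.TorusV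

open Subgroup Cfsg Cfsg.Agent.Omega.MinPar Cfsg.Agent.ZN.ChoiceBase Cfsg.Agent.ZN.ChoiceSit
open Cfsg.Agent.ZN (jj zj bau zc zl o2)
open Cfsg.Agent.Omega.NO3S.Level (lev lev_mono lev_isLev Lev lev_le)
open Cfsg.Agent.Omega.OM.SwapL (ZL BL lb)
open Cfsg.Agent.Omega.OM.SwapV.Lv (LnV)
open Cfsg.Agent.Omega.NOThreeL.Merge (MZ le_MZ S_le_MZ)
open Cfsg.Agent.Omega.OM.Lev.Low.SetS (S_norm_lev S_norm_zc S_norm_BL)
open Cfsg.Agent.Omega.OM.Lev.Low.TorusK (stM stY fml_of)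
open Cfsg.Agent.Omega.OM.Lev.Low.TorusV (TK Fml)
open Cfsg.Agent.Omega.NOThreeL.RTree (RB)

universe u

variable {G : Type u} [Group G]

/-- The local fields of `TK` (helper422). -/
structure LocV {ι : Type} (B ZJ B0 X : Subgroup G) (W Z C : ι → Subgroup G) : Prop where
  wt : ∀ g z, z ∈ ZJ → g * z * g⁻¹ ∈ ZJ → (∀ i, z ∉ C i) → ∀ i, g * z * g⁻¹ ∉ C i
  cjC : ∀ g ∈ normalizer (B : Set G), ∀ i j, cj g (W i) = W j → cj g (C i) = C j
  syl : ∀ l, ∀ T : Subgroup G, IsPGroup 2 T → B ≤ T → (∀ p, p ≠ l → T ≤ centralizer (Z p : Set G)) → T ≤ B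
  loc1 : ∀ l, ∃ E : Subgroup G, IsElementaryAbelian 2 E ∧ E ≤ B ∧ ZJ ≤ E ∧
    ∀ g, (∀ p, p ≠ l → ∀ x ∈ Z p, g * x = x * g) → g ∈ normalizer (E : Set G)
  loc2 : ∀ l m, l ≠ m → ∃ E : Subgroup G, IsElementaryAbelian 2 E ∧ (∀ e ∈ E, (∀ x ∈ X, e * x = x * e) → e ∈ B0) ∧
    (∀ x ∈ Z l, ∀ y ∈ Z m, x ≠ 1 → y ≠ 1 → x * y ∈ E) ∧
    ∀ g, (∀ p, p ≠ l → p ≠ m → ∀ x ∈ Z p, g * x = x * g) → g ∈ normalizer (E : Set G)

variable [Finite G] {S : Sylow 2 G} {n : ℕ}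

theorem S_le_MB (B : RB S) : (S : Subgroup G) ≤ MB (S : Subgroup G) n :=
  le_inf (S_le_MZ B.ctx B.full) (S_norm_BL S (n + 1))

/-- **The instance of `TK`.** -/
theorem tk_of {ι : Type} [Finite ι] {V Q : Subgroup G} {L W Z C A : ι → Subgroup G} (R : RB S)
    (h : LnV S V Q n L W Z C A)
    (hall : ∀ P : Subgroup G, IsParS (S : Subgroup G) P → lev (S : Subgroup G) n ≤ o2 P)
    (tr : ∀ i j, ∃ g ∈ MB (S : Subgroup G) n, cj g (W i) = W j) {j : ℕ} (hj : j ≤ n) {z : G}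
    (hz : z ∈ ZL (S : Subgroup G) n) (hzC : ∀ i, z ∉ C i)
    (hloc : LocV (BL (S : Subgroup G) n) (ZL (S : Subgroup G) n) (LevB.BL (S : Subgroup G) j)
      (zc (lev (S : Subgroup G) j)) W Z C) :
    TK (MB (S : Subgroup G) n) (BL (S : Subgroup G) n) Q V (zc (lev (S : Subgroup G) n))
      (ZL (S : Subgroup G) n) (LevB.BL (S : Subgroup G) j) (zc (lev (S : Subgroup G) j)) (stM (S : Subgroup G) j)
      (stY (S : Subgroup G) j) L W Z C A z where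
  fr := h.fr
  fml := fun U H hU hUB hUY hHU hHM => by
    obtain ⟨AA, hAA, -⟩ := fml_of S j U H hU hUB hUY hHU hHM
    exact ⟨_, AA, hAA⟩
  two := (lb S n).Bp
  BS := (lb S n).BS.trans (S_le_MB R)
  B0B := Lev.Low.BL_mono (S : Subgroup G) (by omega : j ≤ n + 1)
  SB := inf_le_right
  SB0 := inf_le_left.trans (norm_BL R.ctx.char2 hall hj)
  SX := inf_le_left.trans (norm_zc hall hj)
  zB := LevB.zc_B S j
  VX := h.fr.VX.trans ((lev_isLev (S : Subgroup G) j).zc_le_zc (lev_mono _ hj) (lev_le _ n))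
  XY := by
    cases j with
    | zero => exact le_top
    | succ m => exact (lev_isLev (S : Subgroup G) m).zc_le_zc (lev_mono _ (Nat.le_succ m)) (lev_le _ _)
  mX := fun s hs hc => mem_inf.2 ⟨(lb S n).BS hs, mem_centralizer_iff.2 fun x hx => (hc x hx).symm⟩
  cQ := fun x hx hc => cQ h hj hx hc
  SM := by
    cases j with
    | zero => exact le_top
    | succ m => exact inf_le_left.trans (norm_lev hall (by omega))
  MY := by
    cases j with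
    | zero =>
      show (⊤ : Subgroup G) ≤ normalizer (((⊤ : Subgroup G) : Subgroup G) : Set G)
      intro x _
      rw [mem_normalizer_iff]
      exact fun y => ⟨fun _ => mem_top _, fun _ => mem_top _⟩
    | succ m => exact NO3S.Level.normalizer_le_zc _
  perm := fun s hs i => by
    obtain ⟨k, h1, h2, -⟩ := Lv.perm h (mem_inf.1 hs).2 i
    exact ⟨k, h2, h1, hloc.cjC s (mem_inf.1 hs).2 i k h2⟩
  tr := tr
  wt := hloc.wt
  syl := hloc.syl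
  loc1 := hloc.loc1
  loc2 := hloc.loc2
  zJ := hz
  zS := fun s hs => Lv.comm_of_supp h (mem_inf.1 hs).2 hz fun i k _ => ⟨fun h1 => absurd h1 (hzC i),
    fun h1 => absurd h1 (hzC k)⟩
  zC := hzC

end Cfsg.Agent.Omega.OM.SwapV.TorusV

end

-- merged: Cfsg.Agent.Mrg.Omega.OM.LowV.Inst
section

/-!
# TORUS over the frame `LnV`: the instances of `BK` and `NA`

* `bk_of`, `na_of`;
* **`exists_bk`** : a minimal parabolic `R` over `B` of lower stage which moves `Ω₁Z(B)` has a torus block `BK`, if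
  `Tr W Z C` (`L i` is transitive on `W i` by elements which centralise `C i`).
-/

set_option autoImplicit false
set_option linter.unusedSectionVars false

namespace Cfsg.Agent.Omega.OM.LowV

open Subgroup Cfsg Cfsg.Agent.ZN.ChoiceBase Cfsg.Agent.ZN.ChoiceSit
open Cfsg.Agent.ZN (jj zj bau zc zl o2)
open Cfsg.Agent.MinSimple.MinParabolic (IsMinPar)
open Cfsg.Agent.Omega.OM.SwapL (ZL BL)
open Cfsg.Agent.Omega.OM.SwapV.Lv (LnV)
open Cfsg.Agent.Omega.NO3S.Level (lev lev_mono lev_isLev Lev lev_le BO nxt)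
open Cfsg.Agent.Omega.FrameFF (cv)
open Cfsg.Agent.Omega.OM.Lev.Low
open Cfsg.Agent.Omega.OM.Lev.Low.TorusK (BK NA stM stY)
open Cfsg.Agent.Omega.OM.Lev.Low.Line (Tr)

universe u

variable {G : Type u} [Group G] [Finite G]

section bk

variable {ι : Type} {S : Sylow 2 G} {V Q : Subgroup G} {n : ℕ} {L W Z C A : ι → Subgroup G} {R : Subgroup G}
  {j : ℕ} {K N₁ c : Subgroup G} {τ : G} {l : ι}

/-- `R` normalises the levels `< j` -/
theorem R_norm (h : Blk S V Q n L W Z C A R j K N₁ c τ l) {m : ℕ} (hm : m < j) :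
    R ≤ normalizer (lev (S : Subgroup G) m : Set G) :=
  (lev_isLev (S : Subgroup G) m).le_norm_of_o2 (h.low m hm) ((o2_le_syl h.syl).trans (SwapL.lb S n).BS)

/-- `⟨Ω₁Z(B)^R⟩ ≤ Ω₁Z(lev S m)`, `m < j` -/
theorem zl_le_lev (h : Blk S V Q n L W Z C A R j K N₁ c τ l) {m : ℕ} (hm : m < j) :
    zl (BL (S : Subgroup G) n) R ≤ zc (lev (S : Subgroup G) m) := by
  have h1 : zc (BL (S : Subgroup G) n) ≤ zc (lev (S : Subgroup G) m) := by
    have h2 : zc (BL (S : Subgroup G) n) = ZL (S : Subgroup G) n := h.ln.fr.zcB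
    rw [h2]
    exact (lev_isLev (S : Subgroup G) m).zc_le_zc (lev_mono _ (by have := h.jn; omega)) (lev_le _ _)
  refine iSup_le fun g => ?_
  have h2 := (R_norm h hm).trans (NO3S.Level.normalizer_le_zc _)
  have h3 := cj_mono (g : G) h1
  rwa [cj_eq_of_mem_normalizer (h2 g.2)] at h3

/-- **The instance of `BK`.** -/
theorem bk_of (h : Blk S V Q n L W Z C A R j K N₁ c τ l) (hW : ∀ m, m ≠ l → W m ≤ centralizer (K : Set G)) :
    BK (BL (S : Subgroup G) n) (LevB.BL (S : Subgroup G) j) (zc (lev (S : Subgroup G) j)) (stM (S : Subgroup G) j)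
      (stY (S : Subgroup G) j) W l K (zl (BL (S : Subgroup G) n) R) N₁ (cv (BL (S : Subgroup G) n) R) where
  pb := h.pb
  NY := by
    cases j with
    | zero => exact le_top
    | succ m => exact zl_le_lev h (Nat.lt_succ_self m)
  KM := by
    cases j with
    | zero => exact le_top
    | succ m => exact h.KR.trans (R_norm h (Nat.lt_succ_self m))
  WN := h.cW ▸ h.cN1
  WN0 := h.cW ▸ h.cD
  cW := fun p hp w hw k hk => mem_centralizer_iff.1 (hW p hp hw) k hk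
  BX := fun b hb => mem_normalizer_iff_cj.2 (h.fix b hb).1
  tor := by
    refine ⟨τ, h.τK, h.τB0, fun w hw => ?_, fun w hw => h.τ1 w (h.cW ▸ hw)⟩
    rw [← h.cW] at hw ⊢
    have h1 : τ * w * τ⁻¹ ∈ cj τ c := ⟨w, hw, rfl⟩
    rwa [h.τc] at h1

/-- **The instance of `NA`.** -/
theorem na_of (h : Blk S V Q n L W Z C A R j K N₁ c τ l) : NA (BL (S : Subgroup G) n) K (zl (BL (S : Subgroup G) n) R) :=
  ⟨h.nK, h.act⟩

end bk

/-- **The torus block of `R`.** -/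
theorem exists_bk {ι : Type} [Finite ι] [Nonempty ι] {S : Sylow 2 G} {V Q : Subgroup G} {n : ℕ}
    {L W Z C A : ι → Subgroup G} (h : LnV S V Q n L W Z C A) (htr : Tr W Z C) (two : ∀ i : ι, ∃ j, j ≠ i)
    {R : Subgroup G} (hP : IsMinPar (BL (S : Subgroup G) n) R) (hT : Syl (BL (S : Subgroup G) n) R)
    (hc : R ⊓ centralizer (o2 R : Set G) ≤ o2 R) (hn : ¬ lev (S : Subgroup G) n ≤ o2 R)
    (hZ : ¬ R ≤ centralizer (zc (BL (S : Subgroup G) n) : Set G)) :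
    ∃ j ≤ n, ∃ (l : ι) (K N N1 N0 : Subgroup G),
      BK (BL (S : Subgroup G) n) (LevB.BL (S : Subgroup G) j) (zc (lev (S : Subgroup G) j)) (stM (S : Subgroup G) j)
        (stY (S : Subgroup G) j) W l K N N1 N0 ∧ NA (BL (S : Subgroup G) n) K N := by
  obtain ⟨j, K, N₁, c, τ, l, hb, hW⟩ := exists_blk h two hP hT hc hn hZ
  exact ⟨j, hb.jn, l, K, _, N₁, _, bk_of hb (hW htr), na_of hb⟩

end Cfsg.Agent.Omega.OM.LowV

end

-- merged: Cfsg.Agent.Mrg.Omega.OM.SwapV.Torus.LocPlugV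
section

section


/-!
# TORUS over an abstract module `V` (box R): the instance of `LocV` (662) from `LocL` (422), and `TK` from it.
-/

set_option autoImplicit false

namespace Cfsg.Agent.Omega.OM.SwapV.TorusV

open Subgroup Cfsg Cfsg.Agent.ZN.ChoiceBase Cfsg.Agent.ZN.ChoiceSit
open Cfsg.Agent.ZN (zc o2)
open Cfsg.Agent.Omega.MinPar (IsParS)
open Cfsg.Agent.Omega.OM.SwapL (ZL BL lb)
open Cfsg.Agent.Omega.OM.SwapV.Lv (LnV)
open Cfsg.Agent.Omega.NO3S.Level (lev)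
open Cfsg.Agent.Omega.NOThreeL.RTree (RB)
open Cfsg.Agent.Omega.OM.Lev.Low.TorusV (TK)
open Cfsg.Agent.Omega.OM.Lev.Low.TorusK (stM stY)

universe u

variable {G : Type u} [Group G] [Finite G] {ι : Type} [Finite ι] {S : Sylow 2 G} {V Q : Subgroup G} {n : ℕ}
  {L W Z C A : ι → Subgroup G}

/-- The local inputs. -/
theorem locV_of (h : LnV S V Q n L W Z C A) (h3 : ∀ l m : ι, ∃ r, r ≠ l ∧ r ≠ m) (j : ℕ) :
    LocV (BL (S : Subgroup G) n) (ZL (S : Subgroup G) n) (LevB.BL (S : Subgroup G) j)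
      (zc (lev (S : Subgroup G) j)) W Z C where
  wt := LocL.wt h
  cjC := fun _ hg _ _ e => LocL.C_cj h hg e
  syl := LocL.syl h
  loc1 := LocL.loc1 h fun l => by
    obtain ⟨r, hr, -⟩ := h3 l l
    exact ⟨r, hr⟩
  loc2 := fun l m hlm => by
    obtain ⟨E, h1, h2, h4, h5⟩ := LocL.loc2 h h3 l m hlm
    exact ⟨E, h1, fun e he hc => mem_inf.2 ⟨h2 he, mem_centralizer_iff.2 fun x hx => (hc x hx).symm⟩, h4, h5⟩

/-- **The instance of `TK`**, local inputs discharged. -/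
theorem tk_of' (R : RB S) (h : LnV S V Q n L W Z C A) (h3 : ∀ l m : ι, ∃ r, r ≠ l ∧ r ≠ m)
    (hall : ∀ P : Subgroup G, IsParS (S : Subgroup G) P → lev (S : Subgroup G) n ≤ o2 P)
    (tr : ∀ i j, ∃ g ∈ MB (S : Subgroup G) n, cj g (W i) = W j) {j : ℕ} (hj : j ≤ n) {z : G}
    (hz : z ∈ ZL (S : Subgroup G) n) (hzC : ∀ i, z ∉ C i) :
    TK (MB (S : Subgroup G) n) (BL (S : Subgroup G) n) Q V (zc (lev (S : Subgroup G) n))
      (ZL (S : Subgroup G) n) (LevB.BL (S : Subgroup G) j) (zc (lev (S : Subgroup G) j)) (stM (S : Subgroup G) j)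
      (stY (S : Subgroup G) j) L W Z C A z :=
  tk_of R h hall tr hj hz hzC (locV_of h h3 j)

end Cfsg.Agent.Omega.OM.SwapV.TorusV

end

section


/-!
# NO-3L, box R: light pairs with a common letter (the socket `LL.NoCross`, helper400)

* `bz_of` : `LowV.Cross.BZ` from 646's `LowV.Blk`;
* **`noCross : LL.NoCross`**.
-/

set_option autoImplicit false
set_option linter.unusedSectionVars false

namespace Cfsg.Agent.Omega.NOThreeL.RRed.BFr.NoCross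

open Subgroup Cfsg Cfsg.Agent.Omega.MinPar Cfsg.Agent.ZN.ChoiceBase Cfsg.Agent.ZN.ChoiceSit
open Cfsg.Agent.ZN (zc zl o2 zj bau jj)
open Cfsg.Agent.MinSimple.MinParabolic (IsMinPar)
open Cfsg.Agent.Omega.NO3S.Level (lev lev_mono lev_isLev lev_le)
open Cfsg.Agent.Omega.OM.SwapL (ZL BL lb)
open Cfsg.Agent.Omega.OM.SwapV.Lv (LnV)
open Cfsg.Agent.Omega.OM.Lev.Low (TorusK.stM TorusK.stY)
open Cfsg.Agent.Omega.OM.LowV (Blk R_norm zl_le_lev)
open Cfsg.Agent.Omega.OM.LowV.Cross (BZ Gd)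
open Cfsg.Agent.Omega.FrameFF (cv)
open Cfsg.Agent.Omega.NOThreeL.RTree (RB)
open Cfsg.Agent.Omega.NOThreeL.Merge (MZ)

universe u

variable {G : Type u} [Group G] [Finite G] {ι : Type} {S : Sylow 2 G} {V Q : Subgroup G} {n : ℕ}
  {L W Z C A : ι → Subgroup G} {R : Subgroup G} {j : ℕ} {K N₁ c : Subgroup G} {τ : G} {l : ι}

/-- **The instance of `BZ`.** -/
theorem bz_of (h : Blk S V Q n L W Z C A R j K N₁ c τ l) :
    BZ (BL (S : Subgroup G) n) (OM.LevB.BL (S : Subgroup G) j) (zc (lev (S : Subgroup G) j))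
      (TorusK.stM (S : Subgroup G) j) (TorusK.stY (S : Subgroup G) j) W Z l K (zl (BL (S : Subgroup G) n) R) N₁
      (cv (BL (S : Subgroup G) n) R) where
  pb := h.pb
  NY := by
    cases j with
    | zero => exact le_top
    | succ m => exact zl_le_lev h (Nat.lt_succ_self m)
  KM := by
    cases j with
    | zero => exact le_top
    | succ m => exact h.KR.trans (R_norm h (Nat.lt_succ_self m))
  WN := h.cW ▸ h.cN1
  WN0 := h.cW ▸ h.cD
  cZ := fun p hp w hw k hk => mem_centralizer_iff.1 (h.ZK p hp hw) k hk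
  BX := fun b hb => mem_normalizer_iff_cj.2 (h.fix b hb).1
  tor := by
    refine ⟨τ, h.τK, h.τB0, fun w hw => ?_, fun w hw => h.τ1 w (h.cW ▸ hw)⟩
    rw [← h.cW] at hw ⊢
    have h1 : τ * w * τ⁻¹ ∈ cj τ c := ⟨w, hw, rfl⟩
    rwa [h.τc] at h1
  cc := h.cW ▸ h.cc

/-- **`NoCross`.** -/
theorem noCross : LL.NoCross.{u} := by
  intro G _ _ ι _ S V Q n L W Z C A RS hall h h3 hL hM hx R hP hT hc hn hZ
  have hne : Nonempty ι := by
    by_contra hcon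
    rw [not_nonempty_iff] at hcon
    apply hZ
    have h1 : zc (BL (S : Subgroup G) n) ≤ ⊥ := by
      rw [h.fr.zcB]
      intro z hz
      rw [mem_bot]
      exact h.fr.C0 z (h.fr.ZJV hz) fun i => (hcon.false i).elim
    intro y _
    rw [mem_centralizer_iff]
    intro z hz
    rw [mem_bot.1 (h1 hz)]
    group
  obtain ⟨j, K, N₁, c, τ, l, hB, -⟩ := OM.LowV.exists_blk h (fun i => by
    obtain ⟨r, hr, -⟩ := h3 i i
    exact ⟨r, hr⟩) hP hT hc hn hZ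
  obtain ⟨z, hz, hzC, -, -⟩ := OM.SwapV.TorusV.LocL.exists_z h
  have hj := hB.jn
  have hk := OM.SwapV.TorusV.tk_of' RS h h3 hall (fun i k => by
    obtain ⟨g, h1, h2, h4⟩ := hM i k
    exact ⟨g, mem_inf.2 ⟨h1, h2⟩, h4⟩) hj hz hzC
  have hb := bz_of hB
  obtain ⟨m, hm, g, hg, hgz, hgW⟩ := hx l
  apply hgW
  -- `g` normalises the levels
  have hQS : Q ≤ (S : Subgroup G) := h.fr.QB.trans (lb S n).BS
  have hlev : ∀ i, i ≤ n → g ∈ normalizer (lev (S : Subgroup G) i : Set G) := fun i hi =>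
    (lev_isLev (S : Subgroup G) i).norm Q ((lev_mono _ hi).trans h.levQ) hQS hg
  have hX : cj g (zc (lev (S : Subgroup G) j)) = zc (lev (S : Subgroup G) j) :=
    cj_eq_of_mem_normalizer (NO3S.Level.normalizer_le_zc _ (hlev j hj))
  have hB0 : OM.LevB.BL (S : Subgroup G) j = Q ⊓ centralizer (zc (lev (S : Subgroup G) j) : Set G) := by
    refine le_antisymm (le_inf ?_ inf_le_right) (inf_le_inf_right _ hQS)
    rw [TrCross.Q_eq h]
    exact le_inf hk.B0B (inf_le_right.trans (centralizer_le hk.VX))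
  refine hb.cjW hk ⟨?_, ?_, m, hm, hgz⟩
  · rw [mem_normalizer_iff_cj, hB0, cj_inf, cj_centralizer, hX, cj_eq_of_mem_normalizer hg]
  · cases j with
    | zero => exact mem_top _
    | succ i => exact hlev i (by omega)

end Cfsg.Agent.Omega.NOThreeL.RRed.BFr.NoCross

end

section


/-!
# TORUS over `LnV` (box R): `TorusV.TK` from `LnV` (helper662, over helper422's `LocPlugV.lean`)

**`tkV_of`** = `tk_of'`.
-/

set_option autoImplicit false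
set_option linter.unusedSectionVars false

namespace Cfsg.Agent.Omega.OM.SwapV.TorusV

open Subgroup Cfsg Cfsg.Agent.Omega.MinPar Cfsg.Agent.ZN.ChoiceBase Cfsg.Agent.ZN.ChoiceSit
open Cfsg.Agent.ZN (jj zj bau zc zl o2)
open Cfsg.Agent.Omega.NO3S.Level (lev lev_mono lev_isLev Lev lev_le)
open Cfsg.Agent.Omega.OM.SwapL (ZL BL lb)
open Cfsg.Agent.Omega.OM.SwapV.Lv (LnV)
open Cfsg.Agent.Omega.OM.Lev.Low.TorusK (stM stY)
open Cfsg.Agent.Omega.OM.Lev.Low.TorusV (TK)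
open Cfsg.Agent.Omega.NOThreeL.RTree (RB)

universe u

variable {G : Type u} [Group G] [Finite G] {S : Sylow 2 G} {n : ℕ} {ι : Type} [Finite ι] {V Q : Subgroup G}
  {L W Z C A : ι → Subgroup G}

/-- **The instance of `TK`.** -/
theorem tkV_of (R : RB S) (h : LnV S V Q n L W Z C A) (h3 : ∀ l m : ι, ∃ r, r ≠ l ∧ r ≠ m)
    (hall : ∀ P : Subgroup G, IsParS (S : Subgroup G) P → lev (S : Subgroup G) n ≤ o2 P)
    (tr : ∀ i j, ∃ g ∈ MB (S : Subgroup G) n, cj g (W i) = W j) {j : ℕ} (hj : j ≤ n) {z : G}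
    (hz : z ∈ ZL (S : Subgroup G) n) (hzC : ∀ i, z ∉ C i) :
    TK (MB (S : Subgroup G) n) (BL (S : Subgroup G) n) Q V (zc (lev (S : Subgroup G) n))
      (ZL (S : Subgroup G) n) (LevB.BL (S : Subgroup G) j) (zc (lev (S : Subgroup G) j)) (stM (S : Subgroup G) j)
      (stY (S : Subgroup G) j) L W Z C A z :=
  tk_of' R h h3 hall tr hj hz hzC

end Cfsg.Agent.Omega.OM.SwapV.TorusV

end

end

-- merged: Cfsg.Agent.Mrg.Omega.OM.SwapV.Torus.Main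
section

section


/-!
# NoTor (box R): no torus block over `LnV`, `k ≥ 3`

`M = MZ S ⊓ N(B)` is transitive on the lines, `lev S n ≤ O₂(P)` for all `P ∈ P*(S)`.

* `noTor` : there is no torus block `K` (helper607's `BK`) over a line `W l`.
-/

set_option autoImplicit false
set_option linter.unusedSectionVars false
set_option linter.unusedVariables false

namespace Cfsg.Agent.Omega.OM.SwapV.TorusV

open Subgroup Cfsg Cfsg.Agent.Omega.MinPar Cfsg.Agent.ZN.ChoiceBase Cfsg.Agent.ZN.ChoiceSit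
open Cfsg.Agent.ZN (jj zj bau zc zl o2)
open Cfsg.Agent.Omega.NO3S.Level (lev lev_mono lev_isLev Lev lev_le)
open Cfsg.Agent.Omega.OM.SwapL (ZL BL lb)
open Cfsg.Agent.Omega.OM.SwapV.Lv (LnV)
open Cfsg.Agent.Omega.NOThreeL.Merge (MZ le_MZ S_le_MZ)
open Cfsg.Agent.Omega.NOThreeL.RTree (RB)
open Cfsg.Agent.Omega.OM.Lev

universe u

variable {G : Type u} [Group G] [Finite G] {S : Sylow 2 G} {n : ℕ} {ι : Type} [Finite ι] {V Q : Subgroup G}
  {L W Z C A : ι → Subgroup G}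

/-- **NoTor**: there is no torus block. -/
theorem noTor (R : RB S)
    (hall : ∀ P : Subgroup G, IsParS (S : Subgroup G) P → lev (S : Subgroup G) n ≤ o2 P)
    (h : LnV S V Q n L W Z C A) (h3 : ∀ l m : ι, ∃ r, r ≠ l ∧ r ≠ m)
    (hL : ∀ i, L i ≤ MZ (S : Subgroup G))
    (hM : ∀ i j, ∃ g ∈ MZ (S : Subgroup G), g ∈ normalizer (BL (S : Subgroup G) n : Set G) ∧ cj g (W i) = W j)
    {j : ℕ} (hj : j ≤ n) {l : ι} {K N N1 N0 : Subgroup G}
    (k : Low.TorusK.BK (BL (S : Subgroup G) n) (LevB.BL (S : Subgroup G) j) (zc (lev (S : Subgroup G) j))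
      (Low.TorusK.stM (S : Subgroup G) j) (Low.TorusK.stY (S : Subgroup G) j) W l K N N1 N0)
    (a : Low.TorusK.NA (BL (S : Subgroup G) n) K N) : False := by
  obtain ⟨z, hz, hzC, -, -⟩ := LocL.exists_z h
  have tk := tkV_of R h h3 hall (fun i j => by
    obtain ⟨g, hg, hgB, e⟩ := hM i j
    exact ⟨g, mem_inf.2 ⟨hg, hgB⟩, e⟩) hj hz hzC
  have k' : Low.TorusV.BK (BL (S : Subgroup G) n) (LevB.BL (S : Subgroup G) j) (zc (lev (S : Subgroup G) j))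
      (Low.TorusK.stM (S : Subgroup G) j) (Low.TorusK.stY (S : Subgroup G) j) W l K N N1 N0 :=
    { pb := k.pb
      NY := k.NY
      KM := k.KM
      WN := k.WN
      WN0 := k.WN0
      cW := k.cW
      BX := k.BX
      tor := k.tor }
  refine Low.TorusV.false_orb tk S.isPGroup' (lb S n).BS (S_le_MB R) k' a ?_
  intro x hx hx1 hxc H hH hU
  have hxB : x ∈ BL (S : Subgroup G) n := (lb S n).ZB hx
  have hxS : x ∈ zc (S : Subgroup G) :=
    mem_zc.2 ⟨(lb S n).BS hxB, SQ1.Bau.elem_sq h.fr.el x (h.fr.ZJV hx), hxc⟩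
  exact LocL.fact S hall x hxS H hH hU j hj

end Cfsg.Agent.Omega.OM.SwapV.TorusV

end

section


/-!
# NO-3L, box R: the sockets of (LL) (`BFr/LL.lean`)

* `exBk` (helper646), `noTor` (helper630), `NoCross.noCross` (helper400); **`ll`**: (LL) without hypotheses.
-/

set_option autoImplicit false
set_option linter.unusedSectionVars false

namespace Cfsg.Agent.Omega.NOThreeL.RRed.BFr.LL

open Subgroup Cfsg Cfsg.Agent.Omega.MinPar Cfsg.Agent.Omega.Frame Cfsg.Agent.Omega.FrameNOFF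
open Cfsg.Agent.ZN.ChoiceBase Cfsg.Agent.ZN.ChoiceSit
open Cfsg.Agent.ZN (zc zl o2 zj bau jj)
open Cfsg.Agent.MinSimple.MinParabolic (IsMinPar)
open Cfsg.Agent.Omega.NO3S.Level (lev)
open Cfsg.Agent.Omega.OM.SwapL (ZL BL)
open Cfsg.Agent.Omega.OM.Lev.Uni (FrL)
open Cfsg.Agent.Omega.NOThreeL.RTree (RB)
open Cfsg.Agent.Omega.NOThreeL.Merge (MZ)

universe u

/-- `ExBk` (helper646). -/
theorem exBk : ExBk.{u} :=
  fun _ _ _ _ _ _ _ _ _ _ _ _ _ _ _ h htr two _ hP hT hc hn hZ => OM.LowV.exists_bk h htr two hP hT hc hn hZ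

/-- `NoTor` (helper630). -/
theorem noTor : NoTor.{u} :=
  fun _ _ _ _ _ _ _ _ _ _ _ _ _ _ R hall h h3 hL hM _ hj _ _ _ _ _ hk ha =>
    OM.SwapV.TorusV.noTor R hall h h3 hL hM hj hk ha

variable {G : Type u} [Group G] [Finite G] {ι : Type} [Finite ι] {S : Sylow 2 G} {n : ℕ} {Q : Subgroup G}
  {L W Z C A : ι → Subgroup G}

/-- **(LL)** over `B` in box R, stage `n`. -/
theorem ll (R : RB S)
    (fr : FrL (BL (S : Subgroup G) n) Q (Wd (S : Subgroup G)) (zc (lev (S : Subgroup G) n)) (ZL (S : Subgroup G) n)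
      L W Z C A 2) (hL : ∀ i, L i ≤ MZ (S : Subgroup G)) (h3 : ∀ l m : ι, ∃ r, r ≠ l ∧ r ≠ m)
    (hM : ∀ i j, ∃ g ∈ MZ (S : Subgroup G), g ∈ normalizer (BL (S : Subgroup G) n : Set G) ∧ cj g (W i) = W j)
    {Y : Subgroup G} (hY : IsMinPar (BL (S : Subgroup G) n) Y) (hs : Syl (BL (S : Subgroup G) n) Y)
    (hc : Y ⊓ centralizer (o2 Y : Set G) ≤ o2 Y)
    (hZ : ¬ Y ≤ centralizer (zc (BL (S : Subgroup G) n) : Set G)) : lev (S : Subgroup G) n ≤ o2 Y :=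
  ll_of exBk noTor NoCross.noCross R fr hL h3 hM hY hs hc hZ

end Cfsg.Agent.Omega.NOThreeL.RRed.BFr.LL

end

section


/-!
# NO-3L, box R: the stages over `V* = Wd S`, coordinate-free

* `Stg S n` : `V* ≤ Ω₁Z(lev S n)`, `⟨P*(S)⟩ ≤ N(lev S n)`, `lev S n ≤ C_S(V*)`, a best offender on `Ω₁Z(lev S n)` moves `V*`;
* `exists_stg` : `J(S)` moves `V*`, or `Stg S n` for some `n`, or all `lev S n` centralise `V*`;
* `MQ` : `⟨P*(S)⟩` normalises `C_S(V*)`;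
* `Stg.lvQ`, `lvQ_neg` : 461's level data `LvQ`;
* `Stg.ZJ_eq` : `C_{V*}(lev S (n + 1)) = Ω₁Z(lev S (n + 1))`; `ZJ_neg` : `C_{V*}(J(S)) = Ω₁Z(J(S))`.
-/

set_option autoImplicit false
set_option linter.unusedSectionVars false

namespace Cfsg.Agent.Omega.NOThreeL.RRed.BFr.StageQ

open Subgroup Cfsg Cfsg.Agent.Omega.MinPar Cfsg.Agent.Omega.Frame Cfsg.Agent.ZN.ChoiceBase
open Cfsg.Agent.ZN (jj zj bau zc zl o2)
open Cfsg.Agent.Omega.SQ1.Bau (mem_sup_comm card_sup_comm elem_comm elem_sq)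
open Cfsg.Agent.PLocal.ThompsonJ (isElementaryAbelian_iff)
open Cfsg.Agent.Omega.FFThm (ElemM)
open Cfsg.Agent.Omega.NO3S.OneLine (BFam bo bo_fam)
open Cfsg.Agent.Omega.NO3S.Level (lev Lev lev_isLev nxt BO)
open Cfsg.Agent.Omega.OM.SwapL (BL ZL)
open Cfsg.Agent.Omega.NOThreeL.RTree
open Cfsg.Agent.Omega.NOThreeL.Merge (MZ)
open Cfsg.Agent.Omega.NOThreeL.RRed.QFr (LvQ)

universe u

variable {G : Type u} [Group G] [Finite G] {S : Sylow 2 G}

/-- **The stage `n`.** -/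
structure Stg (S : Sylow 2 G) (n : ℕ) : Prop where
  VX : Wd (S : Subgroup G) ≤ zc (lev (S : Subgroup G) n)
  MK : MZ (S : Subgroup G) ≤ normalizer (lev (S : Subgroup G) n : Set G)
  levQ : lev (S : Subgroup G) n ≤ (S : Subgroup G) ⊓ centralizer (Wd (S : Subgroup G) : Set G)
  mv : ∃ A ∈ bo (S : Subgroup G) (zc (lev (S : Subgroup G) n)), ¬ A ≤ centralizer (Wd (S : Subgroup G) : Set G)

omit [Finite G] in
theorem zc_elem' (K : Subgroup G) : IsElementaryAbelian 2 (zc K) :=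
  isElementaryAbelian_iff.2 ⟨fun _ hx _ hy => (mem_zc.1 hy).2.2 _ (mem_zc.1 hx).1, fun _ hx => (mem_zc.1 hx).2.1⟩

theorem W_elem (B : RB S) : IsElementaryAbelian 2 (Wd (S : Subgroup G)) :=
  isElementaryAbelian_iff.2 ⟨fun x hx y hy => wcomm B x hx y hy, fun x hx => by rw [pow_two]; exact wsq B x hx⟩

/-- a level which centralises `V*` -/
theorem stg_of_cent {n : ℕ} (hc : lev (S : Subgroup G) n ≤ centralizer (Wd (S : Subgroup G) : Set G)) :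
    Wd (S : Subgroup G) ≤ zc (lev (S : Subgroup G) n) ∧
      MZ (S : Subgroup G) ≤ normalizer (lev (S : Subgroup G) n : Set G) := by
  have h1 : MZ (S : Subgroup G) ≤ normalizer (lev (S : Subgroup G) n : Set G) :=
    RLev.ys_norm (lev_isLev (S : Subgroup G) n) hc
  exact ⟨Cfsg.Agent.MinSimple.VModule.zl_le (lev_isLev (S : Subgroup G) n).zc_le
    (h1.trans (NO3S.Level.normalizer_le_zc _)), h1⟩

/-- **The stage exists, or all levels centralise `V*`.** -/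
theorem exists_stg : ¬ jj (S : Subgroup G) ≤ centralizer (Wd (S : Subgroup G) : Set G) ∨ (∃ n, Stg S n) ∨
    ∀ n, lev (S : Subgroup G) n ≤ centralizer (Wd (S : Subgroup G) : Set G) := by
  by_cases h0 : ∀ n, lev (S : Subgroup G) n ≤ centralizer (Wd (S : Subgroup G) : Set G)
  · exact Or.inr (Or.inr h0)
  push Not at h0
  classical
  obtain ⟨m, hm, hmin⟩ : ∃ m, ¬ lev (S : Subgroup G) m ≤ centralizer (Wd (S : Subgroup G) : Set G) ∧
      ∀ k < m, lev (S : Subgroup G) k ≤ centralizer (Wd (S : Subgroup G) : Set G) :=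
    ⟨Nat.find h0, Nat.find_spec h0, fun k hk => not_not.1 (Nat.find_min h0 hk)⟩
  rcases m with _ | n
  · exact Or.inl hm
  · right; left
    have h1 := hmin n (Nat.lt_succ_self n)
    obtain ⟨hV, hM⟩ := stg_of_cent h1
    refine ⟨n, hV, hM, le_inf (NO3S.Level.lev_le _ n) h1, ?_⟩
    by_contra hcon
    push Not at hcon
    apply hm
    show nxt _ _ ≤ _
    rw [nxt, NO3S.OneLine.bo_eq]
    exact sup_le (inf_le_right.trans (centralizer_le hV)) (sSup_le hcon)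

/-- **`⟨P*(S)⟩` normalises `C_S(V*)`.** -/
theorem M_norm : MZ (S : Subgroup G) ≤
    normalizer (((S : Subgroup G) ⊓ centralizer (Wd (S : Subgroup G) : Set G) : Subgroup G) : Set G) := by
  refine sSup_le fun P hP => ?_
  have hP' : IsParS (S : Subgroup G) P := hP
  have e : (S : Subgroup G) ⊓ centralizer (Wd (S : Subgroup G) : Set G) =
      o2 P ⊓ centralizer (Wd (S : Subgroup G) : Set G) := by
    apply le_antisymm
    · exact le_inf ((inf_le_inf_left _ (centralizer_le (zl_le_Wd hP'))).trans (RLev.cs_le_o2 hP')) inf_le_right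
    · exact inf_le_inf_right _ (hP'.isLoc.o2_le S)
  intro p hp
  rw [mem_normalizer_iff_cj, e, cj_inf, cj_centralizer,
    cj_eq_of_mem_normalizer (Cfsg.Agent.MinSimple.VModule.le_normalizer_o2 P hp),
    cj_eq_of_mem_normalizer (le_norm_Wd (le_MZ hP' hp))]

theorem MQ : ∀ g ∈ MZ (S : Subgroup G), ∀ x ∈ (S : Subgroup G) ⊓ centralizer (Wd (S : Subgroup G) : Set G),
    g * x * g⁻¹ ∈ (S : Subgroup G) := fun g hg x hx => ((mem_normalizer_iff.1 (M_norm hg) x).1 hx).1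

variable {ι : Type} {N : ι → Subgroup G}

/-- a mover of `V* ≤ ∏ N i` moves some `N i` -/
theorem mv_of (hN : Wd (S : Subgroup G) ≤ ⨆ i, N i) {A : Subgroup G}
    (hA : ¬ A ≤ centralizer (Wd (S : Subgroup G) : Set G)) : ∃ i, ¬ A ≤ centralizer (N i : Set G) := by
  by_contra hcon
  push Not at hcon
  apply hA
  have h1 : (⨆ i, N i) ≤ centralizer (A : Set G) := iSup_le fun i => le_centralizer_iff.1 (hcon i)
  exact le_centralizer_iff.1 (hN.trans h1)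

/-- **The level data, stage `n`.** -/
theorem Stg.lvQ {n : ℕ} (h : Stg S n) (hN : Wd (S : Subgroup G) ≤ ⨆ i, N i) :
    LvQ S (MZ (S : Subgroup G)) (Wd (S : Subgroup G)) N (zc (lev (S : Subgroup G) n))
      (normalizer (zc (lev (S : Subgroup G) n) : Set G)) (lev (S : Subgroup G) (n + 1))
      (bo (S : Subgroup G) (zc (lev (S : Subgroup G) n))) where
  ML := h.MK.trans (NO3S.Level.normalizer_le_zc _)
  fam := bo_fam _ _
  elX := zc_elem' _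
  VX := h.VX
  XS := fun x hx => NO3S.Level.lev_le _ n (mem_zc.1 hx).1
  MX g hg x hx := (mem_normalizer_iff.1 (NO3S.Level.normalizer_le_zc _ (h.MK hg)) x).1 hx
  AJ A hA := NO3S.Level.BO.le_nxt (by rw [NO3S.OneLine.bo_eq]; exact hA)
  JS := NO3S.Level.lev_le _ _
  Jg := by
    show nxt _ _ ≤ _
    rw [nxt, NO3S.OneLine.bo_eq]
    exact sup_le ((inf_le_inf_left _ (centralizer_le h.VX)).trans le_sup_right) le_sup_left
  mv := by
    obtain ⟨A, hA, hne⟩ := h.mv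
    obtain ⟨i, hi⟩ := mv_of hN hne
    exact ⟨i, A, hA, hi⟩

/-- `Ω₁Z(C_S(V*)) ≤ Ω₁Z(lev S n)` -/
theorem Stg.zcQ_le {n : ℕ} (h : Stg S n) :
    zc ((S : Subgroup G) ⊓ centralizer (Wd (S : Subgroup G) : Set G)) ≤ zc (lev (S : Subgroup G) n) := fun x hx => by
  have hx' := mem_zc.1 hx
  exact (lev_isLev (S : Subgroup G) n).mem_of_comm hx'.1.1 hx'.2.1 fun y hy => hx'.2.2 y (h.levQ hy)

/-- **`C_{V*}(lev S (n + 1)) = Ω₁Z(lev S (n + 1))`.** -/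
theorem Stg.ZJ_eq {n : ℕ} (B : RB S) (h : Stg S n)
    (hc : ∀ W : Subgroup G, W ≤ zc (lev (S : Subgroup G) n) →
      (∀ w ∈ W, ∀ j ∈ lev (S : Subgroup G) (n + 1), j * w = w * j) →
      (∀ s ∈ (S : Subgroup G), ∀ w ∈ W, s * w * s⁻¹ ∈ W) → W ≤ Wd (S : Subgroup G)) :
    ZJ (Wd (S : Subgroup G)) (lev (S : Subgroup G) (n + 1)) = ZL (S : Subgroup G) n := by
  apply le_antisymm
  · rintro v ⟨hv, hc'⟩
    refine mem_zc.2 ⟨NO3S.Level.lev_le_succ _ _ (mem_zc.1 (h.VX hv)).1, by rw [pow_two]; exact wsq B v hv, fun y hy => ?_⟩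
    exact mem_centralizer_iff.1 hc' y hy
  · have h1 : zc (lev (S : Subgroup G) (n + 1)) ≤ Wd (S : Subgroup G) := by
      refine hc _ ?_ (fun w hw j hj => (mem_zc.1 hw).2.2 j hj) fun s hs w hw => ?_
      · exact (lev_isLev (S : Subgroup G) n).zc_le_zc (NO3S.Level.lev_le_succ _ n) (NO3S.Level.lev_le _ _)
      · refine (mem_normalizer_iff.1 (NO3S.Level.normalizer_le_zc _
          ((lev_isLev (S : Subgroup G) (n + 1)).norm (S : Subgroup G) (NO3S.Level.lev_le _ _) le_rfl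
            (le_normalizer hs))) w).1 hw
    exact fun w hw => ⟨h1 hw, mem_centralizer_iff.2 fun j hj => (mem_zc.1 hw).2.2 j hj⟩

section neg

theorem le_zjQ {x : G} (hx : x ∈ zc ((S : Subgroup G) ⊓ centralizer (Wd (S : Subgroup G) : Set G))) :
    x ∈ zc (jj ((S : Subgroup G) ⊓ centralizer (Wd (S : Subgroup G) : Set G))) := by
  have h1 := mem_zc.1 hx
  have h2 : ∀ y ∈ jj ((S : Subgroup G) ⊓ centralizer (Wd (S : Subgroup G) : Set G)), y * x = x * y := fun y hy =>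
    h1.2.2 y (jj_le _ hy)
  exact mem_zc.2 ⟨mem_jj_of_comm h1.1 h1.2.1 h2, h1.2.1, h2⟩

theorem W_le_Q (B : RB S) : Wd (S : Subgroup G) ≤ (S : Subgroup G) ⊓ centralizer (Wd (S : Subgroup G) : Set G) :=
  le_inf (WS B) (Wd_abel B)

theorem W_le_X (B : RB S) :
    Wd (S : Subgroup G) ≤ zc (jj ((S : Subgroup G) ⊓ centralizer (Wd (S : Subgroup G) : Set G))) := fun v hv =>
  le_zjQ (mem_zc.2 ⟨W_le_Q B hv, by rw [pow_two]; exact wsq B v hv, fun y hy =>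
    (mem_centralizer_iff.1 hy.2 v hv).symm⟩)

/-- **The level data, stage `-1`.** -/
theorem lvQ_neg (B : RB S) (hj : ¬ jj (S : Subgroup G) ≤ centralizer (Wd (S : Subgroup G) : Set G))
    (hN : Wd (S : Subgroup G) ≤ ⨆ i, N i) :
    LvQ S (MZ (S : Subgroup G)) (Wd (S : Subgroup G)) N
      (zc (jj ((S : Subgroup G) ⊓ centralizer (Wd (S : Subgroup G) : Set G)))) ⊤ (jj (S : Subgroup G))
      (AA (S : Subgroup G)) where
  ML := le_top
  fam := by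
    have h1 := NO3S.Level.bfam_AA (S := S) (L := (⊤ : Subgroup G)) (zc_elem' (jj ((S : Subgroup G) ⊓
      centralizer (Wd (S : Subgroup G) : Set G)))) fun x hx => (jj_le _ (mem_zc.1 hx).1).1
    exact ⟨h1.le, h1.elem, h1.best, h1.cut, h1.conj⟩
  elX := zc_elem' _
  VX := W_le_X B
  XS := fun x hx => (jj_le _ (mem_zc.1 hx).1).1
  MX g hg x hx := (mem_normalizer_iff.1 (NO3S.Level.normalizer_le_zc _ (normalizer_le_jj _ (M_norm hg))) x).1 hx
  AJ A hA := le_jj hA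
  JS := jj_le _
  Jg := by
    rw [Cfsg.Agent.ZN.ChoiceBase.jj_eq]
    exact le_sup_left
  mv := by
    by_contra hcon
    push Not at hcon
    apply hj
    rw [Cfsg.Agent.ZN.ChoiceBase.jj_eq]
    refine sSup_le fun A hA => ?_
    by_contra hne
    obtain ⟨i, hi⟩ := mv_of hN hne
    exact hi (hcon i A hA)

/-- **`C_{V*}(J(S)) = Ω₁Z(J(S))`** : `Aq` some member of `A(S)` lies in `C_S(V*)`. -/
theorem ZJ_neg (B : RB S)
    (Aq : ∃ A ∈ AA (S : Subgroup G), A ≤ (S : Subgroup G) ⊓ centralizer (Wd (S : Subgroup G) : Set G))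
    (hc : ∀ W : Subgroup G, W ≤ zc (jj ((S : Subgroup G) ⊓ centralizer (Wd (S : Subgroup G) : Set G))) →
      (∀ w ∈ W, ∀ j ∈ jj (S : Subgroup G), j * w = w * j) →
      (∀ s ∈ (S : Subgroup G), ∀ w ∈ W, s * w * s⁻¹ ∈ W) → W ≤ Wd (S : Subgroup G)) :
    ZJ (Wd (S : Subgroup G)) (jj (S : Subgroup G)) = zj (S : Subgroup G) := by
  apply le_antisymm
  · rintro v ⟨hv, hc'⟩
    have h1 : ∀ y ∈ jj (S : Subgroup G), y * v = v * y := fun y hy => mem_centralizer_iff.1 hc' y hy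
    have h2 : v ^ 2 = 1 := by rw [pow_two]; exact wsq B v hv
    exact mem_zj.2 ⟨mem_jj_of_comm (WS B hv) h2 h1, h2, h1⟩
  · obtain ⟨A₀, hA₀, hAQ₀⟩ := Aq
    have hAQ : AA ((S : Subgroup G) ⊓ centralizer (Wd (S : Subgroup G) : Set G)) ⊆ AA (S : Subgroup G) := fun A hA =>
      ⟨hA.1, hA.2.1.trans inf_le_left, fun E hE hES => (hA₀.2.2 E hE hES).trans (hA.2.2 A₀ hA₀.1 hAQ₀)⟩
    have hBA : A₀ ∈ AA ((S : Subgroup G) ⊓ centralizer (Wd (S : Subgroup G) : Set G)) :=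
      ⟨hA₀.1, hAQ₀, fun E hE hEQ => hA₀.2.2 E hE (hEQ.trans inf_le_left)⟩
    have hjj : jj ((S : Subgroup G) ⊓ centralizer (Wd (S : Subgroup G) : Set G)) ≤ jj (S : Subgroup G) := by
      rw [Cfsg.Agent.ZN.ChoiceBase.jj_eq, Cfsg.Agent.ZN.ChoiceBase.jj_eq]
      exact sSup_le fun A hA => le_sSup (hAQ hA)
    have h1 : zj (S : Subgroup G) ≤ Wd (S : Subgroup G) := by
      refine hc _ (fun w hw => ?_) (fun w hw j hj => (mem_zj.1 hw).2.2 j hj) fun s hs w hw => ?_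
      · have hw' := mem_zj.1 hw
        have h2 : w ∈ A₀ := OM.Lev.Low.mem_of_AA hA₀ (jj_le _ hw'.1) hw'.2.1 fun y hy => hw'.2.2 y (le_jj hA₀ hy)
        exact mem_zc.2 ⟨le_jj hBA h2, hw'.2.1, fun y hy => hw'.2.2 y (hjj hy)⟩
      · have h2 := normalizer_le_of_cj (F := zj) zj_cj (S : Subgroup G) (le_normalizer hs)
        exact (mem_normalizer_iff.1 h2 w).1 hw
    exact fun w hw => ⟨h1 hw, mem_centralizer_iff.2 fun j hj => (mem_zj.1 hw).2.2 j hj⟩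

end neg

end Cfsg.Agent.Omega.NOThreeL.RRed.BFr.StageQ

end

end
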